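import Cfsg.Agent.H1.Asch.Points

/-!
# Commuting distinguished involutions at a point

`Clique`: no non-trivial product of pairwise commuting distinguished involutions at a point fixes
another point.  It passes to the two constructions of `Points` and, for a faithful action, follows
from the case of two factors.
-/

set_option autoImplicit false
set_option linter.style.haveILetI false

namespace Cfsg.Agent.H1.Asch.Red

open Subgroup MulAction
open Cfsg.Agent.H39
open Cfsg.Agent.H14.Asch

universe u v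

/-- No non-trivial product of commuting elements of `I` at a point fixes another point. -/
def Clique (G : Type u) [Group G] (Ω : Type v) [MulAction G Ω] (I : Set G) : Prop :=
  ∀ A : Set G, A ⊆ I → (∀ a ∈ A, ∀ b ∈ A, Commute a b) → ∀ p : Ω, (∀ a ∈ A, a • p = p) →
    ∀ g ∈ closure A, g ≠ 1 → ∀ q : Ω, g • q = q → q = p

variable {G : Type u} [Group G] {Ω : Type v} [MulAction G Ω] {I : Set G} {z : G}

theorem mem_zpowers_two {w g : G} (hw : orderOf w = 2) (hg : g ∈ zpowers w) : g = 1 ∨ g = w := by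
  obtain ⟨i, rfl⟩ := hg
  have hww : w ^ (2 : ℤ) = 1 := by rw [zpow_ofNat, pow_two, mul_self_of_orderOf_eq_two hw]
  rcases Int.even_or_odd i with ⟨j, rfl⟩ | ⟨j, rfl⟩
  · exact Or.inl (by show w ^ (j + j) = 1; rw [← two_mul, zpow_mul, hww, one_zpow])
  · exact Or.inr (by
      show w ^ (2 * j + 1) = w
      rw [zpow_add, zpow_mul, hww, one_zpow, one_mul, zpow_one])

theorem Clique.mono {J : Set G} (hc : Clique G Ω I) (hJ : J ⊆ I) : Clique G Ω J :=
  fun A hA => hc A (hA.trans hJ)

theorem Clique.restrict (hc : Clique G Ω I) {w : G} (S : Subgroup G) [MulAction S (fixedBy Ω w)]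
    (hact : ∀ (s : S) (x : fixedBy Ω w), (↑(s • x) : Ω) = (s : G) • x.1) :
    Clique S (fixedBy Ω w) (Subtype.val ⁻¹' I) := by
  intro A hA hcomm p hp g hg hg1 q hq
  refine Subtype.ext (hc (S.subtype '' A) (fun a ha => ?_) ?_ p.1 ?_ (g : G) ?_
    (fun e => hg1 (Subtype.ext e)) q.1 ((hact g q).symm.trans (congrArg Subtype.val hq)))
  · obtain ⟨a, ha, rfl⟩ := ha
    exact hA ha
  · rintro _ ⟨a, ha, rfl⟩ _ ⟨b, hb, rfl⟩
    exact congrArg Subtype.val (hcomm a ha b hb)
  · rintro _ ⟨a, ha, rfl⟩
    exact (hact a p).symm.trans (congrArg Subtype.val (hp a ha))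
  · rw [← MonoidHom.map_closure]
    exact ⟨g, hg, rfl⟩

namespace Setting

variable (h : Setting G Ω I z)
include h

theorem exists_ne_point (p : Ω) : ∃ q : Ω, q ≠ p := by
  obtain ⟨x, y, hxy⟩ := h.exists_ne
  by_cases e : x = p
  exacts [⟨y, fun e' => hxy (e.trans e'.symm)⟩, ⟨x, e⟩]

/-- Two elements of `I` congruent modulo an involution fixing all points are equal. -/
theorem eq_of_inv_mul_mem {w a b : G} (hw : orderOf w = 2) (hwc : ∀ g : G, Commute g w)
    (hall : ∀ p : Ω, w • p = p) (ha : a ∈ I) (hb : b ∈ I) (hab : a⁻¹ * b ∈ zpowers w) : a = b := by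
  have hw1 : w ≠ 1 := fun e => by rw [e, orderOf_one] at hw; exact absurd hw (by norm_num)
  by_contra hne
  have h1 : a⁻¹ * b = w := (mem_zpowers_two hw hab).resolve_left fun e =>
    hne (inv_mul_eq_one.mp e)
  have hba : b = a * w := by rw [← h1, mul_inv_cancel_left]
  obtain ⟨p, hp, -⟩ := h.unique ha
  obtain ⟨q, hq⟩ := h.exists_ne_point p
  refine hq (h.prod ha hb hne (hba ▸ (Commute.refl a).mul_right (hwc a)) hp ?_)
  rw [hba, ← mul_assoc, mul_self_of_orderOf_eq_two (h.inv ha), one_mul, hall]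

/-- The clique condition passes to the quotient by a central involution fixing all points. -/
theorem clique_quotient (hc : Clique G Ω I) {w : G} [(zpowers w).Normal]
    (hwc : ∀ g : G, Commute g w) (hw : orderOf w = 2) (hall : ∀ p : Ω, w • p = p)
    [MulAction (G ⧸ zpowers w) Ω]
    (hact : ∀ (g : G) (p : Ω), (QuotientGroup.mk g : G ⧸ zpowers w) • p = g • p) :
    Clique (G ⧸ zpowers w) Ω (QuotientGroup.mk '' I) := by
  intro A hA hcomm p hp g hg hg1 q hq
  set π := QuotientGroup.mk' (zpowers w) with hπ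
  set B := I ∩ π ⁻¹' A with hB
  have hsub : A ⊆ π '' B := fun a ha => by
    obtain ⟨b, hb, rfl⟩ := hA ha
    exact ⟨b, ⟨hb, ha⟩, rfl⟩
  have hg' : g ∈ (closure B).map π := by
    rw [MonoidHom.map_closure]
    exact closure_mono hsub hg
  obtain ⟨k, hk, rfl⟩ := hg'
  refine hc B Set.inter_subset_left (fun a ha b hb => ?_) p (fun a ha => ?_) k hk
    (fun e => hg1 (by rw [e, map_one])) q ((hact k q).symm.trans hq)
  · refine (mul_inv_eq_iff_eq_mul.mp
      (h.eq_of_inv_mul_mem hw hwc hall (h.conj_mem ha.1 b) ha.1 ?_)).symm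
    refine (QuotientGroup.eq).mp ?_
    show π (b * a * b⁻¹) = π a
    rw [map_mul, map_mul, map_inv]
    exact mul_inv_eq_iff_eq_mul.mpr (hcomm _ ha.2 _ hb.2).symm.eq
  · exact (hact a p).symm.trans (hp (π a) ha.2)

variable [Finite G] [Finite Ω]

omit [Finite Ω] in
/-- A member commuting with a non-identity `x` such that `x * a` fixes a point moved by `x`. -/
theorem exists_shift {x : G} (hx : x * x = 1) {c : Ω} (hc : x • c ≠ c) :
    ∃ a ∈ conjugatesOf z, Commute a x ∧ (x * a) • c = c := by
  obtain ⟨d, hd, hdc⟩ := h.exists_at c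
  set d' := x * d * x⁻¹ with hd'
  have hd'm : d' ∈ conjugatesOf z := h.conj_conj hd x
  have hd'c : d' • (x • c) = x • c := H73.Bender.conj_smul_of_smul hdc
  have hd2 := h.inv (h.subset hd)
  have hd'2 := h.inv (h.subset hd'm)
  obtain ⟨k, hk, -, -, hkc⟩ := exists_conj_of_odd hd2 hd'2
    (h.odd_orderOf_mul hd hd'm hdc hd'c (Ne.symm hc))
  obtain ⟨i, hi⟩ := hk
  simp only at hi
  have hxx : x⁻¹ = x := inv_eq_of_mul_eq_one_right hx
  have hdd : d⁻¹ = d := inv_eq_of_orderOf_eq_two hd2
  have hcd : d * (d' * d) * d⁻¹ = (d' * d)⁻¹ := by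
    rw [mul_inv_rev, inv_eq_of_orderOf_eq_two hd'2, hdd, mul_assoc, mul_assoc,
      mul_self_of_orderOf_eq_two hd2, mul_one]
  have hcx : x * (d' * d) * x⁻¹ = (d' * d)⁻¹ := by
    rw [mul_inv_rev, inv_eq_of_orderOf_eq_two hd'2, hdd, hd', hxx]
    calc x * (x * d * x * d) * x = (x * x) * d * (x * d * x) := by group
      _ = d * (x * d * x) := by rw [hx, one_mul]
  set a := k * d with ha
  -- the middle reflection
  have hkd : d * k * d⁻¹ = k⁻¹ := by rw [← hi, ← conj_zpow, hcd, inv_zpow]
  have hkx : x * k * x⁻¹ = k⁻¹ := by rw [← hi, ← conj_zpow, hcx, inv_zpow]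
  have hk2 : d' = k * (k * d) := by
    rw [← hkc]
    calc k * d * k⁻¹ = k * (d * k⁻¹ * d⁻¹) * d := by group
      _ = k * (d * k * d⁻¹)⁻¹ * d := by group
      _ = k * (k * d) := by rw [hkd, inv_inv, mul_assoc]
  have hax : Commute a x := by
    refine (mul_inv_eq_iff_eq_mul.mp ?_ : x * a = a * x).symm
    calc x * a * x⁻¹ = (x * k * x⁻¹) * (x * d * x⁻¹) := by rw [ha]; group
      _ = a := by rw [hkx, ← hd', hk2, inv_mul_cancel_left]
  refine ⟨a, ?_, hax, ?_⟩
  · -- odd order of the rotation
    have hj : ∃ n : ℤ, (k ^ n * d) = a ∧ Even n := by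
      obtain ⟨j, hj⟩ := (show Odd (orderOf k) from
        (h.odd_orderOf_mul hd hd'm hdc hd'c (Ne.symm hc)).of_dvd_nat
          (hi ▸ orderOf_dvd_of_mem_zpowers ⟨i, rfl⟩))
      refine ⟨1 + orderOf k, by rw [zpow_add, zpow_one, zpow_natCast, pow_orderOf_eq_one, mul_one],
        j + 1, by rw [hj]; push_cast; ring⟩
    obtain ⟨n, hn, m, hm⟩ := hj
    rw [← hn, hm]
    have e : k ^ (m + m) * d = k ^ m * d * (k ^ m)⁻¹ := by
      rw [zpow_add, mul_assoc, mul_assoc]
      congr 1
      calc k ^ m * d = (d * k ^ m * d⁻¹)⁻¹ * d := by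
            rw [← conj_zpow, hkd, inv_zpow, inv_inv]
        _ = d * (k ^ m)⁻¹ := by group
    rw [e]
    exact h.conj_conj hd _
  · have hac : a • c = k • c := by rw [ha, mul_smul, hdc]
    have hkp : k • c = x • c := (h.unique (h.subset hd'm)).unique
      (hkc ▸ H73.Bender.conj_smul_of_smul hdc) hd'c
    rw [mul_smul, hac, hkp, ← mul_smul, hx, one_smul]

end Setting

/-- For a faithful action the clique condition follows from the case of two factors. -/
theorem Setting.clique_of_faithful [Finite G] [Finite Ω]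
    (h : Setting G Ω (conjugatesOf z) z) (hf : ∀ g : G, (∀ c : Ω, g • c = c) → g = 1) :
    Clique G Ω (conjugatesOf z) := by
  intro A hA hcomm p hp g hg hg1 q hq
  by_contra hqp
  have hlist : ∃ l : List G, (∀ a ∈ l, a ∈ A) ∧ l.prod = g := by
    obtain ⟨l, hl, hlp⟩ := Submonoid.exists_list_of_mem_closure
      ((Subgroup.closure_toSubmonoid A).le hg)
    refine ⟨l, fun a ha => ?_, hlp⟩
    rcases hl a ha with h1 | h1
    · exact h1
    · rwa [Set.mem_inv, inv_eq_of_orderOf_eq_two] at h1
      rw [← orderOf_inv]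
      exact h.inv (hA h1)
  have hsq : ∀ y ∈ closure A, y * y = 1 := fun y hy => by
    induction hy using Subgroup.closure_induction with
    | mem a ha => exact mul_self_of_orderOf_eq_two (h.inv (hA ha))
    | one => exact mul_one 1
    | mul a b ha hb h1 h2 =>
      haveI := Subgroup.isMulCommutative_closure fun a ha b hb => (hcomm a ha b hb).eq
      have hab : Commute a b :=
        congrArg Subtype.val (mul_comm' (⟨a, ha⟩ : closure A) ⟨b, hb⟩)
      rw [hab.symm.mul_mul_mul_comm, h1, h2, one_mul]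
    | inv a _ h1 => rw [← mul_inv_rev, h1, inv_one]
  obtain ⟨l, hl, rfl⟩ := hlist
  induction l generalizing q with
  | nil => exact hg1 List.prod_nil
  | cons d l ih =>
    have hdA := hl d (List.mem_cons_self ..)
    have hd := hA hdA
    have hlA : ∀ a ∈ l, a ∈ A := fun a ha => hl a (List.mem_cons_of_mem _ ha)
    set x := (d :: l).prod with hx
    have hxA : x ∈ closure A := Subgroup.list_prod_mem _ fun a ha => subset_closure (hl a ha)
    have hxd : Commute d x := by
      refine Commute.list_prod_right _ _ fun a ha => hcomm d hdA a (hl a ha)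
    have hxx : x * x = 1 := hsq x hxA
    have hxp : x • p = p := h.fix_of_commute hd hxd.symm (hp d hdA)
    obtain ⟨c, hc⟩ : ∃ c : Ω, x • c ≠ c := by
      by_contra hall
      push Not at hall
      exact hg1 (hf x hall)
    obtain ⟨a, ha, hax, hfc⟩ := h.exists_shift hxx hc
    obtain ⟨r, hr, -⟩ := h.unique ha
    have hxr : x • r = r := h.fix_of_commute ha hax.symm hr
    have hrc : r ≠ c := fun e => hc (e ▸ hxr)
    -- the centraliser carries `a` to `d`
    have hmem : ∀ {e : G}, Commute e x → e ∈ centralizer ({x} : Set G) := fun he =>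
      mem_centralizer_singleton_iff.mpr he.eq
    obtain ⟨k, hkx, hka⟩ : ∃ k ∈ centralizer ({x} : Set G), k * a * k⁻¹ = d := by
      by_cases hrp : r = p
      · obtain ⟨f, hf', hfq, hfc'⟩ := h.exists_commute_at hxx hq
        obtain ⟨k, hk, hk1, -⟩ := h.exists_conj_at ha hf' hr hfq
          (fun e => hqp (e.symm.trans hrp)) (hmem hax) (hmem hfc'.symm)
        obtain ⟨k', hk', hk'1, -⟩ := h.exists_conj_at hf' hd hfq (hp d hdA) hqp
          (hmem hfc'.symm) (hmem hxd)
        exact ⟨k' * k, mul_mem hk' hk, by rw [← hk'1, ← hk1]; group⟩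
      · obtain ⟨k, hk, hk1, -⟩ := h.exists_conj_at ha hd hr (hp d hdA) hrp (hmem hax) (hmem hxd)
        exact ⟨k, hk, hk1⟩
    have hlx : l.prod = x * d := by
      rw [← hxd.eq, hx, List.prod_cons, ← mul_assoc,
        mul_self_of_orderOf_eq_two (h.inv hd), one_mul]
    have hxk : k * x * k⁻¹ = x :=
      mul_inv_eq_iff_eq_mul.mpr (mem_centralizer_singleton_iff.mp hkx)
    have hfixk : (x * d) • (k • c) = k • c := by
      have e : x * d = k * (x * a) * k⁻¹ := by
        conv_lhs => rw [← hka, ← hxk]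
        group
      rw [e]
      exact H73.Bender.conj_smul_of_smul hfc
    have hkc : k • c ≠ p := fun e => by
      have hkr : k • r = p := (h.unique hd).unique
        (hka ▸ H73.Bender.conj_smul_of_smul hr) (hp d hdA)
      exact hrc (MulAction.injective k (hkr.trans e.symm))
    rw [← hlx] at hfixk
    refine hkc (Classical.byContradiction fun hne => ?_)
    have h1 : l.prod ≠ 1 := fun e => by
      rw [hlx] at e
      refine hc ?_
      have hxd' : x = d := (mul_eq_one_iff_eq_inv.mp e).trans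
        (inv_eq_of_orderOf_eq_two (h.inv hd))
      exact absurd ((h.unique hd).unique (hxd' ▸ hq) (hp d hdA)) hqp
    exact ih (k • c) hne hlA (Subgroup.list_prod_mem _ fun a ha => subset_closure (hlA a ha)) h1 hfixk

end Cfsg.Agent.H1.Asch.Red
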