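import Cfsg.Agent.H1.Asch.SinglePoint
import Cfsg.Agent.Bridge.Bender
import Cfsg.Agent.Coprime.Action
import Cfsg.Agent.H14.Asch.RankOne
import Cfsg.Prelude.Def_TwoFusion
import Mathlib.GroupTheory.SchurZassenhaus

/-!
# A strongly closed subgroup above a strongly embedded normal subgroup

A normal subgroup `K` whose involutions fix one point each and a subgroup `S`, strongly closed in a
Sylow 2-subgroup `T` at the point, whose involutions are exactly those of `T ⊓ K`: if `K` has a four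
group, `S ≤ K`.
-/

set_option autoImplicit false
set_option linter.style.haveILetI false

namespace Cfsg.Agent.H1.Asch.Red

open Subgroup MulAction
open Cfsg.Agent.H39
open Cfsg.Agent.H73.Bender (SE RankTwo Faithful)
open scoped commutatorElement

universe u

/-- A normal subgroup without involutions fixing two points and a strongly closed subgroup with
the same involutions at the point. -/
structure ClosedCtx (G : Type u) [Group G] (Ω : Type u) [MulAction G Ω] (K : Subgroup G)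
    (T : Sylow 2 G) (S : Subgroup G) (a : Ω) : Prop where
  normal : K.Normal
  closed : Cfsg.IsStronglyClosed S (T : Subgroup G)
  nobad : ∀ t ∈ K, orderOf t = 2 → ∀ x y : Ω, t • x = x → t • y = y → x = y
  trans : ∀ x y : Ω, ∃ k ∈ K, k • x = y
  fixT : ∀ g ∈ (T : Subgroup G), g • a = a
  exists_ne : ∃ x y : Ω, x ≠ y
  invMem : ∀ s ∈ S, orderOf s = 2 → s ∈ K
  inv_S : ∀ s ∈ (T : Subgroup G), s ∈ K → orderOf s = 2 → s ∈ S
  four : ∃ i ∈ K, ∃ j ∈ K, orderOf i = 2 ∧ orderOf j = 2 ∧ i ≠ j ∧ Commute i j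

/-- An odd subgroup of `Y` covering `Y` modulo a normal Sylow 2-subgroup. -/
theorem exists_odd_cover {G : Type u} [Group G] [Finite G] {P Y : Subgroup G} (hP : IsPGroup 2 P)
    (hle : P ≤ Y) (hn : Y ≤ normalizer (P : Set G)) (hodd : Odd (P.relIndex Y)) :
    ∃ X : Subgroup G, X ≤ Y ∧ Odd (Nat.card X) ∧ ∀ y ∈ Y, ∃ p ∈ P, ∃ x ∈ X, p * x = y := by
  haveI : Fact (Nat.Prime 2) := ⟨Nat.prime_two⟩
  haveI : (P.subgroupOf Y).Normal :=
    ⟨fun x hx y => (mem_normalizer_iff.mp (hn y.2) _).mp hx⟩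
  obtain ⟨n, hn'⟩ := IsPGroup.iff_card.mp hP
  have hcop : Nat.Coprime (Nat.card (P.subgroupOf Y)) (P.subgroupOf Y).index := by
    rw [Nat.card_congr (Subgroup.subgroupOfEquivOfLe hle).toEquiv, hn']
    exact (Nat.coprime_two_left.mpr hodd).pow_left n
  obtain ⟨X, hX⟩ := exists_right_complement'_of_coprime hcop
  refine ⟨X.map Y.subtype, map_subtype_le X, ?_, fun y hy => ?_⟩
  · rw [Subgroup.card_map_of_injective Y.subtype_injective, ← hX.symm.index_eq_card]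
    exact hodd
  · obtain ⟨⟨p, x⟩, h⟩ := hX.2 ⟨y, hy⟩
    exact ⟨((p : Y) : G), p.2, ((x : Y) : G), ⟨(x : Y), x.2, rfl⟩, congrArg Subtype.val h⟩

/-- In a normal subgroup without involutions fixing two points the involutions are conjugate. -/
theorem exists_conj_of_nobad {G : Type u} [Group G] [Finite G] {Ω : Type u} [MulAction G Ω]
    [Finite Ω] {K : Subgroup G}
    (hnb : ∀ t ∈ K, orderOf t = 2 → ∀ x y : Ω, t • x = x → t • y = y → x = y)
    (htr : ∀ x y : Ω, ∃ k ∈ K, k • x = y) (hne : ∃ x y : Ω, x ≠ y) (hodd : Odd (Nat.card Ω))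
    {i j : G} (hi : i ∈ K) (hi2 : orderOf i = 2) (hj : j ∈ K) (hj2 : orderOf j = 2) :
    ∃ k ∈ K, k * i * k⁻¹ = j := by
  have hfix : ∀ {t : G}, orderOf t = 2 → ∃ p : Ω, t • p = p := fun {t} ht =>
    exists_fixed_of_odd (f := fun p : Ω => t • p) (fun p => by
      show t • t • p = p
      rw [← mul_smul, mul_self_of_orderOf_eq_two ht, one_smul]) hodd
  have key : ∀ {i j : G}, i ∈ K → orderOf i = 2 → j ∈ K → orderOf j = 2 → ∀ {p q : Ω},
      i • p = p → j • q = q → p ≠ q → ∃ k ∈ K, k * i * k⁻¹ = j := by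
    intro i j hi hi2 hj hj2 p q hp hq hpq
    rcases Nat.even_or_odd (orderOf (j * i)) with he | ho
    · exfalso
      obtain ⟨w, hw2, hwz, hwi, hwj⟩ := exists_central_involution hi2 hj2 he
      have hw : w ∈ K := zpowers_le.mpr (mul_mem hj hi) hwz
      refine hpq (hnb w hw hw2 p q ?_ ?_)
      · exact hnb i hi hi2 _ _ (by rw [← mul_smul, ← hwi.eq, mul_smul, hp]) hp
      · exact hnb j hj hj2 _ _ (by rw [← mul_smul, ← hwj.eq, mul_smul, hq]) hq
    · obtain ⟨k, hk, -, -, hkc⟩ := exists_conj_of_odd hi2 hj2 ho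
      exact ⟨k, zpowers_le.mpr (mul_mem hj hi) hk, hkc⟩
  obtain ⟨p, hp⟩ := hfix hi2
  obtain ⟨q, hq⟩ := hfix hj2
  by_cases hpq : p = q
  swap
  · exact key hi hi2 hj hj2 hp hq hpq
  obtain ⟨r, hr⟩ : ∃ r : Ω, r ≠ p := by
    obtain ⟨x, y, hxy⟩ := hne
    by_cases e : x = p
    exacts [⟨y, fun e' => hxy (e.trans e'.symm)⟩, ⟨x, e⟩]
  obtain ⟨m, hm, hmr⟩ := htr p r
  have hm2 : orderOf (m * i * m⁻¹) = 2 := by rw [H39.orderOf_conj, hi2]
  have hmi : m * i * m⁻¹ ∈ K := mul_mem (mul_mem hm hi) (Subgroup.inv_mem _ hm)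
  obtain ⟨k, hk, hkj⟩ := key hmi hm2 hj hj2 (hmr ▸ H73.Bender.conj_smul_of_smul hp) hq
    (fun e => hr (e.trans hpq.symm))
  exact ⟨k * m, mul_mem hk hm, by rw [← hkj]; group⟩

namespace ClosedCtx

variable {G : Type u} [Group G] [Finite G] {Ω : Type u} [MulAction G Ω] [Finite Ω] {K : Subgroup G}
  {T : Sylow 2 G} {S : Subgroup G} {a : Ω} (C : ClosedCtx G Ω K T S a)
include C

omit [Finite G] [Finite Ω] in
theorem conj_mem {k : G} (hk : k ∈ K) (g : G) : g * k * g⁻¹ ∈ K := C.normal.conj_mem k hk g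

omit [Finite Ω] in
/-- A two-element of `K` fixing two points is trivial. -/
theorem eq_one_of_fix {t : G} {n : ℕ} (ht : t ∈ K) (h2 : orderOf t = 2 ^ n) {x y : Ω} (hxy : x ≠ y)
    (hx : t • x = x) (hy : t • y = y) : t = 1 := by
  rcases n with _ | n
  · rwa [pow_zero, orderOf_eq_one_iff] at h2
  exfalso
  have hj : orderOf (t ^ 2 ^ n) = 2 := by
    rw [orderOf_pow' _ (by positivity), h2,
      Nat.gcd_eq_right (pow_dvd_pow 2 n.le_succ), pow_succ', Nat.mul_div_cancel _ (by positivity)]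
  exact hxy (C.nobad _ (K.pow_mem ht _) hj x y
    (pow_mem (show t ∈ stabilizer G x from hx) _) (pow_mem (show t ∈ stabilizer G y from hy) _))

omit [Finite Ω] in
/-- An element of `S` fixing two points is trivial. -/
theorem eq_one_of_mem {s : G} (hs : s ∈ S) {c : Ω} (hca : c ≠ a) (hc : s • c = c) : s = 1 := by
  haveI : Fact (Nat.Prime 2) := ⟨Nat.prime_two⟩
  by_contra hs1
  have hp : IsPGroup 2 S := T.isPGroup'.to_le C.closed.1
  obtain ⟨n, hn⟩ := IsPGroup.iff_orderOf.mp hp ⟨s, hs⟩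
  rw [Subgroup.orderOf_mk] at hn
  rcases n with _ | n
  · exact hs1 (orderOf_eq_one_iff.mp hn)
  have hj : orderOf (s ^ 2 ^ n) = 2 := by
    rw [orderOf_pow' _ (by positivity), hn,
      Nat.gcd_eq_right (pow_dvd_pow 2 n.le_succ), pow_succ', Nat.mul_div_cancel _ (by positivity)]
  exact hca (C.nobad _ (C.invMem _ (S.pow_mem hs _) hj) hj c a
    (pow_mem (show s ∈ stabilizer G c from hc) _) (C.fixT _ (C.closed.1 (S.pow_mem hs _))))

omit [Finite Ω] in
/-- The Sylow subgroup `T ⊓ K` of `K`. -/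
theorem exists_sylow : ∃ R : Sylow 2 K, (R : Subgroup K) = ((T : Subgroup G) ⊓ K).subgroupOf K := by
  haveI : Fact (Nat.Prime 2) := ⟨Nat.prime_two⟩
  have hp : IsPGroup 2 ↥(((T : Subgroup G) ⊓ K).subgroupOf K) :=
    (T.isPGroup'.to_le inf_le_left).comap_subtype
  obtain ⟨R, hR⟩ := hp.exists_le_sylow
  refine ⟨R, (Subgroup.eq_of_le_of_card_ge hR ?_).symm⟩
  obtain ⟨T', hT'⟩ := (R.isPGroup'.map K.subtype).exists_le_sylow
  obtain ⟨g, rfl⟩ := exists_smul_eq G T T'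
  rw [← Subgroup.card_map_of_injective (K := (R : Subgroup K)) K.subtype_injective,
    Nat.card_congr (Subgroup.subgroupOfEquivOfLe inf_le_right).toEquiv,
    ← Subgroup.card_map_of_injective (K := (T : Subgroup G) ⊓ K) (f := (MulAut.conj g).toMonoidHom) (MulAut.conj g).injective]
  refine Subgroup.card_le_of_le fun x hx => ?_
  have hxK : x ∈ K := map_subtype_le _ hx
  have hxT := hT' hx
  rw [Sylow.coe_subgroup_smul] at hxT
  obtain ⟨t, ht, rfl⟩ := hxT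
  refine ⟨t, ⟨ht, ?_⟩, rfl⟩
  have h1 : g * t * g⁻¹ ∈ K := hxK
  simpa [mul_assoc] using C.conj_mem h1 g⁻¹

/-- Involutions of `K` are conjugate in `K`. -/
theorem exists_conj (hodd : Odd (Nat.card Ω)) {i j : G} (hi : i ∈ K) (hi2 : orderOf i = 2)
    (hj : j ∈ K) (hj2 : orderOf j = 2) : ∃ k ∈ K, k * i * k⁻¹ = j :=
  exists_conj_of_nobad C.nobad C.trans C.exists_ne hodd hi hi2 hj hj2

omit [Finite Ω] in
theorem normalizes_inf {g : G} (hg : g ∈ (T : Subgroup G)) :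
    g ∈ normalizer (((T : Subgroup G) ⊓ K : Subgroup G) : Set G) := by
  have key : ∀ {g : G}, g ∈ (T : Subgroup G) → ∀ {x : G}, x ∈ (T : Subgroup G) ⊓ K →
      g * x * g⁻¹ ∈ (T : Subgroup G) ⊓ K := fun {g} hg {x} hx =>
    ⟨mul_mem (mul_mem hg hx.1) (Subgroup.inv_mem _ hg), C.conj_mem hx.2 g⟩
  refine mem_normalizer_iff.mpr fun x => ⟨key hg, fun hx => ?_⟩
  have := key (Subgroup.inv_mem _ hg) hx
  simpa [mul_assoc] using this

/-- `T ⊓ K` is regular on the other points and its involutions are central. -/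
theorem regular (hodd : Odd (Nat.card Ω)) :
    (∀ c : Ω, c ≠ a → ∀ d : Ω, d ≠ a → ∃ k ∈ (T : Subgroup G) ⊓ K, k • c = d) ∧
    ∀ j ∈ (T : Subgroup G) ⊓ K, orderOf j = 2 → ∀ r ∈ (T : Subgroup G) ⊓ K, Commute r j := by
  classical
  haveI : Fact (Nat.Prime 2) := ⟨Nat.prime_two⟩
  let M := (toPermHom K Ω).range
  let π : K →* M := (toPermHom K Ω).rangeRestrict
  have hsurj : Function.Surjective π := MonoidHom.rangeRestrict_surjective _
  have hact : ∀ (g : K) (p : Ω), π g • p = (g : G) • p := fun g p => rfl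
  obtain ⟨R, hR⟩ := C.exists_sylow
  have hker : ∀ g ∈ (R : Subgroup K), π g = 1 → g = 1 := fun g hg h1 => by
    obtain ⟨n, hn⟩ := IsPGroup.iff_orderOf.mp R.isPGroup' ⟨g, hg⟩
    rw [Subgroup.orderOf_mk, ← Subgroup.orderOf_coe] at hn
    obtain ⟨x, y, hxy⟩ := C.exists_ne
    exact Subtype.ext (C.eq_one_of_fix g.2 hn hxy (by rw [← hact, h1, one_smul])
      (by rw [← hact, h1, one_smul]))
  have hinv : ∀ {g : K}, orderOf g = 2 → orderOf (π g) = 2 := fun {g} hg => by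
    refine orderOf_eq_two_of_mul_self (by rw [← map_mul, mul_self_of_orderOf_eq_two hg, map_one])
      fun h1 => ?_
    obtain ⟨x, y, hxy⟩ := C.exists_ne
    exact hxy (C.nobad g g.2 ((Subgroup.orderOf_coe g).trans hg) x y
      (by rw [← hact, h1, one_smul]) (by rw [← hact, h1, one_smul]))
  obtain ⟨i, hi, j, hj, hi2, hj2, hij, hijc⟩ := C.four
  have hr : RankTwo (⊤ : Subgroup M) := by
    refine ⟨π ⟨i, hi⟩, mem_top _, π ⟨j, hj⟩, mem_top _, hinv (by rwa [Subgroup.orderOf_mk]),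
      hinv (by rwa [Subgroup.orderOf_mk]), fun e => ?_, (show Commute (⟨i, hi⟩ : K) ⟨j, hj⟩ from
        Subtype.ext hijc.eq).map π⟩
    have h1 : π (⟨i, hi⟩⁻¹ * ⟨j, hj⟩) = 1 := by rw [map_mul, map_inv, e, inv_mul_cancel]
    have hne : i⁻¹ * j ≠ 1 := fun e' => hij (inv_mul_eq_one.mp e')
    have hw : orderOf (i⁻¹ * j) = 2 := orderOf_eq_two_of_mul_self (by
      rw [inv_eq_of_orderOf_eq_two hi2, hijc.symm.mul_mul_mul_comm, mul_self_of_orderOf_eq_two hi2,
        mul_self_of_orderOf_eq_two hj2, one_mul]) hne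
    obtain ⟨x, y, hxy⟩ := C.exists_ne
    exact hxy (C.nobad _ (mul_mem (Subgroup.inv_mem _ hi) hj) hw x y
      ((hact _ x).symm.trans (by rw [h1, one_smul])) ((hact _ y).symm.trans (by rw [h1, one_smul])))
  have hSE : SE (⊤ : Subgroup M) (Set.univ : Set Ω) :=
    { smul_mem := fun _ _ _ => Set.mem_univ _
      trans := fun {x y} _ _ => by
        obtain ⟨k, hk, hkx⟩ := C.trans x y
        exact ⟨π ⟨k, hk⟩, mem_top _, hkx⟩
      exists_fix := fun {t} _ ht => by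
        obtain ⟨p, hp⟩ := exists_fixed_of_odd (f := fun p : Ω => t • p) (fun p => by
          show t • t • p = p
          rw [← mul_smul, mul_self_of_orderOf_eq_two ht, one_smul]) hodd
        exact ⟨p, Set.mem_univ p, hp⟩
      fix_unique := fun {t} _ ht {x y} _ _ hx hy => by
        obtain ⟨g, rfl⟩ := hsurj t
        obtain ⟨k, o, ho, hgo⟩ := Nat.exists_eq_two_pow_mul_odd (orderOf_pos g).ne'
        have hπ : π (g ^ o) = π g := by
          obtain ⟨l, rfl⟩ := ho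
          rw [map_pow, pow_succ, pow_mul, pow_two, mul_self_of_orderOf_eq_two ht, one_pow, one_mul]
        by_contra hxy
        have h2 : orderOf ((g ^ o : K) : G) = 2 ^ k := by
          rw [Subgroup.orderOf_coe, orderOf_pow_of_dvd (by
            rintro rfl; exact absurd ho (by decide)) (hgo ▸ dvd_mul_left o _), hgo,
            Nat.mul_div_cancel _ (Odd.pos ho)]
        have h1 := C.eq_one_of_fix (g ^ o).2 h2 hxy (by rw [← hact, hπ]; exact hx)
          (by rw [← hact, hπ]; exact hy)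
        rw [show g ^ o = 1 from Subtype.ext h1, map_one] at hπ
        rw [← hπ, orderOf_one] at ht
        exact absurd ht (by norm_num)
      exists_ne := by
        obtain ⟨x, y, hxy⟩ := C.exists_ne
        exact ⟨x, Set.mem_univ x, y, Set.mem_univ y, hxy⟩
      exists_inv := ⟨π ⟨i, hi⟩, mem_top _, hinv (by rwa [Subgroup.orderOf_mk])⟩ }
  have hF : Faithful (⊤ : Subgroup M) (Set.univ : Set Ω) :=
    (Subgroup.eq_bot_iff_forall _).mpr fun g hg => eq_of_smul_eq_smul fun p : Ω =>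
      ((H73.Bender.mem_kernel.mp hg).2 p (Set.mem_univ p)).trans (one_smul M p).symm
  obtain ⟨Q, hQ⟩ := Bridge.exists_regularTwo Bridge.coreFreeAll Bridge.nonCommStep hSE hr hF
    (a := a) (Set.mem_univ a)
  obtain ⟨b, hba⟩ : ∃ b : Ω, b ≠ a := by
    obtain ⟨x, y, hxy⟩ := C.exists_ne
    by_cases e : x = a
    exacts [⟨y, fun e' => hxy (e.trans e'.symm)⟩, ⟨x, e⟩]
  -- the image of `T ⊓ K` is `Q`
  have hle : (R : Subgroup K).map π ≤ Q := by
    intro x hx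
    obtain ⟨p, hp, hpx⟩ := id hx
    have hpa : (p : G) • a = a := by
      have h1 : p ∈ ((T : Subgroup G) ⊓ K).subgroupOf K := hR ▸ hp
      exact C.fixT _ (mem_subgroupOf.mp h1).1
    have hxa : x • a = a := by rw [← hpx, hact, hpa]
    have hxp : IsPGroup 2 (zpowers x) := (R.isPGroup'.map π).to_le (zpowers_le.mpr hx)
    have hxn : x ∈ normalizer (Q : Set M) := hQ.normal ⟨mem_top x, hxa⟩
    have hsup : IsPGroup 2 ↥(Q ⊔ zpowers x) :=
      hQ.isPGroup.to_sup_of_normal_left' hxp (zpowers_le.mpr hxn)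
    have hxb : x • b ≠ a := fun e => hba (MulAction.injective x (e.trans hxa.symm))
    obtain ⟨q, hq, hqb⟩ := hQ.trans b (Set.mem_univ b) hba (x • b) (Set.mem_univ _) hxb
    obtain ⟨n, hn⟩ := IsPGroup.iff_orderOf.mp hsup
      ⟨q⁻¹ * x, mul_mem (mem_sup_left (Subgroup.inv_mem _ hq)) (mem_sup_right (mem_zpowers x))⟩
    rw [Subgroup.orderOf_mk] at hn
    have hpair : q⁻¹ * x ∈ H73.Bender.pair (⊤ : Subgroup M) a b :=
      H73.Bender.mem_pair.mpr ⟨mem_top _, by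
        rw [mul_smul, hxa]; exact inv_smul_eq_iff.mpr ((hQ.le hq).2 : q • a = a).symm,
        by rw [mul_smul, inv_smul_eq_iff, hqb]⟩
    have ho := (hSE.odd_pair (Set.mem_univ a) (Set.mem_univ b) (Ne.symm hba)).of_dvd_nat
      (Subgroup.orderOf_dvd_natCard _ hpair)
    rw [hn] at ho
    rcases n with _ | n
    · rw [← inv_mul_eq_one.mp (orderOf_eq_one_iff.mp hn)]; exact hq
    · exact absurd ho (by rw [Nat.not_odd_iff_even, pow_succ]; exact even_two.mul_left _)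
  have heq : (R : Subgroup K).map π = Q :=
    ((R.mapSurjective hsurj).is_maximal' hQ.isPGroup (by simpa using hle)).symm
  have hmem : ∀ {g : G} (hg : g ∈ (T : Subgroup G) ⊓ K), (⟨g, hg.2⟩ : K) ∈ (R : Subgroup K) :=
    fun {g} hg => by rw [hR]; exact mem_subgroupOf.mpr hg
  refine ⟨fun c hc d hd => ?_, fun t ht ht2 r hr' => ?_⟩
  · obtain ⟨q, hq, hqc⟩ := hQ.trans c (Set.mem_univ c) hc d (Set.mem_univ d) hd
    rw [← heq] at hq
    obtain ⟨k, hk, rfl⟩ := hq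
    rw [hR] at hk
    exact ⟨k, mem_subgroupOf.mp hk, hqc⟩
  · set tK : K := ⟨t, ht.2⟩
    set rK : K := ⟨r, hr'.2⟩
    have htπ : π tK ∈ Bridge.invAt (⊤ : Subgroup M) a :=
      ⟨mem_top _, hinv (by rwa [Subgroup.orderOf_mk]), C.fixT t ht.1⟩
    have hc := hQ.inv_comm _ htπ (π rK) (heq ▸ ⟨rK, hmem hr', rfl⟩)
    have h1 : π (rK * tK * rK⁻¹ * tK⁻¹) = 1 := by
      rw [map_mul, map_mul, map_mul, map_inv, map_inv, ← hc.eq, mul_inv_cancel_right, mul_inv_cancel]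
    have h2 := hker _ (mul_mem (mul_mem (mul_mem (hmem hr') (hmem ht)) (Subgroup.inv_mem _ (hmem hr')))
      (Subgroup.inv_mem _ (hmem ht))) h1
    rw [mul_inv_eq_one, mul_inv_eq_iff_eq_mul] at h2
    exact congrArg Subtype.val h2

/-- **The strongly closed subgroup lies in `K`.** -/
theorem le_normal (hodd : Odd (Nat.card Ω)) : S ≤ K := by
  classical
  haveI : Fact (Nat.Prime 2) := ⟨Nat.prime_two⟩
  obtain ⟨hreg, hcent⟩ := C.regular hodd
  set T₀ := (T : Subgroup G) ⊓ K with hT₀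
  have hT₀2 : IsPGroup 2 T₀ := T.isPGroup'.to_le inf_le_left
  -- subgroups of `K` around `T₀` have odd index over it
  obtain ⟨R, hR⟩ := C.exists_sylow
  have hindex : ∀ Y : Subgroup G, T₀ ≤ Y → Y ≤ K → Odd (T₀.relIndex Y) := fun Y h1 h2 => by
    have hK : Odd (T₀.relIndex K) := by
      show Odd (T₀.subgroupOf K).index
      rw [← hR]
      exact Nat.odd_iff.mpr (Nat.two_dvd_ne_zero.mp R.not_dvd_index)
    exact hK.of_dvd_nat (Subgroup.relIndex_mul_relIndex T₀ Y K h1 h2 ▸ dvd_mul_right _ _)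
  let J : Set G := {j | j ∈ T₀ ∧ orderOf j = 2}
  set E := normalizer (T₀ : Set G) ⊓ K with hE
  have hT₀E : T₀ ≤ E := fun x hx => ⟨le_normalizer hx, hx.2⟩
  have hEJ : ∀ e ∈ E, ∀ j ∈ J, e * j * e⁻¹ ∈ J := fun e he j hj =>
    ⟨(mem_normalizer_iff.mp he.1 j).mp hj.1, by rw [H39.orderOf_conj, hj.2]⟩
  -- `E` is transitive on `J`
  have hEtrans : ∀ i ∈ J, ∀ j ∈ J, ∃ e ∈ E, e * i * e⁻¹ = j := by
    intro i hi j hj
    obtain ⟨k, hk, hkj⟩ := C.exists_conj hodd hi.1.2 hi.2 hj.1.2 hj.2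
    have hcen : ∀ {t : G} (ht : t ∈ J), (⟨t, ht.1.2⟩ : K) ∈ centralizer ((R : Subgroup K) : Set K) :=
      fun {t} ht => mem_centralizer_iff.mpr fun r hr => Subtype.ext (by
        have h1 : r ∈ T₀.subgroupOf K := hR ▸ hr
        exact (hcent t ht.1 ht.2 r (mem_subgroupOf.mp h1)).eq)
    obtain ⟨n, hn, hne⟩ := Sylow.conj_eq_normalizer_conj_of_mem_centralizer R ⟨i, hi.1.2⟩
      (⟨k, hk⟩⁻¹) (hcen hi) (by
        rw [inv_inv]
        rw [show (⟨k, hk⟩ : K) * ⟨i, hi.1.2⟩ * (⟨k, hk⟩ : K)⁻¹ = ⟨j, hj.1.2⟩ from Subtype.ext hkj]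
        exact hcen hj)
    refine ⟨((n⁻¹ : K) : G), ⟨mem_normalizer_iff.mpr fun x => ?_, (n⁻¹).2⟩, ?_⟩
    · have hn' := Subgroup.inv_mem _ hn
      constructor
      · intro hx
        have h1 : (⟨x, hx.2⟩ : K) ∈ (R : Subgroup K) := hR ▸ mem_subgroupOf.mpr hx
        have h2 := (mem_normalizer_iff.mp hn' _).mp h1
        rw [SetLike.mem_coe.symm, hR] at h2
        exact mem_subgroupOf.mp h2
      · intro hx
        have hxK : x ∈ K := by
          have := C.conj_mem hx.2 ((n⁻¹ : K) : G)⁻¹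
          simpa [mul_assoc] using this
        have h1 : (n⁻¹ : K) * ⟨x, hxK⟩ * (n⁻¹ : K)⁻¹ ∈ (R : Subgroup K) := by
          rw [hR]; exact mem_subgroupOf.mpr hx
        have h2 := (mem_normalizer_iff.mp hn' _).mpr h1
        rw [hR] at h2
        exact mem_subgroupOf.mp h2
    · rw [inv_inv] at hne
      rw [show (⟨k, hk⟩ : K) * ⟨i, hi.1.2⟩ * (⟨k, hk⟩ : K)⁻¹ = ⟨j, hj.1.2⟩ from Subtype.ext hkj] at hne
      rw [show j = ((⟨j, hj.1.2⟩ : K) : G) from rfl, hne]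
      simp
  -- two distinguished involutions
  obtain ⟨j₁, hj₁, j₂, hj₂, hj12⟩ : ∃ j₁ ∈ J, ∃ j₂ ∈ J, j₁ ≠ j₂ := by
    obtain ⟨i, hi, j, hj, hi2, hj2, hij, hc⟩ := C.four
    have hp : IsPGroup 2 (closure ({⟨i, hi⟩, ⟨j, hj⟩} : Set K)) :=
      Cfsg.Agent.H14.Asch.isPGroup_closure_pair (Subtype.ext (mul_self_of_orderOf_eq_two hi2))
        (Subtype.ext (mul_self_of_orderOf_eq_two hj2)) (Subtype.ext hc.eq)
    obtain ⟨R', hR'⟩ := hp.exists_le_sylow
    obtain ⟨m, hm⟩ := exists_smul_eq K R' R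
    have hin : ∀ x : K, x ∈ (R' : Subgroup K) → ((m * x * m⁻¹ : K) : G) ∈ T₀ := fun x hx => by
      have h1 : m * x * m⁻¹ ∈ ((m • R' : Sylow 2 K) : Subgroup K) := by
        rw [Sylow.coe_subgroup_smul]; exact ⟨x, hx, rfl⟩
      rw [hm, hR] at h1
      exact mem_subgroupOf.mp h1
    refine ⟨(m : G) * i * (m : G)⁻¹, ⟨hin ⟨i, hi⟩ (hR' (subset_closure (Or.inl rfl))),
      by rw [H39.orderOf_conj, hi2]⟩, (m : G) * j * (m : G)⁻¹,
      ⟨hin ⟨j, hj⟩ (hR' (subset_closure (Or.inr rfl))), by rw [H39.orderOf_conj, hj2]⟩,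
      fun e => hij (mul_left_cancel (mul_right_cancel e))⟩
  -- a subgroup transitive on `J` fixes no element of `S` or `T₀`
  have hfree : ∀ X : Subgroup G, (∀ i ∈ J, ∀ j ∈ J, ∃ x ∈ X, x * i * x⁻¹ = j) →
      ∀ t : G, t ∈ S ∨ t ∈ T₀ → (∀ x ∈ X, Commute x t) → t = 1 := by
    intro X hX t ht hc
    by_contra ht1
    have htT : t ∈ (T : Subgroup G) := ht.elim (fun h => C.closed.1 h) fun h => h.1
    obtain ⟨n, hn⟩ := IsPGroup.iff_orderOf.mp T.isPGroup' ⟨t, htT⟩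
    rw [Subgroup.orderOf_mk] at hn
    rcases n with _ | n
    · exact ht1 (orderOf_eq_one_iff.mp hn)
    set v := t ^ 2 ^ n
    have hv : orderOf v = 2 := by
      rw [orderOf_pow' _ (by positivity), hn,
        Nat.gcd_eq_right (pow_dvd_pow 2 n.le_succ), pow_succ', Nat.mul_div_cancel _ (by positivity)]
    have hvK : v ∈ K := ht.elim (fun h => C.invMem v (pow_mem h _) hv) fun h => pow_mem h.2 _
    have hvJ : v ∈ J := ⟨⟨pow_mem htT _, hvK⟩, hv⟩
    obtain ⟨j, hj, hjv⟩ : ∃ j ∈ J, j ≠ v := by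
      by_cases e : j₁ = v
      exacts [⟨j₂, hj₂, fun e' => hj12 (e.trans e'.symm)⟩, ⟨j₁, hj₁, e⟩]
    obtain ⟨x, hx, hxv⟩ := hX v hvJ j hj
    rw [((hc x hx).pow_right _).eq, mul_inv_cancel_right] at hxv
    exact hjv hxv.symm
  -- `T` normalises `S`
  have hTS : (T : Subgroup G) ≤ normalizer (S : Set G) := fun x hx => by
    have key : ∀ {x : G}, x ∈ (T : Subgroup G) → ∀ {s : G}, s ∈ S → x * s * x⁻¹ ∈ S :=
      fun {x} hx {s} hs => C.closed.2 s hs x (mul_mem (mul_mem hx (C.closed.1 hs)) (Subgroup.inv_mem _ hx))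
    refine mem_normalizer_iff.mpr fun s => ⟨key hx, fun hs => ?_⟩
    simpa [mul_assoc] using key (Subgroup.inv_mem _ hx) hs
  by_cases hTle : T₀ ≤ S
  · -- `T₀` carries every element of `S` to a translation
    intro u hu
    obtain ⟨b, hba⟩ : ∃ b : Ω, b ≠ a := by
      obtain ⟨x, y, hxy⟩ := C.exists_ne
      by_cases e : x = a
      exacts [⟨y, fun e' => hxy (e.trans e'.symm)⟩, ⟨x, e⟩]
    have hua : u • a = a := C.fixT u (C.closed.1 hu)
    obtain ⟨k, hk, hkb⟩ := hreg b hba (u • b) fun e => hba (MulAction.injective u (e.trans hua.symm))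
    have h1 := C.eq_one_of_mem (S.mul_mem (S.inv_mem (hTle hk)) hu) hba
      (by rw [mul_smul, inv_smul_eq_iff, hkb])
    rw [← inv_mul_eq_one.mp h1]
    exact hk.2
  -- `E` normalises `B = S ⊓ T₀`
  set B := S ⊓ T₀ with hB
  have hEB : E ≤ normalizer (B : Set G) := fun e he => by
    have key : ∀ {e : G}, e ∈ E → ∀ {b : G}, b ∈ B → e * b * e⁻¹ ∈ B := fun {e} he {b} hb =>
      ⟨C.closed.2 b hb.1 e ((mem_normalizer_iff.mp he.1 b).mp hb.2).1,
        (mem_normalizer_iff.mp he.1 b).mp hb.2⟩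
    refine mem_normalizer_iff.mpr fun b => ⟨key he, fun hb => ?_⟩
    simpa [mul_assoc] using key (Subgroup.inv_mem _ he) hb
  set N := normalizer (T₀ : Set G) ⊓ normalizer (B : Set G) with hN
  have hEN : E ≤ N := fun e he => ⟨he.1, hEB he⟩
  have hTT₀ : (T : Subgroup G) ≤ normalizer (T₀ : Set G) := fun x hx => C.normalizes_inf hx
  have hTN : (T : Subgroup G) ≤ N := fun x hx => ⟨hTT₀ hx, mem_normalizer_iff.mpr fun b =>
    ⟨fun hb => ⟨(mem_normalizer_iff.mp (hTS hx) b).mp hb.1,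
        (mem_normalizer_iff.mp (hTT₀ hx) b).mp hb.2⟩,
      fun hb => ⟨(mem_normalizer_iff.mp (hTS hx) b).mpr hb.1,
        (mem_normalizer_iff.mp (hTT₀ hx) b).mpr hb.2⟩⟩⟩
  -- the elements acting trivially on `T₀ / B`
  let N₃ : Subgroup G :=
    { carrier := {g | g ∈ N ∧ ∀ r ∈ T₀, g * r * g⁻¹ * r⁻¹ ∈ B}
      one_mem' := ⟨one_mem N, fun r _ => by simp⟩
      mul_mem' := fun {g h} hg hh => ⟨mul_mem hg.1 hh.1, fun r hr => by
        rw [show g * h * r * (g * h)⁻¹ * r⁻¹ =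
          g * (h * r * h⁻¹ * r⁻¹) * g⁻¹ * (g * r * g⁻¹ * r⁻¹) by group]
        exact mul_mem ((mem_normalizer_iff.mp hg.1.2 _).mp (hh.2 r hr)) (hg.2 r hr)⟩
      inv_mem' := fun {g} hg => ⟨Subgroup.inv_mem _ hg.1, fun r hr => by
        have hr' : g⁻¹ * r * g ∈ T₀ := by
          simpa using (mem_normalizer_iff.mp (Subgroup.inv_mem _ hg.1.1 : g⁻¹ ∈ normalizer (T₀ : Set G)) r).mp hr
        have h1 := Subgroup.inv_mem _ (hg.2 _ hr')
        rw [show (g * (g⁻¹ * r * g) * g⁻¹ * (g⁻¹ * r * g)⁻¹)⁻¹ = g⁻¹ * r * g * r⁻¹ by group] at h1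
        simpa using h1⟩ }
  have hconj₃ : ∀ e ∈ N, ∀ g ∈ N₃, e * g * e⁻¹ ∈ N₃ := by
    intro e he g hg
    refine ⟨mul_mem (mul_mem he hg.1) (Subgroup.inv_mem _ he), fun r hr => ?_⟩
    have hr' : e⁻¹ * r * e ∈ T₀ := by
      simpa using (mem_normalizer_iff.mp (Subgroup.inv_mem _ he.1 : e⁻¹ ∈ normalizer (T₀ : Set G)) r).mp hr
    rw [show e * g * e⁻¹ * r * (e * g * e⁻¹)⁻¹ * r⁻¹ =
      e * (g * (e⁻¹ * r * e) * g⁻¹ * (e⁻¹ * r * e)⁻¹) * e⁻¹ by group]
    exact (mem_normalizer_iff.mp he.2 _).mp (hg.2 _ hr')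
  have hS₃ : ∀ u ∈ S, u ∈ N₃ := fun u hu => by
    refine ⟨hTN (C.closed.1 hu), fun r hr => ?_⟩
    have h1 : u * r * u⁻¹ * r⁻¹ ∈ S := by
      rw [show u * r * u⁻¹ * r⁻¹ = u * (r * u⁻¹ * r⁻¹) by group]
      exact mul_mem hu ((mem_normalizer_iff.mp (hTS hr.1) _).mp (Subgroup.inv_mem _ hu))
    exact ⟨h1, mul_mem ((mem_normalizer_iff.mp (hTT₀ (C.closed.1 hu)) r).mp hr) (Subgroup.inv_mem _ hr)⟩
  obtain ⟨X, hXE, hXodd, hXcov⟩ :=
    exists_odd_cover hT₀2 hT₀E inf_le_left (hindex E hT₀E inf_le_right)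
  have hJcent : ∀ p ∈ T₀, ∀ j ∈ J, p * j * p⁻¹ = j := fun p hp j hj =>
    mul_inv_eq_iff_eq_mul.mpr (hcent j hj.1 hj.2 p hp).eq
  have hXtrans : ∀ i ∈ J, ∀ j ∈ J, ∃ x ∈ X, x * i * x⁻¹ = j := fun i hi j hj => by
    obtain ⟨e, he, rfl⟩ := hEtrans i hi j hj
    obtain ⟨p, hp, x, hx, rfl⟩ := hXcov e he
    refine ⟨x, hx, ?_⟩
    rw [show p * x * i * (p * x)⁻¹ = p * (x * i * x⁻¹) * p⁻¹ by group]
    exact (hJcent p hp _ (hEJ x (hXE hx) i hi)).symm
  intro u hu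
  by_contra huK
  have huT := C.closed.1 hu
  -- commutators with `u` centralise `J`
  have hclaim : ∀ e ∈ E, ∀ j ∈ J, Commute (e * u * e⁻¹ * u⁻¹) j := by
    intro e he j hj
    by_contra hcom
    set y := e * u * e⁻¹ * u⁻¹
    have hyE : y ∈ E := by
      rw [show y = e * (u * e⁻¹ * u⁻¹) by simp [y, mul_assoc]]
      exact mul_mem he ⟨mul_mem (mul_mem (hTT₀ huT) (Subgroup.inv_mem _ he.1)) (Subgroup.inv_mem _ (hTT₀ huT)),
        C.conj_mem (Subgroup.inv_mem _ he.2) u⟩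
    have hy₃ : y ∈ N₃ := mul_mem (hconj₃ e (hEN he) u (hS₃ u hu)) (Subgroup.inv_mem _ (hS₃ u hu))
    obtain ⟨p, hp, x, hx, hpx⟩ := hXcov y hyE
    have hpj : Commute p j := hcent j hj.1 hj.2 p hp
    have hxj : ¬ Commute x j := fun h => hcom (hpx ▸ hpj.mul_left h)
    -- `x` acts trivially on `T₀ / B`
    have hx₃ : x ∈ N₃ := by
      obtain ⟨k, hk⟩ := IsPGroup.iff_orderOf.mp hT₀2 ⟨p, hp⟩
      rw [Subgroup.orderOf_mk] at hk
      have hxN : x ∈ N := hEN (hXE hx)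
      have hpow : ∀ n : ℕ, p ^ n * x ^ n ∈ N₃ := by
        intro n
        induction n with
        | zero => simpa using N₃.one_mem
        | succ n ih =>
          rw [show p ^ (n + 1) * x ^ (n + 1) =
            p * (p ^ n * x ^ n) * p⁻¹ * (p * x) by rw [pow_succ', pow_succ]; group]
          exact mul_mem (hconj₃ p (hTN hp.1) _ ih) (hpx ▸ hy₃)
      have h1 := hpow (2 ^ k)
      rw [← hk, pow_orderOf_eq_one, one_mul, hk] at h1
      have hcop : (2 ^ k).Coprime (orderOf x) := Nat.Coprime.pow_left k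
        (Nat.coprime_two_left.mpr (hXodd.of_dvd_nat (Subgroup.orderOf_dvd_natCard _ hx)))
      obtain ⟨m, hm⟩ := exists_pow_eq_self_of_coprime hcop
      rw [← hm]
      exact pow_mem h1 m
    refine hTle ?_
    set X₃ := X ⊓ N₃ with hX₃
    have hX₃n : X₃ ≤ normalizer (T₀ : Set G) := fun g hg => (hXE hg.1).1
    have hfix : ∀ t ∈ T₀, (∀ g ∈ X₃, Commute g t) → t = 1 := by
      intro t ht hc
      by_contra ht1
      obtain ⟨n, hn⟩ := IsPGroup.iff_orderOf.mp T.isPGroup' ⟨t, ht.1⟩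
      rw [Subgroup.orderOf_mk] at hn
      rcases n with _ | n
      · exact ht1 (orderOf_eq_one_iff.mp hn)
      have hv : orderOf (t ^ 2 ^ n) = 2 := by
        rw [orderOf_pow' _ (by positivity), hn,
          Nat.gcd_eq_right (pow_dvd_pow 2 n.le_succ), pow_succ', Nat.mul_div_cancel _ (by positivity)]
      obtain ⟨g, hg, hgj⟩ := hXtrans (t ^ 2 ^ n) ⟨pow_mem ht _, hv⟩ j hj
      refine hxj ?_
      have hx' : g⁻¹ * x * g ∈ X₃ := ⟨mul_mem (mul_mem (Subgroup.inv_mem _ hg) hx) hg, by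
        simpa using hconj₃ g⁻¹ (Subgroup.inv_mem _ (hEN (hXE hg))) x hx₃⟩
      have h1 := ((hc _ hx').pow_right (2 ^ n)).map (MulAut.conj g).toMonoidHom
      simp only [MulEquiv.coe_toMonoidHom, MulAut.conj_apply] at h1
      rwa [hgj, show g * (g⁻¹ * x * g) * g⁻¹ = x by group] at h1
    have hcop : (Nat.card X₃).Coprime (Nat.card T₀) := by
      obtain ⟨k, hk⟩ := IsPGroup.iff_card.mp hT₀2
      rw [hk]
      exact (Nat.coprime_two_right.mpr
        (hXodd.of_dvd_nat (Subgroup.card_dvd_of_le inf_le_left))).pow_right k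
    haveI : Group.IsNilpotent T₀ := hT₀2.isNilpotent
    have hsplit := Coprime.commutator_sup_centralizer hX₃n hcop (Or.inr inferInstance)
    rw [← hsplit]
    refine sup_le (commutator_le.mpr fun r hr g hg => ?_) fun t ht => ?_
    · have h1 : g * r * g⁻¹ * r⁻¹ ∈ B := hg.2.2 r hr
      have h2 := Subgroup.inv_mem _ h1
      rw [show (g * r * g⁻¹ * r⁻¹)⁻¹ = r * g * r⁻¹ * g⁻¹ by group] at h2
      exact h2.1
    · rw [hfix t ht.1 fun g hg => Subgroup.mem_centralizer_iff.mp ht.2 g hg]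
      exact one_mem S
  -- a group transitive on `J` normalising `T₀ ⊔ zpowers u`
  let NJ : Subgroup G := centralizer J
  set P₂ := T₀ ⊔ zpowers u with hP₂
  set G₁ := (E ⊓ NJ) ⊔ zpowers u with hG₁
  have hP₂T : P₂ ≤ (T : Subgroup G) := sup_le inf_le_left (zpowers_le.mpr huT)
  have hT₀NJ : T₀ ≤ E ⊓ NJ := fun p hp => ⟨hT₀E hp,
    Subgroup.mem_centralizer_iff.mpr fun j hj => (hcent j hj.1 hj.2 p hp).eq.symm⟩
  have hP₂G : P₂ ≤ G₁ := sup_le (hT₀NJ.trans le_sup_left) le_sup_right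
  have huN : zpowers u ≤ normalizer ((E ⊓ NJ : Subgroup G) : Set G) := by
    have hu' : ∀ g ∈ (T : Subgroup G), ∀ x ∈ E ⊓ NJ, g * x * g⁻¹ ∈ E ⊓ NJ := by
      intro g hg x hx
      refine ⟨⟨mul_mem (mul_mem (hTT₀ hg) hx.1.1) (Subgroup.inv_mem _ (hTT₀ hg)), C.conj_mem hx.1.2 g⟩,
        Subgroup.mem_centralizer_iff.mpr fun j hj => ?_⟩
      have hj' : g⁻¹ * j * g ∈ J := ⟨by
        simpa using (mem_normalizer_iff.mp (hTT₀ (Subgroup.inv_mem _ hg)) j).mp hj.1, by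
        rw [show g⁻¹ * j * g = g⁻¹ * j * g⁻¹⁻¹ by rw [inv_inv], H39.orderOf_conj, hj.2]⟩
      have h1 := (show Commute (g⁻¹ * j * g) x from
        Subgroup.mem_centralizer_iff.mp hx.2 _ hj').map (MulAut.conj g).toMonoidHom
      simpa [mul_assoc] using h1.eq
    rw [zpowers_le, mem_normalizer_iff]
    refine fun x => ⟨hu' u huT x, fun hx => ?_⟩
    simpa [mul_assoc] using hu' u⁻¹ (Subgroup.inv_mem _ huT) _ hx
  obtain ⟨R₁, hR₁⟩ := ((T.isPGroup'.to_le hP₂T).comap_subtype (K := G₁)).exists_le_sylow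
  have hR₁eq : (R₁ : Subgroup G₁) = P₂.subgroupOf G₁ := by
    refine le_antisymm (fun g hg => ?_) hR₁
    obtain ⟨n, hn, i, hi, hni⟩ := (Coprime.mem_sup_iff huN).mp g.2
    rw [mem_subgroupOf, ← hni]
    refine mul_mem (mem_sup_left ?_) (mem_sup_right hi)
    -- `n` lies in a two-subgroup of `K` containing `T₀`
    set R₂ := (R₁ : Subgroup G₁).map G₁.subtype ⊓ K
    have hR₂ : T₀ ≤ R₂ := fun p hp =>
      ⟨⟨⟨p, hP₂G (mem_sup_left hp)⟩, hR₁ (mem_subgroupOf.mpr (mem_sup_left hp)), rfl⟩, hp.2⟩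
    have hnR : n ∈ R₂ := by
      have hi' : i ∈ (R₁ : Subgroup G₁).map G₁.subtype :=
        ⟨⟨i, hP₂G (mem_sup_right hi)⟩, hR₁ (mem_subgroupOf.mpr (mem_sup_right hi)), rfl⟩
      refine ⟨?_, hn.1.2⟩
      rw [show n = (g : G) * i⁻¹ by rw [← hni, mul_inv_cancel_right]]
      exact mul_mem ⟨g, hg, rfl⟩ (Subgroup.inv_mem _ hi')
    have hle : R₂.subgroupOf K ≤ (R : Subgroup K) :=
      (R.is_maximal' (((R₁.isPGroup'.map _).to_le inf_le_left).comap_subtype)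
        (by rw [hR]; exact fun x hx => mem_subgroupOf.mpr (hR₂ (mem_subgroupOf.mp hx)))).le
    have h1 := hle (mem_subgroupOf.mpr hnR : (⟨n, hn.1.2⟩ : K) ∈ R₂.subgroupOf K)
    rw [hR] at h1
    exact mem_subgroupOf.mp h1
  set Y := E ⊓ normalizer (P₂ : Set G) with hY
  have hYtrans : ∀ i ∈ J, ∀ j ∈ J, ∃ y ∈ Y, y * i * y⁻¹ = j := by
    intro i hi j hj
    obtain ⟨e, he, rfl⟩ := hEtrans i hi j hj
    -- the conjugate of `P₂` by `e` lies in `G₁`
    have hsub : P₂.map (MulAut.conj e).toMonoidHom ≤ G₁ := by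
      rw [hP₂, Subgroup.map_sup, MonoidHom.map_zpowers]
      refine sup_le ?_ (zpowers_le.mpr ?_)
      · rintro _ ⟨p, hp, rfl⟩
        exact mem_sup_left (hT₀NJ ((mem_normalizer_iff.mp he.1 p).mp hp))
      · show e * u * e⁻¹ ∈ G₁
        rw [show e * u * e⁻¹ = e * u * e⁻¹ * u⁻¹ * u by group]
        refine mul_mem (mem_sup_left ⟨?_, Subgroup.mem_centralizer_iff.mpr fun k hk =>
          (hclaim e he k hk).eq.symm⟩) (mem_sup_right (mem_zpowers u))
        rw [show e * u * e⁻¹ * u⁻¹ = e * (u * e⁻¹ * u⁻¹) by group]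
        exact mul_mem he ⟨mul_mem (mul_mem (hTT₀ huT) (Subgroup.inv_mem _ he.1)) (Subgroup.inv_mem _ (hTT₀ huT)),
          C.conj_mem (Subgroup.inv_mem _ he.2) u⟩
    obtain ⟨R₃, hR₃⟩ := (((T.isPGroup'.to_le hP₂T).map _).comap_subtype (K := G₁) :
      IsPGroup 2 ↥((P₂.map (MulAut.conj e).toMonoidHom).subgroupOf G₁)).exists_le_sylow
    obtain ⟨m, hm⟩ := exists_smul_eq G₁ R₃ R₁
    obtain ⟨n, hn, w, hw, hnw⟩ := (Coprime.mem_sup_iff huN).mp (m⁻¹).2
    have hm' : (m : G) = w⁻¹ * n⁻¹ := by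
      rw [← mul_inv_rev, hnw]; simp
    have hkey : ∀ p ∈ P₂, n⁻¹ * e * p * (n⁻¹ * e)⁻¹ ∈ P₂ := by
      intro p hp
      have hpG : e * p * e⁻¹ ∈ G₁ := hsub ⟨p, hp, rfl⟩
      have h1 : m * ⟨e * p * e⁻¹, hpG⟩ * m⁻¹ ∈ ((m • R₃ : Sylow 2 G₁) : Subgroup G₁) := by
        rw [Sylow.coe_subgroup_smul]
        exact ⟨⟨e * p * e⁻¹, hpG⟩, hR₃ (mem_subgroupOf.mpr ⟨p, hp, rfl⟩), rfl⟩
      rw [hm, hR₁eq, mem_subgroupOf, Subgroup.coe_mul, Subgroup.coe_mul, Subgroup.coe_inv,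
        hm'] at h1
      have hwP : w ∈ P₂ := mem_sup_right hw
      have h2 := mul_mem (mul_mem hwP h1) (Subgroup.inv_mem _ hwP)
      convert h2 using 1
      group
    have hnorm : n⁻¹ * e ∈ normalizer (P₂ : Set G) := by
      refine Subgroup.mem_normalizer_iff.mpr fun p => ⟨hkey p, fun hp => ?_⟩
      have hmap : P₂.map (MulAut.conj (n⁻¹ * e)).toMonoidHom = P₂ := by
        refine Subgroup.eq_of_le_of_card_ge ?_ ?_
        · rintro _ ⟨q, hq, rfl⟩; exact hkey q hq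
        · rw [Subgroup.card_map_of_injective (MulAut.conj (n⁻¹ * e)).injective]
      rw [← hmap] at hp
      obtain ⟨q, hq, hqp⟩ := hp
      exact mul_left_cancel (mul_right_cancel hqp) ▸ hq
    refine ⟨n⁻¹ * e, ⟨mul_mem (Subgroup.inv_mem _ hn.1) he, hnorm⟩, ?_⟩
    have hc : Commute n⁻¹ (e * i * e⁻¹) :=
      (show Commute n (e * i * e⁻¹) from
        (Subgroup.mem_centralizer_iff.mp hn.2 _ (hEJ e he i hi)).symm).inv_left
    calc n⁻¹ * e * i * (n⁻¹ * e)⁻¹ = n⁻¹ * (e * i * e⁻¹) * n := by group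
      _ = _ := by rw [hc.eq, inv_mul_cancel_right]
  have hT₀Y : T₀ ≤ Y := fun p hp => ⟨hT₀E hp, le_normalizer (mem_sup_left hp)⟩
  obtain ⟨X', hX'Y, hX'odd, hX'cov⟩ := exists_odd_cover hT₀2 hT₀Y
    (fun y hy => hy.1.1) (hindex Y hT₀Y fun y hy => hy.1.2)
  have hX'trans : ∀ i ∈ J, ∀ j ∈ J, ∃ x ∈ X', x * i * x⁻¹ = j := fun i hi j hj => by
    obtain ⟨e, he, rfl⟩ := hYtrans i hi j hj
    obtain ⟨p, hp, x, hx, rfl⟩ := hX'cov e he
    refine ⟨x, hx, ?_⟩
    rw [show p * x * i * (p * x)⁻¹ = p * (x * i * x⁻¹) * p⁻¹ by group]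
    exact (hJcent p hp _ (hEJ x (hX'Y hx).1 i hi)).symm
  set S' := S ⊓ P₂ with hS'
  have hX'n : X' ≤ normalizer (S' : Set G) := fun x hx => by
    have key : ∀ {x : G}, x ∈ Y → ∀ {s : G}, s ∈ S' → x * s * x⁻¹ ∈ S' := fun {x} hx {s} hs =>
      ⟨C.closed.2 s hs.1 x (hP₂T ((mem_normalizer_iff.mp hx.2 s).mp hs.2)),
        (mem_normalizer_iff.mp hx.2 s).mp hs.2⟩
    refine mem_normalizer_iff.mpr fun s => ⟨key (hX'Y hx), fun hs => ?_⟩
    simpa [mul_assoc] using key (Subgroup.inv_mem _ (hX'Y hx)) hs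
  have hS'2 : IsPGroup 2 S' := (T.isPGroup'.to_le C.closed.1).to_le inf_le_left
  have hcop : (Nat.card X').Coprime (Nat.card S') := by
    obtain ⟨k, hk⟩ := IsPGroup.iff_card.mp hS'2
    rw [hk]
    exact (Nat.coprime_two_right.mpr hX'odd).pow_right k
  haveI : Group.IsNilpotent S' := hS'2.isNilpotent
  have hsplit := Coprime.commutator_sup_centralizer hX'n hcop (Or.inr inferInstance)
  refine huK ?_
  have huS' : u ∈ S' := ⟨hu, mem_sup_right (mem_zpowers u)⟩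
  have hleK : S' ≤ K := by
    rw [← hsplit]
    refine sup_le (commutator_le.mpr fun s _ x hx => ?_) fun t ht => ?_
    · rw [commutatorElement_def]
      exact mul_mem (C.conj_mem (hX'Y hx).1.2 s) (Subgroup.inv_mem _ (hX'Y hx).1.2)
    · rw [hfree X' hX'trans t (Or.inl ht.1.1)
        fun x hx => Subgroup.mem_centralizer_iff.mp ht.2 x hx]
      exact one_mem K
  exact hleK huS'

end ClosedCtx

end Cfsg.Agent.H1.Asch.Red
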