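import Cfsg.Agent.H39.Basic
import Mathlib.GroupTheory.Transfer
import Mathlib.GroupTheory.Sylow

/-!
# The transfer kill of a central involution

If a sign character of a Sylow 2-subgroup is trivial on its elements from a conjugacy class of
involutions and not on a central involution `w`, then `w` is outside the subgroup generated by the
class.
-/

set_option autoImplicit false
set_option linter.style.haveILetI false

namespace Cfsg.Agent.H1.Asch.Red

open Subgroup

universe u

theorem units_pow_odd (e : ℤˣ) {n : ℕ} (hn : Odd n) : e ^ n = e := by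
  obtain ⟨k, rfl⟩ := hn
  rw [pow_succ, pow_mul, Int.units_sq, one_pow, one_mul]

/-- A sign character killing the squares and `A` but not `w`. -/
theorem exists_sign {P : Type u} [Group P] [Finite P] (A : Subgroup P) {w : P} (hwA : w ∉ A)
    (hsq : ∀ x : P, x * x ∈ A) :
    ∃ φ : P →* ℤˣ, (∀ a ∈ A, φ a = 1) ∧ φ w = -1 := by
  classical
  have hmax : ∀ B : Subgroup P, A ≤ B → w ∉ B →
      ∃ K : Subgroup P, A ≤ K ∧ w ∉ K ∧ ∀ L, K < L → w ∈ L := by
    intro B
    induction B using WellFoundedGT.induction with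
    | ind B ih =>
      intro hAB hwB
      by_cases hc : ∀ L, B < L → w ∈ L
      · exact ⟨B, hAB, hwB, hc⟩
      · push Not at hc
        obtain ⟨L, hL, hwL⟩ := hc
        exact ih L hL (hAB.trans hL.le) hwL
  obtain ⟨K, hAK, hwK, hK⟩ := hmax A le_rfl hwA
  have hKn : K.Normal := ⟨fun k hk g => by
    rw [show g * k * g⁻¹ = (g * k) * (g * k) * (k⁻¹ * k⁻¹) * (k * (g⁻¹ * g⁻¹)) by group]
    exact K.mul_mem (K.mul_mem (hAK (hsq _)) (hAK (hsq _))) (K.mul_mem hk (hAK (hsq _)))⟩
  have hor : ∀ x : P, x ∉ K → w * x ∈ K := by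
    intro x hx
    have hlt : K < K ⊔ zpowers x :=
      lt_of_le_of_ne le_sup_left fun e => hx (e ▸ mem_sup_right (mem_zpowers x))
    obtain ⟨k, hk, y, ⟨i, hi⟩, hky⟩ := mem_sup_of_normal_left.mp (hK _ hlt)
    simp only at hi
    have hxx : x * x ∈ K := hAK (hsq x)
    rcases Int.even_or_odd i with ⟨j, rfl⟩ | ⟨j, rfl⟩
    · refine absurd ?_ hwK
      rw [← hky, ← hi, zpow_add, ← (Commute.refl x).mul_zpow]
      exact K.mul_mem hk (K.zpow_mem hxx j)
    · rw [← hky, ← hi, mul_assoc, ← zpow_add_one,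
        show 2 * j + 1 + 1 = (j + 1) + (j + 1) by ring, zpow_add, ← (Commute.refl x).mul_zpow]
      exact K.mul_mem hk (K.zpow_mem hxx (j + 1))
  refine ⟨{ toFun := fun x => if x ∈ K then 1 else -1, map_one' := by simp, map_mul' := ?_ },
    fun a ha => if_pos (hAK ha), if_neg hwK⟩
  intro x y
  by_cases hx : x ∈ K
  · simp [hx, K.mul_mem_cancel_left hx]
  by_cases hy : y ∈ K
  · simp [hy, K.mul_mem_cancel_right hy]
  have hxy : x * y ∈ K := by
    have h1 := hor x hx
    have h2 := hor y hy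
    rw [show x * y = (x * (w * x) * x⁻¹) * (w⁻¹ * w⁻¹) * (w * y) by group]
    exact K.mul_mem (K.mul_mem (hKn.conj_mem _ h1 x) (hAK (hsq _))) h2
  simp [hx, hy, hxy]

variable {G : Type u} [Group G] [Finite G]

/-- The transfer kill. -/
theorem not_mem_closure_of_sign {D : Set G} (hconj : ∀ d ∈ D, ∀ g : G, g * d * g⁻¹ ∈ D)
    (hinv : ∀ d ∈ D, d * d = 1) {w : G} (hwc : ∀ g : G, Commute g w) (P : Sylow 2 G)
    (hwP : w ∈ (P : Subgroup G)) (φ : (P : Subgroup G) →* ℤˣ)
    (hD : ∀ d (hd : d ∈ (P : Subgroup G)), d ∈ D → φ ⟨d, hd⟩ = 1) (hw : φ ⟨w, hwP⟩ = -1) :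
    w ∉ closure D := by
  classical
  haveI : Fact (Nat.Prime 2) := ⟨Nat.prime_two⟩
  set τ := MonoidHom.transfer φ with hτdef
  have hodd : Odd (P : Subgroup G).index := Nat.odd_iff.mpr (Nat.two_dvd_ne_zero.mp P.not_dvd_index)
  have hτw : τ w = -1 := by
    rw [hτdef, MonoidHom.transfer_eq_pow φ w fun k g₀ _ => by
      rw [((hwc g₀⁻¹).pow_right k).eq, inv_mul_cancel_right]]
    rw [show (⟨w ^ (P : Subgroup G).index, _⟩ : (P : Subgroup G)) =
      ⟨w, hwP⟩ ^ (P : Subgroup G).index from Subtype.ext rfl, map_pow, hw, units_pow_odd _ hodd]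
  have hτD : ∀ d ∈ D, τ d = 1 := by
    intro d hd
    haveI : Fintype (Quotient (MulAction.orbitRel (zpowers d) (G ⧸ (P : Subgroup G)))) :=
      Fintype.ofFinite _
    rw [hτdef, MonoidHom.transfer_eq_prod_quotient_orbitRel_zpowers_quot]
    refine Finset.prod_eq_one fun q _ => ?_
    have key : ∀ (g : G) (k : ℕ) (hm : g⁻¹ * d ^ k * g ∈ (P : Subgroup G)),
        φ ⟨g⁻¹ * d ^ k * g, hm⟩ = 1 := by
      intro g k hm
      have hd2 : d ^ 2 = 1 := by rw [pow_two, hinv d hd]
      rcases Nat.even_or_odd k with ⟨j, rfl⟩ | ⟨j, rfl⟩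
      · have e : g⁻¹ * d ^ (j + j) * g = 1 := by rw [← two_mul, pow_mul, hd2, one_pow]; group
        rw [show (⟨_, hm⟩ : (P : Subgroup G)) = 1 from Subtype.ext e, map_one]
      · refine hD _ hm ?_
        rw [pow_succ, pow_mul, hd2, one_pow, one_mul]
        simpa using hconj d hd g⁻¹
    exact key _ _ _
  intro hmem
  have hker : closure D ≤ τ.ker := (closure_le _).mpr hτD
  have h1 : τ w = 1 := hker hmem
  rw [hτw] at h1
  exact absurd h1 (by decide)

end Cfsg.Agent.H1.Asch.Red
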