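import Mathlib.Algebra.BigOperators.Group.Finset.Basic
import Mathlib.Algebra.BigOperators.Ring.Finset
import Mathlib.GroupTheory.PGroup
import Mathlib.Tactic.Ring
import Mathlib.Tactic.Linarith
import Mathlib.Tactic.LinearCombination
import Mathlib.Tactic.Positivity

/-!
# Signs given by a quadratic map on a 2-group

If `χ : Q → {±1}` has a bimultiplicative defect `β`, the square of `∑ χ` is zero or `|Q| |R|`
for the radical `R`.  For `|Q| = 2 ^ n`, a radical of order at least `2 ^ r` and a number of minus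
signs divisible by `2 ^ f - 1`, this leaves `χ = 1` and one exceptional value of the quotient.
-/

set_option autoImplicit false

namespace Cfsg.Agent.H1.Asch.Red

open Finset

universe u

variable {Q : Type u} [Group Q] [Fintype Q]

theorem pm_mul {a b : ℤ} (ha : a = 1 ∨ a = -1) (hb : b = 1 ∨ b = -1) : a * b = 1 ∨ a * b = -1 := by
  rcases ha with rfl | rfl <;> rcases hb with rfl | rfl <;> simp

theorem pm_sq {a : ℤ} (ha : a = 1 ∨ a = -1) : a * a = 1 := by
  rcases ha with rfl | rfl <;> simp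

/-- The square of the sum of the signs. -/
theorem sq_sum_cases (χ : Q → ℤ) (β : Q → Q → ℤ) (hχ : ∀ g, χ g = 1 ∨ χ g = -1)
    (hm : ∀ g d, χ (g * d) = χ g * χ d * β g d)
    (hl : ∀ g g' d, β (g * g') d = β g d * β g' d)
    (hr : ∀ g d d', β g (d * d') = β g d * β g d') :
    (∑ g, χ g) ^ 2 = 0 ∨ ∃ R : Subgroup Q, (∀ d, (∀ g, β g d = 1) → d ∈ R) ∧
      (∑ g, χ g) ^ 2 = (Nat.card Q : ℤ) * Nat.card R := by
  classical
  have hβ : ∀ g d, β g d = 1 ∨ β g d = -1 := fun g d => by
    have e : β g d = χ (g * d) * (χ g * χ d) := by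
      rw [hm]
      linear_combination -β g d * (pm_sq (pm_mul (hχ g) (hχ d)))
    rw [e]
    exact pm_mul (hχ _) (pm_mul (hχ g) (hχ d))
  have hone : ∀ g, β g 1 = 1 := fun g => by
    have h := hr g 1 1
    rw [one_mul] at h
    rcases hβ g 1 with e | e
    · exact e
    · rw [e] at h; norm_num at h
  let R : Subgroup Q :=
    { carrier := {d | ∀ g, β g d = 1}
      mul_mem' := fun {a b} ha hb g => by rw [hr, ha g, hb g, one_mul]
      one_mem' := hone
      inv_mem' := fun {a} ha g => by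
        have h := hr g a a⁻¹
        rwa [mul_inv_cancel, hone, ha g, one_mul, eq_comm] at h }
  have hinner : ∀ d, ∑ g, β g d = if d ∈ R then (Nat.card Q : ℤ) else 0 := fun d => by
    by_cases hd : d ∈ R
    · rw [if_pos hd, Finset.sum_congr rfl fun g _ => hd g, Finset.sum_const, Finset.card_univ,
        Nat.card_eq_fintype_card]
      simp
    · rw [if_neg hd]
      obtain ⟨g₀, hg₀⟩ : ∃ g₀, β g₀ d ≠ 1 := by
        by_contra hc
        push Not at hc
        exact hd hc
      have hg₀' := (hβ g₀ d).resolve_left hg₀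
      have h := Equiv.sum_comp (Equiv.mulLeft g₀) fun g => β g d
      simp only [Equiv.coe_mulLeft, hl, hg₀', neg_one_mul, Finset.sum_neg_distrib] at h
      omega
  have hkey : (∑ g, χ g) ^ 2 = (Nat.card Q : ℤ) * ∑ d : R, χ d := by
    calc (∑ g, χ g) ^ 2 = ∑ g, ∑ d, χ g * χ (g * d) := by
          rw [sq, Finset.sum_mul]
          refine Finset.sum_congr rfl fun g _ => ?_
          rw [Finset.mul_sum]
          exact (Equiv.sum_comp (Equiv.mulLeft g) fun y => χ g * χ y).symm
      _ = ∑ d, χ d * ∑ g, β g d := by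
          rw [Finset.sum_comm]
          refine Finset.sum_congr rfl fun d _ => ?_
          rw [Finset.mul_sum]
          refine Finset.sum_congr rfl fun g _ => ?_
          rw [hm]
          linear_combination χ d * β g d * pm_sq (hχ g)
      _ = ∑ d ∈ Finset.univ.filter (· ∈ R), (Nat.card Q : ℤ) * χ d := by
          rw [Finset.sum_filter]
          refine Finset.sum_congr rfl fun d _ => ?_
          rw [hinner d]
          split_ifs <;> ring
      _ = _ := by
          rw [← Finset.mul_sum, Finset.sum_subtype _ (p := (· ∈ R)) (fun x => by simp)]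
  by_cases hR : ∀ d : R, χ d = 1
  · refine Or.inr ⟨R, fun d hd => hd, ?_⟩
    rw [hkey, Finset.sum_congr rfl fun d _ => hR d, Finset.sum_const, Finset.card_univ,
      Nat.card_eq_fintype_card]
    simp
  · left
    push Not at hR
    obtain ⟨d₀, hd₀⟩ := hR
    have hd₀' := (hχ (d₀ : Q)).resolve_left hd₀
    have hmul : ∀ d : R, χ ((d₀ * d : R) : Q) = -χ (d : Q) := fun d => by
      rw [Subgroup.coe_mul, hm, d.2 (d₀ : Q), hd₀']
      ring
    have h := Equiv.sum_comp (Equiv.mulLeft d₀) fun d : R => χ d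
    simp only [Equiv.coe_mulLeft, hmul, Finset.sum_neg_distrib] at h
    rw [hkey, show ∑ d : R, χ d = 0 by omega, mul_zero]

/-- The possible numbers of minus signs. -/
theorem count_cases (χ : Q → ℤ) (β : Q → Q → ℤ) (hχ : ∀ g, χ g = 1 ∨ χ g = -1)
    (hm : ∀ g d, χ (g * d) = χ g * χ d * β g d)
    (hl : ∀ g g' d, β (g * g') d = β g d * β g' d)
    (hr : ∀ g d d', β g (d * d') = β g d * β g d')
    {n r f N₀ : ℕ} (hQ : Nat.card Q = 2 ^ n) (hf : 2 ≤ f) (hn : n ≤ r + 2 * f)
    (hone : χ 1 = 1) (hrad : 2 ^ r ≤ Nat.card {d : Q // ∀ g, β g d = 1})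
    (hN : Nat.card {g : Q // χ g = -1} = (2 ^ f - 1) * N₀) :
    (∀ g, χ g = 1) ∨ ((∃ k, N₀ = 2 ^ k) ∧ (n = r + 2 * f ∨ f = 2)) := by
  classical
  haveI : Fact (Nat.Prime 2) := ⟨Nat.prime_two⟩
  have hS : ∑ g, χ g = (2 : ℤ) ^ n - 2 * ((2 ^ f - 1) * N₀ : ℕ) := by
    have h1 : ∀ g, χ g = 1 - 2 * (if χ g = -1 then 1 else 0 : ℤ) := fun g => by
      rcases hχ g with e | e <;> simp [e]
    rw [Finset.sum_congr rfl fun g _ => h1 g, Finset.sum_sub_distrib, ← Finset.mul_sum,
      Finset.sum_boole, Finset.sum_const, Finset.card_univ, ← hN, ← Nat.card_eq_fintype_card, hQ,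
      Nat.card_eq_fintype_card, Fintype.card_subtype]
    simp
  have hf4 : 4 ≤ 2 ^ f := le_trans (by norm_num) (Nat.pow_le_pow_right (by norm_num) hf)
  have hcop : ∀ {a b : ℕ}, (2 ^ f - 1) ∣ 2 ^ a * b → (2 ^ f - 1) ∣ b := fun {a b} h => by
    refine (Nat.Coprime.pow_right a ?_).dvd_of_dvd_mul_left h
    rw [Nat.coprime_two_right]
    exact Nat.Even.sub_odd (by omega) (Nat.even_pow.mpr ⟨even_two, by omega⟩) odd_one
  rcases sq_sum_cases χ β hχ hm hl hr with h0 | ⟨R, hR, hsq⟩
  · exfalso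
    rw [pow_eq_zero_iff two_ne_zero, hS, sub_eq_zero] at h0
    have h0' : 2 ^ n = 2 * ((2 ^ f - 1) * N₀) := by exact_mod_cast h0
    have h1 := hcop (a := n) (b := 1) (by rw [mul_one, h0']; exact ⟨2 * N₀, by ring⟩)
    have := Nat.le_of_dvd one_pos h1
    omega
  obtain ⟨r', hr'⟩ := IsPGroup.iff_card.mp ((IsPGroup.of_card (p := 2) hQ).to_subgroup R)
  have hrle : r ≤ r' := by
    refine (Nat.pow_le_pow_iff_right (le_refl 2)).mp (hr' ▸ hrad.trans ?_)
    exact Nat.card_le_card_of_injective (fun d => ⟨d.1, hR d.1 d.2⟩)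
      fun a b e => Subtype.ext (congrArg (fun x : R => (x : Q)) e)
  set S := ∑ g, χ g with hSdef
  have hsq' : S.natAbs ^ 2 = 2 ^ (n + r') := by
    have h := congrArg Int.natAbs hsq
    rw [Int.natAbs_pow, hr', hQ] at h
    rw [h, pow_add]
    push_cast
    simp [Int.natAbs_mul, Int.natAbs_pow]
  obtain ⟨j, -, hj⟩ := (Nat.dvd_prime_pow Nat.prime_two).mp
    (hsq' ▸ dvd_pow_self S.natAbs two_ne_zero : S.natAbs ∣ 2 ^ (n + r'))
  rw [hj, ← pow_mul] at hsq'
  have h2j : j * 2 = n + r' := Nat.pow_right_injective (le_refl 2) hsq'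
  have hr'n : r' ≤ n := (Nat.pow_le_pow_iff_right (le_refl 2)).mp
    (by rw [← hr', ← hQ]; exact R.card_le_card_group)
  rcases Nat.lt_or_ge j n with hjn | hjn
  swap
  · -- all signs are equal
    left
    have hj' : j = n := by omega
    subst hj'
    rcases Int.natAbs_eq S with e | e <;> rw [hj, hS] at e <;> push_cast at e
    · have h0 : (2 ^ f - 1) * N₀ = 0 := by
        have : ((((2 ^ f - 1) * N₀ : ℕ)) : ℤ) = 0 := by push_cast; linarith
        exact_mod_cast this
      intro g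
      refine (hχ g).resolve_right fun hg => ?_
      haveI : Nonempty {g : Q // χ g = -1} := ⟨⟨g, hg⟩⟩
      have := Nat.card_pos (α := {g : Q // χ g = -1})
      omega
    · exfalso
      have h0 : (2 ^ f - 1) * N₀ = 2 ^ j := by
        have : ((((2 ^ f - 1) * N₀ : ℕ)) : ℤ) = 2 ^ j := by push_cast; linarith
        exact_mod_cast this
      have hlt : Nat.card {g : Q // χ g = -1} < Nat.card Q :=
        Finite.card_subtype_lt (x := 1) (by rw [hone]; norm_num)
      omega
  obtain ⟨i, hi⟩ := Nat.exists_eq_add_of_le hjn.le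
  have hi1 : 1 ≤ i := by omega
  have hif : i ≤ f := by omega
  have hj1 : 1 ≤ j := by omega
  obtain ⟨j', rfl⟩ : ∃ j', j = j' + 1 := ⟨j - 1, by omega⟩
  have key : (2 ^ f - 1) * N₀ = 2 ^ j' * (2 ^ i - 1) ∨ (2 ^ f - 1) * N₀ = 2 ^ j' * (2 ^ i + 1) := by
    obtain ⟨m, hm'⟩ : ∃ m, m + 1 = 2 ^ i := ⟨2 ^ i - 1, Nat.sub_add_cancel Nat.one_le_two_pow⟩
    generalize (2 ^ f - 1) * N₀ = a at hS ⊢
    have hpow : (2 : ℤ) ^ n = 2 * 2 ^ j' * (m + 1) := by
      rw [hi, pow_add, pow_succ, show ((m : ℤ) + 1) = 2 ^ i by exact_mod_cast hm']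
      ring
    rw [← hm', Nat.add_sub_cancel]
    rcases Int.natAbs_eq S with e | e <;> rw [hj, hS, hpow] at e <;> push_cast [pow_succ] at e
    · left
      have h2 : (a : ℤ) = 2 ^ j' * m := by linarith
      exact_mod_cast h2
    · right
      have h2 : (a : ℤ) = 2 ^ j' * (m + 1 + 1) := by linarith
      exact_mod_cast h2
  have hfin : ∀ {x : ℕ}, (2 ^ f - 1) * N₀ = 2 ^ j' * x → x = 2 ^ f - 1 → ∃ k, N₀ = 2 ^ k :=
    fun {x} h hx => ⟨j', by
      subst hx
      exact Nat.eq_of_mul_eq_mul_left (by omega) (h.trans (mul_comm _ _))⟩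
  right
  rcases key with h | h
  · have hd := hcop (Dvd.intro N₀ h)
    have hpos : 1 ≤ 2 ^ i - 1 := by
      have : 2 ^ 1 ≤ 2 ^ i := Nat.pow_le_pow_right (by norm_num) hi1
      omega
    have hle := Nat.le_of_dvd hpos hd
    have hfi : i = f := by
      refine le_antisymm hif ((Nat.pow_le_pow_iff_right (le_refl 2)).mp ?_)
      omega
    subst hfi
    exact ⟨hfin h rfl, Or.inl (by omega)⟩
  · have hd := hcop (Dvd.intro N₀ h)
    have hle := Nat.le_of_dvd (by positivity) hd
    rcases Nat.lt_or_ge i f with hlt | hge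
    · have h2 : 2 * 2 ^ i ≤ 2 ^ f := by
        rw [← pow_succ']
        exact Nat.pow_le_pow_right (by norm_num) hlt
      have hf2 : f = 2 := by
        by_contra hne
        have : 2 ^ 3 ≤ 2 ^ f := Nat.pow_le_pow_right (by norm_num) (by omega)
        omega
      subst hf2
      obtain rfl : i = 1 := by omega
      exact ⟨hfin h rfl, Or.inr rfl⟩
    · exfalso
      obtain rfl : i = f := le_antisymm hif hge
      have h2 : (2 ^ i - 1) ∣ 2 := by
        have := Nat.dvd_sub hd (dvd_refl (2 ^ i - 1))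
        rwa [show 2 ^ i + 1 - (2 ^ i - 1) = 2 by omega] at this
      have := Nat.le_of_dvd two_pos h2
      omega

end Cfsg.Agent.H1.Asch.Red
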