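import Cfsg.Agent.H1.Asch.CoverFrame
import Cfsg.Agent.H1.Asch.CoverKill
import Cfsg.Agent.H1.Asch.SignCount

/-!
# No central involution fixes all points

The squares of the Sylow subgroup `P` avoid `w`: the sign telling whether a square lies in the
members is quadratic, invariant under the normaliser of `P`, and counting leaves only the trivial
one.  The transfer to `P` then removes `w`.
-/

set_option autoImplicit false
set_option linter.style.haveILetI false

namespace Cfsg.Agent.H1.Asch.Red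

open Subgroup MulAction
open Cfsg.Agent.H39
open scoped commutatorElement

universe u

theorem sq_mul_eq {G : Type*} [Group G] (x y : G) :
    x * y * (x * y) = x * x * (⁅x⁻¹, y⁆ * (y * y)) := by
  simp [commutatorElement_def, mul_assoc]

namespace Frame

variable {G : Type u} [Group G] [Finite G] {Ω : Type u} [MulAction G Ω] [Finite Ω]
  {M : Type u} [Group M] [Finite M] [MulAction M Ω] [FaithfulSMul M Ω] {π : G →* M} {z w : G}
  {a : Ω} {t : M} {T : Subgroup M} {P : Sylow 2 G} (F : Frame G Ω M π z w a t T P)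
include F

omit F in
open scoped Classical in
/-- Whether an element lies in `members`. -/
noncomputable def psi (P : Sylow 2 G) (z g : G) : ℤ := if g ∈ members P z then 1 else -1

theorem psi_mul {x y : G} (hx : x ∈ members P z ∨ x * w ∈ members P z)
    (hy : y ∈ members P z ∨ y * w ∈ members P z) :
    psi P z (x * y) = psi P z x * psi P z y := by
  classical
  set A := members P z
  have hww := mul_self_of_orderOf_eq_two F.ctx.two
  have hwA := F.w_notMem_members
  simp only [psi]
  by_cases h1 : x ∈ A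
  · rw [if_pos h1, one_mul]
    exact if_congr (A.mul_mem_cancel_left h1) rfl rfl
  by_cases h2 : y ∈ A
  · rw [if_pos h2, mul_one]
    exact if_congr (A.mul_mem_cancel_right h2) rfl rfl
  have hxy : x * y ∈ A := by
    rw [show x * y = x * w * (y * w) by
      rw [(F.ctx.central y).symm.mul_mul_mul_comm, hww, mul_one]]
    exact A.mul_mem (hx.resolve_left h1) (hy.resolve_left h2)
  rw [if_pos hxy, if_neg h1, if_neg h2]
  norm_num

theorem hat_sq {g : G} (h : g ∈ members P z ∨ g * w ∈ members P z) : g * g = 1 := by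
  rcases h with h | h
  · exact (F.members_sq h).1
  · have h1 := (F.members_sq h).1
    rwa [(F.ctx.central g).symm.mul_mul_mul_comm, mul_self_of_orderOf_eq_two F.ctx.two, mul_one]
      at h1

theorem hat_comm {g p : G} (h : g ∈ members P z ∨ g * w ∈ members P z)
    (hp : p ∈ (P : Subgroup G)) : Commute g p := by
  rcases h with h | h
  · exact ((F.members_sq h).2 p hp).symm
  · have h1 := (((F.members_sq h).2 p hp).symm).mul_left (F.ctx.central p).symm
    rwa [mul_assoc, mul_self_of_orderOf_eq_two F.ctx.two, mul_one] at h1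

theorem hat_sq_mem {g : G} (hg : g ∈ (P : Subgroup G)) :
    g * g ∈ members P z ∨ g * g * w ∈ members P z :=
  F.mem_or_mul_mem (mul_mem hg hg) (by rw [map_mul]; exact F.shape.sq_sq _ (F.map_mem hg))

theorem hat_comm_mem {g d : G} (hg : g ∈ (P : Subgroup G)) (hd : d ∈ (P : Subgroup G)) :
    ⁅g, d⁆ ∈ members P z ∨ ⁅g, d⁆ * w ∈ members P z :=
  F.mem_or_mul_mem (mul_mem (mul_mem (mul_mem hg hd) (inv_mem hg)) (inv_mem hd))
    (by rw [map_commutatorElement]; exact F.shape.comm_sq _ (F.map_mem hg) _ (F.map_mem hd))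

/-- **The squares of `P` lie among the members.** -/
theorem sq_mem {g : G} (hg : g ∈ (P : Subgroup G)) : g * g ∈ members P z := by
  classical
  haveI : Fact (Nat.Prime 2) := ⟨Nat.prime_two⟩
  cases nonempty_fintype (P : Subgroup G)
  let χ : ↥(P : Subgroup G) → ℤ := fun x => psi P z ((x : G) * x)
  let β : ↥(P : Subgroup G) → ↥(P : Subgroup G) → ℤ := fun x y => psi P z ⁅((x : G))⁻¹, (y : G)⁆
  have hχ : ∀ x, χ x = 1 ∨ χ x = -1 := fun x => by
    by_cases h : (x : G) * x ∈ members P z
    · exact Or.inl (if_pos h)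
    · exact Or.inr (if_neg h)
  have hc : ∀ x y : (P : Subgroup G), ⁅((x : G))⁻¹, (y : G)⁆ ∈ members P z ∨
      ⁅((x : G))⁻¹, (y : G)⁆ * w ∈ members P z := fun x y => F.hat_comm_mem (inv_mem x.2) y.2
  have hm : ∀ x y, χ (x * y) = χ x * χ y * β x y := fun x y => by
    have h3 : ⁅((x : G))⁻¹, (y : G)⁆ * ((y : G) * y) ∈ members P z ∨
        ⁅((x : G))⁻¹, (y : G)⁆ * ((y : G) * y) * w ∈ members P z := by
      refine F.mem_or_mul_mem (mul_mem (mul_mem (mul_mem (mul_mem (inv_mem x.2) y.2)
        (inv_mem (inv_mem x.2))) (inv_mem y.2)) (mul_mem y.2 y.2)) ?_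
      rw [← map_mul, (F.hat_comm (hc x y) (mul_mem y.2 y.2)).symm.mul_mul_mul_comm,
        F.hat_sq (hc x y), F.hat_sq (F.hat_sq_mem y.2), one_mul, map_one]
    show psi P z ((x : G) * y * ((x : G) * y)) = _
    rw [sq_mul_eq (x : G) y, F.psi_mul (F.hat_sq_mem x.2) h3,
      F.psi_mul (hc x y) (F.hat_sq_mem y.2)]
    simp only [χ, β]
    ring
  have hl : ∀ x x' y, β (x * x') y = β x y * β x' y := fun x x' y => by
    have hc2 := F.hat_comm (hc x y) (inv_mem x'.2)
    show psi P z ⁅((x : G) * x')⁻¹, (y : G)⁆ = _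
    rw [show ⁅((x : G) * x')⁻¹, (y : G)⁆ =
      (x' : G)⁻¹ * ⁅((x : G))⁻¹, (y : G)⁆ * (x' : G) * ⁅((x' : G))⁻¹, (y : G)⁆ by
        simp [commutatorElement_def, mul_assoc],
      ← hc2.eq, inv_mul_cancel_right, F.psi_mul (hc x y) (hc x' y)]
  have hr : ∀ x y y', β x (y * y') = β x y * β x y' := fun x y y' => by
    show psi P z ⁅((x : G))⁻¹, (y : G) * y'⁆ = _
    rw [show ⁅((x : G))⁻¹, (y : G) * y'⁆ =
      ⁅((x : G))⁻¹, (y : G)⁆ * ((y : G) * ⁅((x : G))⁻¹, (y' : G)⁆ * (y : G)⁻¹) by
        simp [commutatorElement_def, mul_assoc],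
      ← (F.hat_comm (hc x y') y.2).eq, mul_inv_cancel_right, F.psi_mul (hc x y) (hc x y')]
  -- the sizes
  have hA2 : IsPGroup 2 (members P z) := P.isPGroup'.to_le members_le
  obtain ⟨f, hf⟩ := IsPGroup.iff_card.mp hA2
  rw [F.card_members] at hf
  have hf2 : 2 ≤ f := by
    have h4 := F.shape.four_le
    rw [hf] at h4
    exact (Nat.pow_le_pow_iff_right (le_refl 2)).mp (le_trans (by norm_num) h4)
  have hone : χ 1 = 1 := if_pos (by simp [one_mem])
  -- the radical
  have hrad : 2 ^ (f + 1) ≤ Nat.card {d : (P : Subgroup G) // ∀ x, β x d = 1} := by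
    have hmem : ∀ y : (P : Subgroup G), ((y : G) ∈ members P z ∨ (y : G) * w ∈ members P z) →
        ∀ x, β x y = 1 := fun y hy x => by
      show psi P z ⁅((x : G))⁻¹, (y : G)⁆ = 1
      rw [commutatorElement_eq_one_iff_commute.mpr (F.hat_comm hy (inv_mem x.2)).symm]
      exact if_pos (one_mem _)
    let e : members P z × Bool → {d : (P : Subgroup G) // ∀ x, β x d = 1} := fun q =>
      if q.2 then ⟨⟨(q.1 : G) * w, mul_mem (members_le q.1.2) F.w_mem⟩, hmem _ (Or.inr (by
          simp [mul_assoc, mul_self_of_orderOf_eq_two F.ctx.two]))⟩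
      else ⟨⟨q.1, members_le q.1.2⟩, hmem _ (Or.inl q.1.2)⟩
    have he : Function.Injective e := by
      rintro ⟨x, b⟩ ⟨x', b'⟩ h
      have h' := congrArg (fun d : {d : (P : Subgroup G) // ∀ x, β x d = 1} => ((d.1 : G))) h
      cases b <;> cases b' <;> simp [e] at h' ⊢
      · exact h'
      · exact F.w_notMem_members (by
          rw [show w = (x' : G)⁻¹ * x by rw [h', inv_mul_cancel_left]]
          exact mul_mem (inv_mem x'.2) x.2)
      · exact F.w_notMem_members (by
          rw [show w = (x : G)⁻¹ * x' by rw [← h', inv_mul_cancel_left]]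
          exact mul_mem (inv_mem x.2) x'.2)
      · exact h'
    refine le_trans (le_of_eq ?_) (Nat.card_le_card_of_injective e he)
    rw [Nat.card_prod, F.card_members, hf, pow_succ]
    simp
  -- the minus signs lie over the involutions, equally many over each
  set I := Cfsg.involutionsIn (stabilizer M a : Set M) with hI
  have hIcard : Nat.card I + 1 = 2 ^ f := hf
  have hover : ∀ x : (P : Subgroup G), χ x = -1 → π ((x : G) * x) ∈ I := fun x hx => by
    refine ⟨(F.ctx.act _ a).trans (F.fixP _ (mul_mem x.2 x.2)), fun e => ?_, ?_⟩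
    · rw [map_mul] at e
      have h1 : χ x = 1 := if_pos (by rw [F.hat_sq (F.mem_or_mul_mem x.2 e)]; exact one_mem _)
      rw [h1] at hx
      norm_num at hx
    · rw [map_mul]; exact F.shape.sq_sq _ (F.map_mem x.2)
  let X : M → Type u := fun e => {x : (P : Subgroup G) // χ x = -1 ∧ π ((x : G) * x) = e}
  have hmove : ∀ {g : G} {k : M}, g ∈ normalizer ((P : Subgroup G) : Set G) → π g = k →
      ∀ {x : (P : Subgroup G)}, χ x = -1 → ∃ y : (P : Subgroup G), (y : G) = g * x * g⁻¹ ∧
        χ y = -1 ∧ π ((y : G) * y) = k * π ((x : G) * x) * k⁻¹ := by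
    intro g k hg hk x hx
    refine ⟨⟨_, (mem_normalizer_iff.mp hg (x : G)).mp x.2⟩, rfl, if_neg fun h => ?_, ?_⟩
    · have h1 := F.conj_mem_members (inv_mem hg) h
      refine absurd hx ?_
      rw [show χ x = 1 from if_pos (by simpa [mul_assoc] using h1)]
      norm_num
    · rw [← hk, ← map_inv, ← map_mul, ← map_mul]
      congr 1
      group
  have hsize : ∀ e ∈ I, ∀ e' ∈ I, Nat.card (X e) ≤ Nat.card (X e') := by
    intro e he e' he'
    obtain ⟨k, hk, hke⟩ := F.shape.trans e he e' he'
    obtain ⟨g, hg, hgk⟩ := F.exists_lift hk.1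
    choose y hy hy1 hy2 using fun x : X e => hmove hg hgk x.2.1
    refine Nat.card_le_card_of_injective
      (fun x : X e => (⟨y x, hy1 x, by rw [hy2, x.2.2, hke]⟩ : X e')) fun x x' h => ?_
    have h' := congrArg (fun v : X e' => ((v.1 : G))) h
    simp only [hy] at h'
    exact Subtype.ext (Subtype.ext (mul_left_cancel (mul_right_cancel h')))
  obtain ⟨e₀, he₀⟩ : ∃ e₀, e₀ ∈ I := by
    obtain ⟨d, hd, hdP⟩ := F.exists_member
    exact ⟨_, F.map_invol hd hdP⟩
  set N₀ := Nat.card (X e₀)
  have hN : Nat.card {x : (P : Subgroup G) // χ x = -1} = (2 ^ f - 1) * N₀ := by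
    cases nonempty_fintype I
    let e : {x : (P : Subgroup G) // χ x = -1} ≃ Σ s : I, X s :=
      { toFun := fun x => ⟨⟨_, hover x.1 x.2⟩, x.1, x.2, rfl⟩
        invFun := fun r => ⟨r.2.1, r.2.2.1⟩
        left_inv := fun x => rfl
        right_inv := fun r => Sigma.subtype_ext (Subtype.ext r.2.2.2) rfl }
    rw [Nat.card_congr e, Nat.card_sigma, Finset.sum_congr rfl fun (s : I) _ =>
      le_antisymm (hsize s s.2 e₀ he₀) (hsize e₀ he₀ s s.2), Finset.sum_const, smul_eq_mul,
      Finset.card_univ, ← Nat.card_eq_fintype_card, show Nat.card I = 2 ^ f - 1 by omega]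
  have hcardP := F.card_P
  have hfinish : (∀ x, χ x = 1) → g * g ∈ members P z := fun h => by
    by_contra hne
    have h1 := h ⟨g, hg⟩
    rw [show χ ⟨g, hg⟩ = -1 from if_neg hne] at h1
    norm_num at h1
  rcases F.shape.cases with ⟨hel, -⟩ | ⟨hcard, h8, -, -⟩ | ⟨hcard, hW, hWfree⟩
  · -- elementary
    have h1 := F.mem_or_mul_mem hg (hel _ (F.map_mem hg))
    rw [F.hat_sq h1]
    exact one_mem _
  · -- Suzuki type
    rw [hcard, hf, ← pow_mul, ← pow_succ'] at hcardP
    refine hfinish ((count_cases χ β hχ hm hl hr hcardP hf2 (by omega) hone hrad hN).resolve_right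
      fun hex => ?_)
    rcases hex.2 with h | h
    · omega
    · rw [hf, h] at h8
      norm_num at h8
  · -- unitary type
    rw [hcard, hf, ← pow_mul, ← pow_succ'] at hcardP
    refine hfinish ((count_cases χ β hχ hm hl hr hcardP hf2 (by omega) hone hrad hN).resolve_right
      fun hex => ?_)
    obtain ⟨⟨k, hk⟩, -⟩ := hex
    set W := H72.Asch.fixI a t
    have hWodd : Odd (Nat.card W) := F.setup.odd_card.of_dvd_nat
      (Subgroup.card_dvd_of_le inf_le_left)
    have hW1 : Nat.card W ≠ 1 := fun e => hW (Subgroup.card_eq_one.mp e)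
    obtain ⟨p, hp, hpdvd⟩ := Nat.exists_prime_and_dvd hW1
    haveI : Fact p.Prime := ⟨hp⟩
    obtain ⟨⟨w₁, hw₁⟩, hw₁o⟩ := exists_prime_orderOf_dvd_card' (G := W) p hpdvd
    rw [Subgroup.orderOf_mk] at hw₁o
    have hp2 : p ≠ 2 := fun e => (Nat.not_even_iff_odd.mpr (hWodd.of_dvd_nat hpdvd))
      (e ▸ even_two)
    obtain ⟨g₁, hg₁, hg₁w⟩ := F.exists_lift hw₁.1.1
    obtain ⟨m, o, hpo, hgo⟩ := Nat.exists_eq_pow_mul_and_not_dvd (orderOf_pos g₁).ne' p hp.ne_one
    set g' := g₁ ^ o
    have hg' : g' ∈ normalizer ((P : Subgroup G) : Set G) := pow_mem hg₁ o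
    have hπ : π g' = w₁ ^ o := by rw [map_pow, hg₁w]
    have hne : w₁ ^ o ≠ 1 := fun e => hpo (hw₁o ▸ orderOf_dvd_of_pow_eq_one e)
    have hWm : w₁ ^ o ∈ W := pow_mem hw₁ o
    have hfixe : (w₁ ^ o) * e₀ * (w₁ ^ o)⁻¹ = e₀ := mul_inv_eq_iff_eq_mul.mpr
      ((H72.Asch.mem_fixI.mp hWm).2 e₀ he₀).eq
    have hg'p : g' ^ p ^ m = 1 := by
      rw [← pow_mul, mul_comm, ← hgo, pow_orderOf_eq_one]
    cases nonempty_fintype (X e₀)
    choose y hy hy1 hy2 using fun x : X e₀ => hmove hg' hπ x.2.1
    let σ : Function.End (X e₀) := fun x => ⟨y x, hy1 x, by rw [hy2, x.2.2, hfixe]⟩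
    have hσv : ∀ x, (((σ x).1 : (P : Subgroup G)) : G) = g' * (x.1 : G) * g'⁻¹ := hy
    have hiter : ∀ (n : ℕ) (x : X e₀),
        (((σ ^ n) x).1 : G) = g' ^ n * (x.1 : G) * (g' ^ n)⁻¹ := by
      intro n
      induction n with
      | zero =>
        intro x
        rw [pow_zero, pow_zero]
        show (x.1 : G) = _
        simp
      | succ n ih =>
        intro x
        rw [pow_succ']
        show ((σ ((σ ^ n) x)).1 : G) = _
        rw [hσv, ih, pow_succ']
        group
    have hσ : σ ^ p ^ m = 1 := by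
      funext x
      refine Subtype.ext (Subtype.ext ?_)
      rw [hiter, hg'p, inv_one, mul_one, one_mul]
      rfl
    have hfix := Equiv.Perm.card_fixedPoints_modEq (p := p) hσ
    haveI : IsEmpty (Function.fixedPoints σ) := ⟨fun ⟨x, hx⟩ => by
      have hx' : g' * (x.1 : G) * g'⁻¹ = x.1 := by
        rw [← hσv]
        exact congrArg (fun v : X e₀ => ((v.1 : (P : Subgroup G)) : G)) hx
      have hcm : Commute g' (x.1 : G) := mul_inv_eq_iff_eq_mul.mp hx'
      have h1 := hWfree _ hWm hne _ (F.map_mem x.1.2) (hπ ▸ hcm.map π)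
      rw [← map_mul, x.2.2] at h1
      exact he₀.2.1 h1⟩
    rw [Fintype.card_eq_zero (α := Function.fixedPoints σ)] at hfix
    have hdvd : p ∣ 2 ^ k := by
      rw [← hk]
      show p ∣ Nat.card (X e₀)
      rw [Nat.card_eq_fintype_card]
      exact Nat.modEq_zero_iff_dvd.mp hfix
    exact hp2 ((Nat.prime_dvd_prime_iff_eq hp Nat.prime_two).mp (hp.dvd_of_dvd_pow hdvd))

/-- The central involution is not in the group generated by the members. -/
theorem false_of_frame : False := by
  classical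
  set P' := (P : Subgroup G)
  let A : Subgroup P' := (members P z).subgroupOf P'
  obtain ⟨φ, hA, hw⟩ := exists_sign A (w := (⟨w, F.w_mem⟩ : P'))
    (fun h => F.w_notMem_members (mem_subgroupOf.mp h))
    fun x => mem_subgroupOf.mpr (F.sq_mem x.2)
  refine not_mem_closure_of_sign (D := conjugatesOf z) (fun d hd g => F.ctx.set.conj_conj hd g)
    (fun d hd => mul_self_of_orderOf_eq_two (F.ctx.set.inv hd)) F.ctx.central P F.w_mem φ
    (fun d hdP hd => hA _ (mem_subgroupOf.mpr (subset_closure ⟨hd, hdP⟩))) hw ?_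
  rw [F.ctx.top]
  exact mem_top w

end Frame

/-- **No central involution fixes all points and is the only involution fixing two.** -/
theorem cover : Cover.{u} := by
  intro G _ _ Ω _ _ z w h hcl htop hw hwc hall hbad
  let M := (toPermHom G Ω).range
  have C : Ctx G Ω M (toPermHom G Ω).rangeRestrict z w :=
    ⟨h, hcl, htop, hw, hwc, hall, hbad, MonoidHom.rangeRestrict_surjective _, fun g p => rfl⟩
  obtain ⟨a, t, T, P, F⟩ := C.exists_frame
  exact F.false_of_frame

end Cfsg.Agent.H1.Asch.Red
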