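import Cfsg.Agent.H1.Asch.CoverShape

/-!
# A central involution fixing all points: the members in a Sylow subgroup

`Frame`: a rank-one set-up on the points and a Sylow 2-subgroup `P` mapping onto its regular
subgroup.  The members in `P` lift the involutions at the point, are central in `P` and together
with `1` form a subgroup `members` avoiding `w`.
-/

set_option autoImplicit false
set_option linter.style.haveILetI false

namespace Cfsg.Agent.H1.Asch.Red

open Subgroup MulAction
open Cfsg.Agent.H39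
open scoped commutatorElement

universe u

/-- The set-up at a point with a Sylow subgroup above it. -/
structure Frame (G : Type u) [Group G] (Ω : Type u) [MulAction G Ω] (M : Type u) [Group M]
    [MulAction M Ω] (π : G →* M) (z w : G) (a : Ω) (t : M) (T : Subgroup M) (P : Sylow 2 G) :
    Prop where
  ctx : Ctx G Ω M π z w
  setup : Cfsg.IsRankOneSetup M Ω a t T
  shape : H72.Asch.RankOneShape a t T
  inv : ∀ s : M, orderOf s = 2 → s • a = a → s ∈ T ∧ ∀ x ∈ T, Commute s x
  fixP : ∀ g ∈ (P : Subgroup G), g • a = a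
  mapP : (P : Subgroup G).map π = T

variable {G : Type u} [Group G] [Finite G] {Ω : Type u} [MulAction G Ω] [Finite Ω]
  {M : Type u} [Group M] [Finite M] [MulAction M Ω] [FaithfulSMul M Ω] {π : G →* M} {z w : G}

/-- Frames exist. -/
theorem Ctx.exists_frame (C : Ctx G Ω M π z w) :
    ∃ (a : Ω) (t : M) (T : Subgroup M) (P : Sylow 2 G), Frame G Ω M π z w a t T P := by
  haveI : Fact (Nat.Prime 2) := ⟨Nat.prime_two⟩
  obtain ⟨a, -, -⟩ := C.set.exists_ne
  obtain ⟨t, T, hS, hR, hinv⟩ := C.exists_setup a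
  obtain ⟨S⟩ : Nonempty (Sylow 2 G) := inferInstance
  obtain ⟨b, hb⟩ := S.isPGroup'.nonempty_fixed_point_of_prime_not_dvd_card Ω
    C.set.odd_points.not_two_dvd_nat
  haveI := C.set.trans
  obtain ⟨g, hg⟩ := exists_smul_eq G b a
  set P : Sylow 2 G := g • S
  have hfix : ∀ x ∈ (P : Subgroup G), x • a = a := fun x hx => by
    rw [Sylow.coe_subgroup_smul] at hx
    obtain ⟨s, hs, rfl⟩ := hx
    show (g * s * g⁻¹) • a = a
    rw [← hg]
    exact H73.Bender.conj_smul_of_smul (hb ⟨s, hs⟩)
  have hle : (P : Subgroup G).map π ≤ T := by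
    intro x hx
    obtain ⟨p, hp, hpx⟩ := id hx
    have hxa : x ∈ stabilizer M a := (congrArg (· • a) hpx).symm.trans ((C.act p a).trans (hfix p hp))
    have hxp : IsPGroup 2 (zpowers x) := (P.isPGroup'.map π).to_le (zpowers_le.mpr hx)
    have hsup : IsPGroup 2 ↥(T ⊔ zpowers x) := by
      refine hR.isPGroup.to_sup_of_normal_left' hxp (zpowers_le.mpr ?_)
      refine mem_normalizer_iff.mpr fun y => ⟨fun hy => hS.conj_mem x hxa y hy, fun hy => ?_⟩
      have h1 := hS.conj_mem x⁻¹ (inv_mem hxa) _ hy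
      simpa [mul_assoc] using h1
    obtain ⟨q, hq, d, hd, hqd⟩ := H38.exists_decomp hS hxa
    have hdm : d ∈ T ⊔ zpowers x := by
      rw [show d = q⁻¹ * x by rw [hqd, inv_mul_cancel_left]]
      exact mul_mem (mem_sup_left (inv_mem hq)) (mem_sup_right (mem_zpowers x))
    obtain ⟨k, hk⟩ := IsPGroup.iff_orderOf.mp hsup ⟨d, hdm⟩
    rw [Subgroup.orderOf_mk] at hk
    have hodd := hS.odd_card.of_dvd_nat (Subgroup.orderOf_dvd_natCard _ hd)
    rw [hk] at hodd
    rcases k with _ | k
    · rw [hqd, orderOf_eq_one_iff.mp hk, mul_one]; exact hq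
    · exact absurd hodd (by rw [Nat.not_odd_iff_even, pow_succ]; exact even_two.mul_left _)
  refine ⟨a, t, T, P, C, hS, hR, hinv, hfix, ?_⟩
  exact ((P.mapSurjective C.surj).is_maximal' hR.isPGroup (by simpa using hle)).symm

namespace Frame

variable {a : Ω} {t : M} {T : Subgroup M} {P : Sylow 2 G} (F : Frame G Ω M π z w a t T P)
include F

omit [Finite G] [Finite Ω] [Finite M] [FaithfulSMul M Ω] in
theorem map_mem {g : G} (hg : g ∈ (P : Subgroup G)) : π g ∈ T := F.mapP ▸ ⟨g, hg, rfl⟩

omit [Finite G] [Finite Ω] [Finite M] [FaithfulSMul M Ω] in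
theorem exists_mem {x : M} (hx : x ∈ T) : ∃ g ∈ (P : Subgroup G), π g = x := by
  rw [← F.mapP] at hx
  exact hx

theorem w_mem : w ∈ (P : Subgroup G) := by
  have hp : IsPGroup 2 ↥((P : Subgroup G) ⊔ zpowers w) := by
    refine P.isPGroup'.to_sup_of_normal_left' (IsPGroup.of_card (n := 1) (by
      rw [Nat.card_zpowers, F.ctx.two]; rfl)) (zpowers_le.mpr ?_)
    refine mem_normalizer_iff.mpr fun g => ?_
    rw [← (F.ctx.central g).eq, mul_inv_cancel_right]
  exact P.is_maximal' hp le_sup_left ▸ mem_sup_right (mem_zpowers w)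

/-- The kernel in `P`. -/
theorem mem_zpowers_of_map_one {g : G} (hg : g ∈ (P : Subgroup G)) (h1 : π g = 1) :
    g ∈ zpowers w := by
  obtain ⟨k, hk⟩ := IsPGroup.iff_orderOf.mp P.isPGroup' ⟨g, hg⟩
  rw [Subgroup.orderOf_mk] at hk
  exact F.ctx.mem_zpowers_of_map_one k g (hk ▸ pow_orderOf_eq_one g) h1

/-- Elements fixing the point on the points lift to elements normalising `P`. -/
theorem exists_lift {k : M} (hk : k ∈ stabilizer M a) :
    ∃ g ∈ normalizer ((P : Subgroup G) : Set G), π g = k := by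
  haveI : Fact (Nat.Prime 2) := ⟨Nat.prime_two⟩
  obtain ⟨g₀, rfl⟩ := F.ctx.surj k
  have hX : (P : Subgroup G) ≤ T.comap π := fun g hg => F.map_mem hg
  have hX' : ((g₀ • P : Sylow 2 G) : Subgroup G) ≤ T.comap π := by
    rw [Sylow.coe_subgroup_smul]
    rintro _ ⟨g, hg, rfl⟩
    show π (g₀ * g * g₀⁻¹) ∈ T
    rw [map_mul, map_mul, map_inv]
    exact F.setup.conj_mem _ hk _ (F.map_mem hg)
  obtain ⟨m, hm⟩ := exists_smul_eq ↥(T.comap π) ((g₀ • P).subtype hX') (P.subtype hX)
  rw [Sylow.smul_subtype] at hm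
  have hn : ((m : G) * g₀) • P = P := by
    rw [mul_smul]
    exact Sylow.subtype_injective hm
  obtain ⟨p, hp, hpm⟩ := F.exists_mem (show π m ∈ T from m.2)
  refine ⟨p⁻¹ * ((m : G) * g₀), mul_mem (inv_mem (le_normalizer hp))
    (Sylow.smul_eq_iff_mem_normalizer.mp hn), ?_⟩
  rw [map_mul, map_inv, map_mul, hpm, inv_mul_cancel_left]

theorem map_invol {d : G} (hd : d ∈ conjugatesOf z) (hdP : d ∈ (P : Subgroup G)) :
    π d ∈ Cfsg.involutionsIn (stabilizer M a : Set M) := by
  have h2 := F.ctx.map_member hd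
  exact ⟨(F.ctx.act d a).trans (F.fixP d hdP),
    fun e => by rw [e, orderOf_one] at h2; exact absurd h2 (by norm_num),
    mul_self_of_orderOf_eq_two h2⟩

/-- Some member lies in `P`. -/
theorem exists_member : ∃ d ∈ conjugatesOf z, d ∈ (P : Subgroup G) := by
  haveI : Fact (Nat.Prime 2) := ⟨Nat.prime_two⟩
  obtain ⟨d, hd, hda⟩ := F.ctx.set.exists_at a
  have hPH : (P : Subgroup G) ≤ stabilizer G a := F.fixP
  have hd2 : IsPGroup 2 (zpowers d) :=
    IsPGroup.of_card (n := 1) (by rw [Nat.card_zpowers, F.ctx.set.inv hd]; rfl)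
  obtain ⟨R, hR⟩ := (hd2.comap_subtype (K := stabilizer G a)).exists_le_sylow
  obtain ⟨m, hm⟩ := exists_smul_eq ↥(stabilizer G a) R (P.subtype hPH)
  have hmem : m * ⟨d, hda⟩ * m⁻¹ ∈ ((m • R : Sylow 2 ↥(stabilizer G a)) :
      Subgroup ↥(stabilizer G a)) := by
    rw [Sylow.coe_subgroup_smul]
    exact ⟨⟨d, hda⟩, hR (mem_zpowers d), rfl⟩
  rw [hm, Sylow.coe_subtype, mem_subgroupOf] at hmem
  exact ⟨_, F.ctx.set.conj_conj hd (m : G), hmem⟩

/-- Every involution at the point has a member above it in `P`. -/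
theorem exists_member_above {s : M} (hs : s ∈ Cfsg.involutionsIn (stabilizer M a : Set M)) :
    ∃ d ∈ conjugatesOf z, d ∈ (P : Subgroup G) ∧ π d = s := by
  obtain ⟨d, hd, hdP⟩ := F.exists_member
  obtain ⟨k, hk, rfl⟩ := F.shape.trans _ (F.map_invol hd hdP) s hs
  obtain ⟨g, hg, rfl⟩ := F.exists_lift hk.1
  exact ⟨g * d * g⁻¹, F.ctx.set.conj_conj hd g, (mem_normalizer_iff.mp hg d).mp hdP,
    by rw [map_mul, map_mul, map_inv]⟩

/-- Members in `P` are determined by their image. -/
theorem member_eq {d e : G} (hd : d ∈ conjugatesOf z) (he : e ∈ conjugatesOf z)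
    (hdP : d ∈ (P : Subgroup G)) (heP : e ∈ (P : Subgroup G)) (h : π d = π e) : d = e :=
  F.ctx.set.eq_of_inv_mul_mem F.ctx.two F.ctx.central F.ctx.fix hd he
    (F.mem_zpowers_of_map_one (mul_mem (inv_mem hdP) heP) (by rw [map_mul, map_inv, h, inv_mul_cancel]))

theorem commute_member {d p : G} (hd : d ∈ conjugatesOf z) (hdP : d ∈ (P : Subgroup G))
    (hp : p ∈ (P : Subgroup G)) : Commute p d := by
  have hc : Commute (π d) (π p) :=
    (F.inv (π d) (F.ctx.map_member hd) (F.map_invol hd hdP).1).2 _ (F.map_mem hp)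
  refine mul_inv_eq_iff_eq_mul.mp (F.member_eq (F.ctx.set.conj_conj hd p) hd
    (mul_mem (mul_mem hp hdP) (inv_mem hp)) hdP ?_)
  rw [map_mul, map_mul, map_inv, ← hc.eq, mul_inv_cancel_right]

omit F in
/-- The subgroup generated by the members in `P`. -/
def members (P : Sylow 2 G) (z : G) : Subgroup G :=
  closure {d | d ∈ conjugatesOf z ∧ d ∈ (P : Subgroup G)}

omit F [Finite G] in
theorem members_le : members P z ≤ (P : Subgroup G) := (closure_le _).mpr fun _ hd => hd.2

theorem members_sq {x : G} (hx : x ∈ members P z) : x * x = 1 ∧ ∀ p ∈ (P : Subgroup G), Commute p x := by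
  induction hx using Subgroup.closure_induction with
  | mem d hd =>
    exact ⟨mul_self_of_orderOf_eq_two (F.ctx.set.inv hd.1),
      fun p hp => F.commute_member hd.1 hd.2 hp⟩
  | one => exact ⟨mul_one 1, fun p _ => Commute.one_right p⟩
  | mul x y hx hy h1 h2 =>
    refine ⟨?_, fun p hp => (h1.2 p hp).mul_right (h2.2 p hp)⟩
    rw [(h1.2 y (members_le hy)).mul_mul_mul_comm, h1.1, h2.1, one_mul]
  | inv x _ h1 => exact ⟨by rw [← mul_inv_rev, h1.1, inv_one], fun p hp => (h1.2 p hp).inv_right⟩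

theorem w_notMem_members : w ∉ members P z := by
  intro hw
  obtain ⟨q, hq⟩ := F.ctx.set.exists_ne_point a
  refine hq (F.ctx.clique _ (fun d hd => hd.1)
    (fun d hd e he => F.commute_member he.1 he.2 hd.2) a (fun d hd => F.fixP d hd.2) w hw
    (fun e => ?_) q (F.ctx.fix q))
  have := F.ctx.two
  rw [e, orderOf_one] at this
  exact absurd this (by norm_num)

/-- An element of `P` squaring to one on the points is in `members` up to `w`. -/
theorem mem_or_mul_mem {g : G} (hg : g ∈ (P : Subgroup G)) (h : π g * π g = 1) :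
    g ∈ members P z ∨ g * w ∈ members P z := by
  have hww := mul_self_of_orderOf_eq_two F.ctx.two
  by_cases h1 : π g = 1
  · rcases mem_zpowers_two F.ctx.two (F.mem_zpowers_of_map_one hg h1) with rfl | rfl
    · exact Or.inl (one_mem _)
    · exact Or.inr (hww ▸ one_mem _)
  obtain ⟨d, hd, hdP, he⟩ :=
    F.exists_member_above ⟨(F.ctx.act g a).trans (F.fixP g hg), h1, h⟩
  have hdA : d ∈ members P z := subset_closure ⟨hd, hdP⟩
  rcases mem_zpowers_two F.ctx.two (F.mem_zpowers_of_map_one (mul_mem (inv_mem hdP) hg)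
    (by rw [map_mul, map_inv, he, inv_mul_cancel])) with e | e
  · exact Or.inl (inv_mul_eq_one.mp e ▸ hdA)
  · refine Or.inr ?_
    rw [show g = d * w by rw [← e, mul_inv_cancel_left], mul_assoc, hww, mul_one]
    exact hdA

/-- The members with `1` form the subgroup `members`. -/
theorem eq_one_or_member {x : G} (hx : x ∈ members P z) : x = 1 ∨ x ∈ conjugatesOf z := by
  by_cases hx1 : x = 1
  · exact Or.inl hx1
  right
  have hxP := members_le hx
  have hx2 := (F.members_sq hx).1
  have h1 : π x ≠ 1 := fun e => by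
    rcases mem_zpowers_two F.ctx.two (F.mem_zpowers_of_map_one hxP e) with e' | e'
    · exact hx1 e'
    · exact F.w_notMem_members (e' ▸ hx)
  obtain ⟨d, hd, hdP, he⟩ := F.exists_member_above
    ⟨(F.ctx.act x a).trans (F.fixP x hxP), h1, by rw [← map_mul, hx2, map_one]⟩
  rcases mem_zpowers_two F.ctx.two (F.mem_zpowers_of_map_one (mul_mem (inv_mem hdP) hxP)
    (by rw [map_mul, map_inv, he, inv_mul_cancel])) with e | e
  · exact inv_mul_eq_one.mp e ▸ hd
  · exact absurd (e ▸ mul_mem (inv_mem (subset_closure ⟨hd, hdP⟩)) hx) F.w_notMem_members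

omit [Finite Ω] [Finite M] [FaithfulSMul M Ω] in
theorem conj_mem_members {g : G} (hg : g ∈ normalizer ((P : Subgroup G) : Set G)) {x : G}
    (hx : x ∈ members P z) : g * x * g⁻¹ ∈ members P z := by
  have hle : (members P z).map (MulAut.conj g).toMonoidHom ≤ members P z := by
    rw [members, MonoidHom.map_closure, closure_le]
    rintro _ ⟨d, hd, rfl⟩
    exact subset_closure ⟨by simpa using F.ctx.set.conj_conj hd.1 g,
      by simpa using (mem_normalizer_iff.mp hg d).mp hd.2⟩
  simpa using hle ⟨x, hx, rfl⟩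

theorem card_members : Nat.card (members P z) = H72.Asch.lineOrder M a := by
  classical
  choose m hm using fun s : Cfsg.involutionsIn (stabilizer M a : Set M) =>
    F.exists_member_above s.2
  let e : Option (Cfsg.involutionsIn (stabilizer M a : Set M)) → members P z := fun o =>
    o.elim 1 fun s => ⟨m s, subset_closure ⟨(hm s).1, (hm s).2.1⟩⟩
  have hne : ∀ s, (m s : G) ≠ 1 := fun s e1 => by
    have h2 := F.ctx.set.inv (hm s).1
    rw [e1, orderOf_one] at h2
    exact absurd h2 (by norm_num)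
  have he : Function.Bijective e := by
    refine ⟨?_, fun x => ?_⟩
    · rintro (_ | s) (_ | s') h
      · rfl
      · exact absurd (congrArg Subtype.val h).symm (hne s')
      · exact absurd (congrArg Subtype.val h) (hne s)
      · exact congrArg some (Subtype.ext (((hm s).2.2).symm.trans
          ((congrArg π (congrArg Subtype.val h :)).trans (hm s').2.2)))
    · rcases F.eq_one_or_member x.2 with h1 | h1
      · exact ⟨none, Subtype.ext h1.symm⟩
      · have hxP := members_le x.2
        exact ⟨some ⟨π x, F.map_invol h1 hxP⟩, Subtype.ext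
          (F.member_eq (hm _).1 h1 (hm _).2.1 hxP (hm _).2.2)⟩
  rw [← Nat.card_eq_of_bijective e he, Finite.card_option]
  rfl

theorem card_P : Nat.card (P : Subgroup G) = 2 * Nat.card T := by
  let φ : (P : Subgroup G) →* M := π.comp (P : Subgroup G).subtype
  have hr : φ.range = T := by
    rw [← F.mapP]
    ext x
    constructor
    · rintro ⟨g, rfl⟩
      exact ⟨g, g.2, rfl⟩
    · rintro ⟨g, hg, rfl⟩
      exact ⟨⟨g, hg⟩, rfl⟩
  have hk : Nat.card φ.ker = 2 := by
    have e : φ.ker = zpowers (⟨w, F.w_mem⟩ : (P : Subgroup G)) := by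
      ext g
      constructor
      · intro hg
        obtain ⟨i, hi⟩ := F.mem_zpowers_of_map_one g.2 hg
        exact ⟨i, Subtype.ext hi⟩
      · rintro ⟨i, rfl⟩
        exact φ.ker.zpow_mem (show π w = 1 from F.ctx.map_w) i
    rw [e, Nat.card_zpowers, Subgroup.orderOf_mk, F.ctx.two]
  rw [Subgroup.card_eq_card_quotient_mul_card_subgroup φ.ker,
    Nat.card_congr (QuotientGroup.quotientKerEquivRange φ).toEquiv, hr, hk, mul_comm]

end Frame

end Cfsg.Agent.H1.Asch.Red
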