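import Cfsg.Agent.H1.Asch.SinglePoint
import Cfsg.Agent.H72.Asch.RankOneShape
import Cfsg.Agent.Bridge.Bender
import Cfsg.Agent.Cores.GlaubermanZStar

/-!
# A central involution fixing all points: the group on the points

`Ctx`: the data of `Cover` with the group `M` induced on the points.  `M` is strongly embedded in
its point stabilisers; without a four-group in `M` the members are isolated, otherwise `M` has a
rank-one set-up.
-/

set_option autoImplicit false
set_option linter.style.haveILetI false

namespace Cfsg.Agent.H1.Asch.Red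

open Subgroup MulAction
open Cfsg.Agent.H39
open Cfsg.Agent.H14.Asch
open Cfsg.Agent.H73.Bender (SE RankTwo Faithful)

universe u

/-- The data of `Cover` and the induced group on the points. -/
structure Ctx (G : Type u) [Group G] (Ω : Type u) [MulAction G Ω] (M : Type u) [Group M]
    [MulAction M Ω] (π : G →* M) (z w : G) : Prop where
  set : Setting G Ω (conjugatesOf z) z
  clique : Clique G Ω (conjugatesOf z)
  top : closure (conjugatesOf z) = ⊤
  two : orderOf w = 2
  central : ∀ g : G, Commute g w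
  fix : ∀ p : Ω, w • p = p
  bad : ∀ t : G, t ∉ zpowers w → t * t ∈ zpowers w → ∀ p q : Ω, t • p = p → t • q = q → p = q
  surj : Function.Surjective π
  act : ∀ (g : G) (p : Ω), π g • p = g • p

namespace Ctx

variable {G : Type u} [Group G] [Finite G] {Ω : Type u} [MulAction G Ω] [Finite Ω]
  {M : Type u} [Group M] [Finite M] [MulAction M Ω] [FaithfulSMul M Ω] {π : G →* M} {z w : G}
  (C : Ctx G Ω M π z w)
include C

theorem fix_of_map_one {g : G} (hg : π g = 1) (p : Ω) : g • p = p := by
  rw [← C.act, hg, one_smul]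

theorem map_w : π w = 1 := eq_of_smul_eq_smul fun p : Ω => by rw [C.act, C.fix, one_smul]

/-- The two-elements of the kernel are powers of `w`. -/
theorem mem_zpowers_of_map_one : ∀ (k : ℕ) (g : G), g ^ 2 ^ k = 1 → π g = 1 → g ∈ zpowers w := by
  intro k
  induction k with
  | zero => intro g hg _; rw [pow_zero, pow_one] at hg; exact hg ▸ one_mem _
  | succ k ih =>
    intro g hg hπ
    by_contra hgw
    have h2 : g * g ∈ zpowers w := ih (g * g) (by rw [← pow_two, ← pow_mul, ← pow_succ']; exact hg)
      (by rw [map_mul, hπ, mul_one])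
    obtain ⟨x, y, hxy⟩ := C.set.exists_ne
    exact hxy (C.bad g hgw h2 x y (C.fix_of_map_one hπ x) (C.fix_of_map_one hπ y))

/-- Involutions on the points lift to elements squaring into the powers of `w`. -/
theorem exists_lift_two {x : M} (hx : orderOf x = 2) :
    ∃ g : G, π g = x ∧ g ∉ zpowers w ∧ g * g ∈ zpowers w := by
  obtain ⟨g, rfl⟩ := C.surj x
  obtain ⟨k, o, ho, hgo⟩ := Nat.exists_eq_two_pow_mul_odd (orderOf_pos g).ne'
  have hπ : π (g ^ o) = π g := by
    obtain ⟨j, hj⟩ := ho
    rw [map_pow, hj, pow_succ, pow_mul, pow_two, mul_self_of_orderOf_eq_two hx, one_pow, one_mul]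
  refine ⟨g ^ o, hπ, fun hmem => ?_, C.mem_zpowers_of_map_one k _ ?_ ?_⟩
  · rcases mem_zpowers_two C.two hmem with e | e <;> rw [e] at hπ
    · rw [← hπ, map_one, orderOf_one] at hx; exact absurd hx (by norm_num)
    · rw [← hπ, C.map_w, orderOf_one] at hx; exact absurd hx (by norm_num)
  · rw [← pow_two, ← pow_mul, ← pow_mul, show o * (2 * 2 ^ k) = 2 ^ k * o * 2 by ring, ← hgo,
      pow_mul, pow_orderOf_eq_one, one_pow]
  · rw [map_mul, hπ, mul_self_of_orderOf_eq_two hx]

theorem map_member {d : G} (hd : d ∈ conjugatesOf z) : orderOf (π d) = 2 := by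
  refine orderOf_eq_two_of_mul_self ?_ fun e => ?_
  · rw [← map_mul, mul_self_of_orderOf_eq_two (C.set.inv hd), map_one]
  · obtain ⟨p, q, hpq⟩ := C.set.exists_ne
    exact hpq ((C.set.unique hd).unique (C.fix_of_map_one e p) (C.fix_of_map_one e q))

theorem se : SE (⊤ : Subgroup M) (Set.univ : Set Ω) where
  smul_mem _ _ _ := Set.mem_univ _
  trans {x y} _ _ := by
    haveI := C.set.trans
    obtain ⟨g, hg⟩ := exists_smul_eq G x y
    exact ⟨π g, mem_top _, (C.act g x).trans hg⟩
  exists_fix {t} _ ht := by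
    obtain ⟨p, hp⟩ := exists_fixed_of_odd (f := fun p : Ω => t • p) (fun p => by
      show t • t • p = p
      rw [← mul_smul, mul_self_of_orderOf_eq_two ht, one_smul]) C.set.odd_points
    exact ⟨p, Set.mem_univ p, hp⟩
  fix_unique {t} _ ht {x y} _ _ hx hy := by
    obtain ⟨g, rfl, hg, hgg⟩ := C.exists_lift_two ht
    exact C.bad g hg hgg x y ((C.act g x).symm.trans hx) ((C.act g y).symm.trans hy)
  exists_ne := by
    obtain ⟨x, y, hxy⟩ := C.set.exists_ne
    exact ⟨x, Set.mem_univ x, y, Set.mem_univ y, hxy⟩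
  exists_inv := ⟨π z, mem_top _, C.map_member (mem_conjugatesOf_self)⟩

/-- Without a four-group on the points the members would be isolated. -/
theorem rankTwo : RankTwo (⊤ : Subgroup M) := by
  classical
  by_contra hnr
  haveI : Fact (Nat.Prime 2) := ⟨Nat.prime_two⟩
  have h := C.set
  -- commuting members are equal
  have hiso : ∀ d ∈ conjugatesOf z, ∀ e ∈ conjugatesOf z, Commute d e → d = e := by
    intro d hd e he hde
    have heq : π d = π e := by
      by_contra hne
      exact hnr ⟨π d, mem_top _, π e, mem_top _, C.map_member hd, C.map_member he, hne, hde.map π⟩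
    refine h.eq_of_inv_mul_mem C.two C.central C.fix hd he (C.mem_zpowers_of_map_one 1 _ ?_ ?_)
    · rw [pow_one, pow_two, inv_eq_of_orderOf_eq_two (h.inv hd), hde.symm.mul_mul_mul_comm,
        mul_self_of_orderOf_eq_two (h.inv hd), mul_self_of_orderOf_eq_two (h.inv he), one_mul]
    · rw [map_mul, map_inv, heq, inv_mul_cancel]
  -- a member centralising a Sylow subgroup
  obtain ⟨S⟩ : Nonempty (Sylow 2 G) := inferInstance
  letI : MulAction (S : Subgroup G) (conjugatesOf z) :=
    { smul := fun s d => ⟨(s : G) * d.1 * (s : G)⁻¹, h.conj_conj d.2 _⟩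
      one_smul := fun d => Subtype.ext (by
        show ((1 : (S : Subgroup G)) : G) * d.1 * ((1 : (S : Subgroup G)) : G)⁻¹ = d.1
        simp)
      mul_smul := fun s t d => Subtype.ext (by
        show ((s * t : (S : Subgroup G)) : G) * d.1 * ((s * t : (S : Subgroup G)) : G)⁻¹ =
          (s : G) * ((t : G) * d.1 * (t : G)⁻¹) * (s : G)⁻¹
        simp [mul_assoc]) }
  obtain ⟨⟨d, hd⟩, hdfix⟩ := S.isPGroup'.nonempty_fixed_point_of_prime_not_dvd_card (conjugatesOf z)
    h.odd_class.not_two_dvd_nat
  have hdS : ∀ s ∈ (S : Subgroup G), Commute s d := fun s hs =>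
    mul_inv_eq_iff_eq_mul.mp (congrArg Subtype.val (hdfix ⟨s, hs⟩))
  have hd2 := h.inv hd
  have hdmem : d ∈ (S : Subgroup G) := by
    have hp : IsPGroup 2 ↥((S : Subgroup G) ⊔ zpowers d) := by
      refine S.isPGroup'.to_sup_of_normal_left' (IsPGroup.of_card (n := 1) (by
        rw [Nat.card_zpowers, hd2]; rfl)) ?_
      rw [zpowers_le, mem_normalizer_iff]
      intro s
      constructor
      · intro hs
        rwa [← (hdS s hs).eq, mul_inv_cancel_right]
      · intro hs
        have h1 := hdS _ hs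
        have h2 : d * (d * s * d⁻¹) * d⁻¹ = d * s * d⁻¹ := by rw [← h1.eq, mul_inv_cancel_right]
        rwa [show d * s * d⁻¹ = s from mul_left_cancel (mul_right_cancel h2)] at hs
    exact S.is_maximal' hp le_sup_left ▸ mem_sup_right (mem_zpowers d)
  have hZ := Cores.glaubermanZStar S hd2 hdmem fun g hg =>
    (hiso d hd _ (h.conj_conj hd g) (hdS _ hg).symm).symm
  haveI : (Cfsg.oddCore G).Characteristic := Cores.pPrimeCore_characteristic
  have hle : closure (conjugatesOf z) ≤ Cfsg.oddCore G ⊔ zpowers d := by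
    rw [closure_le]
    intro e he
    obtain ⟨g, rfl⟩ := isConj_iff.mp ((show IsConj z d from hd).symm.trans he)
    have h1 := hZ g
    rw [inv_eq_of_orderOf_eq_two hd2] at h1
    rw [show g * d * g⁻¹ = d * (d * g * d * g⁻¹) by
      simp only [← mul_assoc, mul_self_of_orderOf_eq_two hd2, one_mul]]
    exact mul_mem (mem_sup_right (mem_zpowers d)) (mem_sup_left h1)
  rw [C.top] at hle
  obtain ⟨k, hk, a, ha, hka⟩ := mem_sup_of_normal_left.mp (hle (mem_top w))
  have hk2 : k * k = 1 := by
    rw [eq_mul_inv_of_mul_eq hka]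
    rcases mem_zpowers_two hd2 ha with rfl | rfl
    · rw [inv_one, mul_one, mul_self_of_orderOf_eq_two C.two]
    · rw [inv_eq_of_orderOf_eq_two hd2, (C.central a).mul_mul_mul_comm,
        mul_self_of_orderOf_eq_two C.two, mul_self_of_orderOf_eq_two hd2, one_mul]
  have hk1 : k = 1 := by
    by_contra hk1
    have h1 := (Cores.odd_card_oddCore (G := G)).of_dvd_nat (Subgroup.orderOf_dvd_natCard _ hk)
    rw [orderOf_eq_two_of_mul_self hk2 hk1] at h1
    exact absurd h1 (by decide)
  rw [hk1, one_mul] at hka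
  rcases mem_zpowers_two hd2 ha with e | e
  · have := C.two
    rw [← hka, e, orderOf_one] at this
    exact absurd this (by norm_num)
  · obtain ⟨p, q, hpq⟩ := h.exists_ne
    exact hpq ((h.unique hd).unique (by rw [← e, hka, C.fix]) (by rw [← e, hka, C.fix]))

omit C in
theorem faithful : Faithful (⊤ : Subgroup M) (Set.univ : Set Ω) := by
  refine (Subgroup.eq_bot_iff_forall _).mpr fun g hg => ?_
  exact eq_of_smul_eq_smul fun p : Ω =>
    ((H73.Bender.mem_kernel.mp hg).2 p (Set.mem_univ p)).trans (one_smul M p).symm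

/-- The rank-one set-up at a point. -/
theorem exists_setup (a : Ω) : ∃ (t : M) (T : Subgroup M), Cfsg.IsRankOneSetup M Ω a t T ∧
    H72.Asch.RankOneShape a t T ∧
      ∀ s : M, orderOf s = 2 → s • a = a → s ∈ T ∧ ∀ x ∈ T, Commute s x := by
  have hSE := C.se
  obtain ⟨T, hT⟩ := Bridge.exists_regularTwo Bridge.coreFreeAll Bridge.nonCommStep hSE C.rankTwo
    (faithful (M := M) (Ω := Ω)) (a := a) (Set.mem_univ a)
  obtain ⟨b, hba⟩ := C.set.exists_ne_point a
  obtain ⟨t, -, ht, hta⟩ := hSE.exists_swap (Set.mem_univ a) (Set.mem_univ b) (Ne.symm hba)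
  have hTa : T ≤ stabilizer M a := fun g hg => (hT.le hg).2
  have hS : Cfsg.IsRankOneSetup M Ω a t T :=
    { two_transitive := by
        rw [MulAction.is_two_pretransitive_iff]
        intro x y x' y' hxy hxy'
        obtain ⟨g, -, hg⟩ := hSE.trans (Set.mem_univ x) (Set.mem_univ a)
        obtain ⟨g', -, hg'⟩ := hSE.trans (Set.mem_univ x') (Set.mem_univ a)
        obtain ⟨k, hk, hk'⟩ := hT.trans (g • y) (Set.mem_univ _)
          (fun e => hxy (MulAction.injective g (hg.trans e.symm))) (g' • y') (Set.mem_univ _)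
          (fun e => hxy' (MulAction.injective g' (hg'.trans e.symm)))
        have hka : k • a = a := hTa hk
        refine ⟨g'⁻¹ * k * g, ?_, ?_⟩
        · rw [mul_smul, mul_smul, hg, hka, ← hg', inv_smul_smul]
        · rw [mul_smul, mul_smul, hk', inv_smul_smul]
      mul_self := mul_self_of_orderOf_eq_two ht
      ne_one := fun e => by rw [e, orderOf_one] at ht; exact absurd ht (by norm_num)
      not_mem := fun e => hba (hta.symm.trans e)
      le := hTa
      conj_mem := fun g hg x hx =>
        (Subgroup.mem_normalizer_iff.mp (hT.normal ⟨mem_top g, hg⟩) x).mp hx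
      inf_eq_bot := (Subgroup.eq_bot_iff_forall _).mpr fun g hg =>
        hT.free g hg.1 _ (Set.mem_univ _) (hta ▸ hba) hg.2
      sup_eq := by
        refine le_antisymm (sup_le hTa inf_le_left) fun g hg => ?_
        have hga : g • a = a := hg
        obtain ⟨k, hk, hk'⟩ := hT.trans (t • a) (Set.mem_univ _) (hta ▸ hba) (g • t • a)
          (Set.mem_univ _) (fun e => hba (hta ▸ MulAction.injective g (e.trans hga.symm)))
        rw [show g = k * (k⁻¹ * g) by group]
        refine mul_mem (mem_sup_left hk) (mem_sup_right ⟨?_, ?_⟩)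
        · show k⁻¹ * g ∈ stabilizer M a
          exact mul_mem (inv_mem (hTa hk)) hg
        · show (k⁻¹ * g) • t • a = t • a
          rw [mul_smul, ← hk', inv_smul_smul]
      even_card := by
        obtain ⟨s, hs, hs2, hsa⟩ := hSE.exists_inv_at (Set.mem_univ a)
        rw [even_iff_two_dvd, ← hs2]
        exact Subgroup.orderOf_dvd_natCard _ (hT.inv_mem s ⟨hs, hs2, hsa⟩)
      odd_card := by
        have h1 := hSE.odd_pair (Set.mem_univ a) (Set.mem_univ (t • a)) (hta ▸ hba.symm)
        rwa [H73.Bender.pair, top_inf_eq] at h1 }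
  obtain ⟨x, y, hx, hy, hxy, hc⟩ := H73.Bender.rankTwo_top_iff.mp C.rankTwo
  have h2 : ∃ x y : M, x ≠ 1 ∧ y ≠ 1 ∧ x ≠ y ∧ x * x = 1 ∧ y * y = 1 ∧ x * y = y * x :=
    ⟨x, y, fun e => by rw [e, orderOf_one] at hx; exact absurd hx (by norm_num),
      fun e => by rw [e, orderOf_one] at hy; exact absurd hy (by norm_num), hxy,
      mul_self_of_orderOf_eq_two hx, mul_self_of_orderOf_eq_two hy, hc.eq⟩
  refine ⟨t, T, hS, H72.Asch.rankOneShape hS h2 ?_, fun s hs hsa =>
    ⟨hT.inv_mem s ⟨mem_top s, hs, hsa⟩, hT.inv_comm s ⟨mem_top s, hs, hsa⟩⟩⟩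
  have hn := H99.RankOne.closure_normal hS
  have htop : closure (π '' conjugatesOf z) = ⊤ := by
    rw [← MonoidHom.map_closure, C.top]
    exact Subgroup.map_top_of_surjective _ C.surj
  rw [eq_top_iff, ← htop, closure_le]
  rintro _ ⟨d, hd, rfl⟩
  have hd2 := C.map_member hd
  obtain ⟨g, hg⟩ := H38.invol_conj hS hS.ne_one hS.mul_self
    (fun e => by rw [e, orderOf_one] at hd2; exact absurd hd2 (by norm_num))
    (mul_self_of_orderOf_eq_two hd2)
  rw [← hg]
  exact hn.conj_mem t (subset_closure (Or.inr rfl)) g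

end Ctx

end Cfsg.Agent.H1.Asch.Red
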