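import Cfsg.Agent.H38.Invert

/-!
# A four-group on a group of odd order: the Brauer-Wielandt count

`|R| |C_R(x, y)| ^ 2 = |C_R(x)| |C_R(y)| |C_R(xy)|`.
-/

set_option autoImplicit false

namespace Cfsg.Agent.H1.Asch

open Cfsg.Agent.H38 Subgroup

variable {G : Type*} [Group G]

section

variable {x y : G} (hx : x * x = 1) (hy : y * y = 1) (hxy : Commute x y) {O : Subgroup G}
  (hodd : Odd (Nat.card O)) (hnx : ∀ g ∈ O, x * g * x⁻¹ ∈ O) (hny : ∀ g ∈ O, y * g * y⁻¹ ∈ O)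

include hx hy hxy hodd hnx hny

/-- Every element inverted by `x` is uniquely `c d c` with `c` fixed by `y`, `d` fixed by `x y`. -/
theorem exists_unique_split {i : G} (hi : i ∈ invertedBy O x) :
    ∃! p : G × G, (p.1 ∈ invertedBy O x ∧ y * p.1 * y⁻¹ = p.1) ∧
      (p.2 ∈ invertedBy O x ∧ (x * y) * p.2 * (x * y)⁻¹ = p.2) ∧ p.1 * p.2 * p.1 = i := by
  obtain ⟨hiO, hix⟩ := hi
  set j := y * i * y⁻¹ with hj
  have hjO : j ∈ O := hny i hiO
  have e : x * y = y * x := hxy.eq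
  have hjx : x * j * x⁻¹ = j⁻¹ := by
    calc x * (y * i * y⁻¹) * x⁻¹ = x * y * i * (x * y)⁻¹ := by group
      _ = y * x * i * (y * x)⁻¹ := by rw [e]
      _ = y * (x * i * x⁻¹) * y⁻¹ := by group
      _ = _ := by rw [hix, hj]; group
  have hyj : y * j * y⁻¹ = i := by
    rw [hj, show y * (y * i * y⁻¹) * y⁻¹ = (y * y) * i * (y * y)⁻¹ by group, hy]; group
  set b := rt O j with hb
  have hbO : b ∈ O := rt_mem hjO
  have hbb : b * b = j := rt_mul_self hodd hjO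
  have hbi : b⁻¹ * i * b⁻¹ ∈ O := mul_mem (mul_mem (inv_mem hbO) hiO) (inv_mem hbO)
  set C := b * rt O (b⁻¹ * i * b⁻¹) * b with hC
  have hCO : C ∈ O := mul_mem (mul_mem hbO (rt_mem hbi)) hbO
  have hCeq : C * j⁻¹ * C = i := by
    rw [hC, ← hbb]
    rw [show b * rt O (b⁻¹ * i * b⁻¹) * b * (b * b)⁻¹ * (b * rt O (b⁻¹ * i * b⁻¹) * b) =
      b * (rt O (b⁻¹ * i * b⁻¹) * rt O (b⁻¹ * i * b⁻¹)) * b by group, rt_mul_self hodd hbi]
    group
  have huniq : ∀ C' ∈ O, C' * j⁻¹ * C' = i → C' = C := by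
    intro C' hC'O hC'
    have e1 : b⁻¹ * C' * b⁻¹ * (b⁻¹ * C' * b⁻¹) = b⁻¹ * i * b⁻¹ := by
      rw [← hC', ← hbb]; group
    have e2 : b⁻¹ * C' * b⁻¹ = rt O (b⁻¹ * i * b⁻¹) := by
      rw [← e1, rt_of_sq hodd (mul_mem (mul_mem (inv_mem hbO) hC'O) (inv_mem hbO))]
    rw [hC, ← e2]; group
  have hCx : x * C * x⁻¹ = C⁻¹ := by
    have e1 : x * C * x⁻¹ * j * (x * C * x⁻¹) = i⁻¹ := by
      calc x * C * x⁻¹ * j * (x * C * x⁻¹) = x * C * x⁻¹ * (x * j * x⁻¹)⁻¹ * (x * C * x⁻¹) := by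
            rw [hjx, inv_inv]
        _ = x * (C * j⁻¹ * C) * x⁻¹ := by group
        _ = _ := by rw [hCeq, hix]
    have e2 : (x * C * x⁻¹)⁻¹ = C := by
      refine huniq _ (inv_mem (hnx C hCO)) ?_
      have := congrArg (fun z : G => z⁻¹) e1
      simpa [mul_inv_rev, mul_assoc] using this
    rw [← inv_inv (x * C * x⁻¹), e2]
  have hCy : y * C * y⁻¹ = C := by
    refine huniq _ (hny C hCO) ?_
    set D := y * C * y⁻¹
    have e2 : D * i⁻¹ * D = j := by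
      calc y * C * y⁻¹ * i⁻¹ * (y * C * y⁻¹) =
          y * C * y⁻¹ * (y * j * y⁻¹)⁻¹ * (y * C * y⁻¹) := by rw [hyj]
        _ = y * (C * j⁻¹ * C) * y⁻¹ := by group
        _ = j := by rw [hCeq]
    calc D * j⁻¹ * D = D * (D * i⁻¹ * D)⁻¹ * D := by rw [e2]
      _ = i := by group
  set c := rt O C with hc
  have hcO : c ∈ O := rt_mem hCO
  have hcc : c * c = C := rt_mul_self hodd hCO
  have hcx : x * c * x⁻¹ = c⁻¹ := by rw [hc, conj_rt, hCx, rt_inv]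
  have hcy : y * c * y⁻¹ = c := by rw [hc, conj_rt, hCy]
  set d := c⁻¹ * i * c⁻¹ with hd
  have hdO : d ∈ O := mul_mem (mul_mem (inv_mem hcO) hiO) (inv_mem hcO)
  have hdxy : (x * y) * d * (x * y)⁻¹ = d := by
    rw [hd, show x * y * (c⁻¹ * i * c⁻¹) * (x * y)⁻¹ =
      x * ((y * c * y⁻¹)⁻¹ * (y * i * y⁻¹) * (y * c * y⁻¹)⁻¹) * x⁻¹ by group, hcy, ← hj,
      show x * (c⁻¹ * j * c⁻¹) * x⁻¹ = (x * c * x⁻¹)⁻¹ * (x * j * x⁻¹) * (x * c * x⁻¹)⁻¹ by
        group, hcx, hjx, inv_inv]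
    have := congrArg (fun z => c⁻¹ * z * c⁻¹) hCeq
    rw [← hcc] at this
    simpa [mul_assoc] using this
  have hdx : x * d * x⁻¹ = d⁻¹ := by
    rw [hd, show x * (c⁻¹ * i * c⁻¹) * x⁻¹ = (x * c * x⁻¹)⁻¹ * (x * i * x⁻¹) * (x * c * x⁻¹)⁻¹ by
      group, hcx, hix]
    group
  refine ⟨(c, d), ⟨⟨⟨hcO, hcx⟩, hcy⟩, ⟨⟨hdO, hdx⟩, hdxy⟩, by rw [hd]; group⟩, ?_⟩
  rintro ⟨c', d'⟩ ⟨⟨⟨hc'O, -⟩, hc'y⟩, ⟨⟨hd'O, hd'x⟩, hd'xy⟩, he⟩
  simp only at hc'O hc'y hd'O hd'x hd'xy he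
  have hdy : y * d' * y⁻¹ = d'⁻¹ := by
    conv_lhs => rw [← hd'xy]
    rw [show y * (x * y * d' * (x * y)⁻¹) * y⁻¹ = (y * (x * y)) * d' * (y * (x * y))⁻¹ by group,
      show y * (x * y) = x by rw [e, ← mul_assoc, hy, one_mul], hd'x]
  have hj' : j = c' * d'⁻¹ * c' := by
    rw [hj, ← he, show y * (c' * d' * c') * y⁻¹ =
      (y * c' * y⁻¹) * (y * d' * y⁻¹) * (y * c' * y⁻¹) by group, hc'y, hdy]
  have hC' : c' * c' = C := huniq _ (mul_mem hc'O hc'O) (by rw [hj', ← he]; group)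
  have hc' : c' = c := by rw [hc, ← hC', rt_of_sq hodd hc'O]
  subst hc'
  simp only [Prod.mk.injEq, true_and]
  rw [hd, ← he]; group

/-- The number of elements inverted by `x` splits. -/
theorem card_inverted_four :
    Nat.card (invertedBy O x) = Nat.card (invertedBy (O ⊓ centralizer {y}) x) *
      Nat.card (invertedBy (O ⊓ centralizer {x * y}) x) := by
  rw [← Nat.card_prod]
  have hmem : ∀ (z c : G), c ∈ invertedBy (O ⊓ centralizer {z}) x ↔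
      c ∈ invertedBy O x ∧ z * c * z⁻¹ = c := by
    intro z c
    simp only [invertedBy, Set.mem_setOf_eq, mem_inf, mem_centralizer_singleton_iff]
    simp only [mul_inv_eq_iff_eq_mul]
    exact ⟨fun h => ⟨⟨h.1.1, h.2⟩, h.1.2.symm⟩, fun h => ⟨⟨h.1.1, h.2.symm⟩, h.1.2⟩⟩
  have key : ∀ c d : G, c ∈ invertedBy O x → y * c * y⁻¹ = c → d ∈ invertedBy O x →
      c * d * c ∈ invertedBy O x := by
    rintro c d ⟨hcO, hcx⟩ - ⟨hdO, hdx⟩
    refine ⟨mul_mem (mul_mem hcO hdO) hcO, ?_⟩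
    rw [show x * (c * d * c) * x⁻¹ = (x * c * x⁻¹) * (x * d * x⁻¹) * (x * c * x⁻¹) by group,
      hcx, hdx]
    group
  refine (Nat.card_congr (Equiv.ofBijective
    (fun p : invertedBy (O ⊓ centralizer {y}) x × invertedBy (O ⊓ centralizer {x * y}) x =>
      (⟨(p.1 : G) * p.2 * p.1, key _ _ ((hmem y _).mp p.1.2).1 ((hmem y _).mp p.1.2).2
        ((hmem _ _).mp p.2.2).1⟩ : invertedBy O x)) ⟨?_, ?_⟩)).symm
  · rintro ⟨⟨c, hc⟩, ⟨d, hd⟩⟩ ⟨⟨c', hc'⟩, ⟨d', hd'⟩⟩ h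
    have hi := key c d ((hmem y c).mp hc).1 ((hmem y c).mp hc).2 ((hmem _ d).mp hd).1
    obtain ⟨p, -, hu⟩ := exists_unique_split hx hy hxy hodd hnx hny hi
    have e1 := hu (c, d) ⟨(hmem y c).mp hc, (hmem _ d).mp hd, rfl⟩
    have e2 := hu (c', d') ⟨(hmem y c').mp hc', (hmem _ d').mp hd', (congrArg Subtype.val h).symm⟩
    have e := e1.trans e2.symm
    simp only [Prod.mk.injEq] at e
    obtain ⟨rfl, rfl⟩ := e
    rfl
  · rintro ⟨i, hi⟩
    obtain ⟨p, ⟨h1, h2, h3⟩, -⟩ := exists_unique_split hx hy hxy hodd hnx hny hi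
    exact ⟨(⟨p.1, (hmem y _).mpr h1⟩, ⟨p.2, (hmem _ _).mpr h2⟩), Subtype.ext h3⟩

/-- **Brauer-Wielandt** for a four-group `{1, x, y, x y}` on a group `O` of odd order. -/
theorem card_mul_fix_sq [Finite G] :
    Nat.card O * Nat.card ↥(O ⊓ centralizer ({x, y} : Set G)) ^ 2 =
      Nat.card ↥(O ⊓ centralizer {x}) * Nat.card ↥(O ⊓ centralizer {y}) *
        Nat.card ↥(O ⊓ centralizer {x * y}) := by
  have hnorm : ∀ z : G, Commute x z → ∀ g ∈ O ⊓ centralizer {z}, x * g * x⁻¹ ∈ O ⊓ centralizer {z} := by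
    intro z hz g hg
    obtain ⟨hgO, hgz⟩ := mem_inf.mp hg
    refine mem_inf.mpr ⟨hnx g hgO, ?_⟩
    rw [mem_centralizer_singleton_iff] at hgz ⊢
    have hxz : Commute x⁻¹ z := hz.inv_left
    calc x * g * x⁻¹ * z = x * g * (z * x⁻¹) := by rw [mul_assoc, hxz.eq]
      _ = x * (g * z) * x⁻¹ := by group
      _ = x * (z * g) * x⁻¹ := by rw [hgz]
      _ = x * z * g * x⁻¹ := by group
      _ = z * x * g * x⁻¹ := by rw [hz.eq]
      _ = z * (x * g * x⁻¹) := by group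
  have hoddz : ∀ z : G, Odd (Nat.card ↥(O ⊓ centralizer {z})) := fun z =>
    hodd.of_dvd_nat (card_dvd_of_le inf_le_left)
  have h0 := card_decomp hx hodd hnx
  have h1 := card_decomp hx (hoddz y) (hnorm y hxy)
  have h2 := card_decomp hx (hoddz (x * y)) (hnorm _ ((Commute.refl x).mul_right hxy))
  have e1 : O ⊓ centralizer {y} ⊓ centralizer {x} = O ⊓ centralizer ({x, y} : Set G) := by
    ext g
    simp only [mem_inf, mem_centralizer_iff, Set.mem_insert_iff, Set.mem_singleton_iff,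
      forall_eq, forall_eq_or_imp]
    tauto
  have e2 : O ⊓ centralizer {x * y} ⊓ centralizer {x} = O ⊓ centralizer ({x, y} : Set G) := by
    ext g
    simp only [mem_inf, mem_centralizer_iff, Set.mem_insert_iff, Set.mem_singleton_iff,
      forall_eq, forall_eq_or_imp]
    constructor
    · rintro ⟨⟨hg, h2⟩, h3⟩
      refine ⟨hg, h3, mul_left_cancel (a := x) ?_⟩
      rw [← mul_assoc, h2, ← mul_assoc, ← h3, mul_assoc]
    · rintro ⟨hg, h3, h4⟩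
      exact ⟨⟨hg, by rw [mul_assoc, h4, ← mul_assoc, h3, mul_assoc]⟩, h3⟩
  rw [e1] at h1
  rw [e2] at h2
  rw [h0, card_inverted_four hx hy hxy hodd hnx hny, h1, h2]
  ring

end

end Cfsg.Agent.H1.Asch
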