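import Mathlib
import Cfsg.Agent.H39.Transfer

/-!
# The transfer that kills a bad involution

`H` of odd index in `G`, `φ : H →* A` with `A` commutative, `u` an involution of `H` whose
conjugates inside `H` all have the value `φ u ≠ 1`: then the transfer separates `u` from the
commutator subgroup and from every involution whose conjugates inside `H` are in the kernel.
-/

set_option autoImplicit false
set_option linter.style.haveILetI false

namespace Cfsg.Agent.H1.Asch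

open Subgroup
open scoped commutatorElement

variable {G : Type*} [Group G] [Finite G] {H : Subgroup G} {A : Type*} [CommGroup A]

omit [Finite G] in
theorem pow_eq_one_or_self {u : G} (hu : u * u = 1) (k : ℕ) :
    (Even k ∧ u ^ k = 1) ∨ (Odd k ∧ u ^ k = u) := by
  rcases Nat.even_or_odd k with h | h
  · obtain ⟨j, rfl⟩ := h
    exact Or.inl ⟨⟨j, rfl⟩, by rw [← two_mul, pow_mul, pow_two, hu, one_pow]⟩
  · obtain ⟨j, rfl⟩ := h
    exact Or.inr ⟨⟨j, rfl⟩, by rw [pow_succ, pow_mul, pow_two, hu, one_pow, one_mul]⟩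

/-- The transfer at an involution with constant value on its conjugates in `H`. -/
theorem transfer_involution (φ : H →* A) (hodd : Odd H.index) {u : G} (huH : u ∈ H) (hu : u * u = 1)
    (hconj : ∀ (a : G) (h : a⁻¹ * u * a ∈ H), φ ⟨a⁻¹ * u * a, h⟩ = φ ⟨u, huH⟩) :
    MonoidHom.transfer φ u = φ ⟨u, huH⟩ := by
  have hc : φ ⟨u, huH⟩ * φ ⟨u, huH⟩ = 1 := by
    rw [← map_mul, show (⟨u, huH⟩ : H) * ⟨u, huH⟩ = 1 from Subtype.ext hu, map_one]
  refine (H39.transfer_eq_pow_of_map_eq φ ⟨u, huH⟩ fun k a h => ?_).trans ?_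
  · rcases pow_eq_one_or_self hu k with ⟨⟨j, hj⟩, hk⟩ | ⟨⟨j, hj⟩, hk⟩
    · have e : (⟨a⁻¹ * u ^ k * a, h⟩ : H) = 1 := Subtype.ext (by simp [hk])
      rw [e, map_one, hj, ← two_mul, pow_mul, pow_two, hc, one_pow]
    · have h' : a⁻¹ * u * a ∈ H := by rwa [hk] at h
      have e : (⟨a⁻¹ * u ^ k * a, h⟩ : H) = ⟨a⁻¹ * u * a, h'⟩ := Subtype.ext (by simp [hk])
      rw [e, hconj a h', hj, pow_succ, pow_mul, pow_two, hc, one_pow, one_mul]
  · obtain ⟨j, hj⟩ := hodd
    rw [hj, pow_succ, pow_mul, pow_two, hc, one_pow, one_mul]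

/-- An involution with no conjugate outside the kernel has trivial transfer. -/
theorem transfer_involution_eq_one (φ : H →* A) {d : G} (hd : d * d = 1)
    (hker : ∀ (a : G) (h : a⁻¹ * d * a ∈ H), φ ⟨a⁻¹ * d * a, h⟩ = 1) :
    MonoidHom.transfer φ d = 1 := by
  have : Fintype (Quotient (MulAction.orbitRel (zpowers d) (G ⧸ H))) := Fintype.ofFinite _
  rw [MonoidHom.transfer_eq_prod_quotient_orbitRel_zpowers_quot]
  refine Finset.prod_eq_one fun q _ => ?_
  rcases pow_eq_one_or_self hd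
    (Function.minimalPeriod (d • ·) (Quotient.out q)) with ⟨-, hk⟩ | ⟨-, hk⟩
  · refine (congrArg φ (Subtype.ext ?_)).trans (map_one φ)
    simp [hk]
  · have hm := QuotientGroup.out_conj_pow_minimalPeriod_mem H d (Quotient.out q)
    refine (congrArg φ (Subtype.ext ?_)).trans
      (hker (Quotient.out (Quotient.out q)) (by rwa [hk] at hm))
    simp [hk]

/-- **Transfer kill.** A homomorphism of `G` separating `u` from `D`. -/
theorem exists_hom_separating (φ : H →* A) (hodd : Odd H.index) {u : G} (huH : u ∈ H)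
    (hu : u * u = 1) (hu1 : φ ⟨u, huH⟩ ≠ 1)
    (hconj : ∀ (a : G) (h : a⁻¹ * u * a ∈ H), φ ⟨a⁻¹ * u * a, h⟩ = φ ⟨u, huH⟩) :
    ∃ ψ : G →* A, ψ u ≠ 1 ∧ ∀ d : G, d * d = 1 →
      (∀ (a : G) (h : a⁻¹ * d * a ∈ H), φ ⟨a⁻¹ * d * a, h⟩ = 1) → ψ d = 1 :=
  ⟨MonoidHom.transfer φ, by rwa [transfer_involution φ hodd huH hu hconj],
    fun _ hd hker => transfer_involution_eq_one φ hd hker⟩

theorem not_mem_commutator_of_map_conj (φ : H →* A) (hodd : Odd H.index) {u : G} (huH : u ∈ H)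
    (hu : u * u = 1) (hu1 : φ ⟨u, huH⟩ ≠ 1)
    (hconj : ∀ (a : G) (h : a⁻¹ * u * a ∈ H), φ ⟨a⁻¹ * u * a, h⟩ = φ ⟨u, huH⟩) :
    u ∉ commutator G := fun hmem => hu1 (by
  rw [← transfer_involution φ hodd huH hu hconj]
  exact Abelianization.commutator_subset_ker (MonoidHom.transfer φ) hmem)

theorem not_mem_closure_of_map_conj (φ : H →* A) (hodd : Odd H.index) {u : G} (huH : u ∈ H)
    (hu : u * u = 1) (hu1 : φ ⟨u, huH⟩ ≠ 1)
    (hconj : ∀ (a : G) (h : a⁻¹ * u * a ∈ H), φ ⟨a⁻¹ * u * a, h⟩ = φ ⟨u, huH⟩) {D : Set G}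
    (hD : ∀ d ∈ D, d * d = 1)
    (hker : ∀ d ∈ D, ∀ (a : G) (h : a⁻¹ * d * a ∈ H), φ ⟨a⁻¹ * d * a, h⟩ = 1) :
    u ∉ closure D := by
  obtain ⟨ψ, h1, h2⟩ := exists_hom_separating φ hodd huH hu hu1 hconj
  exact fun hmem => h1 ((closure_le ψ.ker).mpr (fun d hd => h2 d (hD d hd) (hker d hd)) hmem)

/-- All conjugates of `u` in `S` in one coset of `K`, those of `D` in `K`. -/
theorem not_mem_closure_of_coset {S K : Subgroup G} (hodd : Odd S.index)
    (hKS : (K.subgroupOf S).Normal) (hcomm : commutator S ≤ K.subgroupOf S) {u : G} (huS : u ∈ S)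
    (hu : u * u = 1) (huK : u ∉ K)
    (hconj : ∀ a : G, a⁻¹ * u * a ∈ S → a⁻¹ * u * a * u ∈ K) {D : Set G}
    (hD : ∀ d ∈ D, d * d = 1) (hker : ∀ d ∈ D, ∀ a : G, a⁻¹ * d * a ∈ S → a⁻¹ * d * a ∈ K) :
    u ∉ closure D ∧ u ∉ commutator G := by
  letI : CommGroup (S ⧸ K.subgroupOf S) :=
    { (inferInstance : Group (S ⧸ K.subgroupOf S)) with
      mul_comm := fun a b => by
        induction a using QuotientGroup.induction_on with
        | _ a =>
          induction b using QuotientGroup.induction_on with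
          | _ b =>
            rw [← QuotientGroup.mk_mul, ← QuotientGroup.mk_mul, QuotientGroup.eq]
            refine hcomm ?_
            rw [show (a * b)⁻¹ * (b * a) = ⁅b⁻¹, a⁻¹⁆ by rw [commutatorElement_def]; group]
            exact commutator_mem_commutator (mem_top _) (mem_top _) }
  let φ : S →* S ⧸ K.subgroupOf S := QuotientGroup.mk' _
  have hu1 : φ ⟨u, huS⟩ ≠ 1 := fun h =>
    huK ((QuotientGroup.eq_one_iff (N := K.subgroupOf S) ⟨u, huS⟩).mp h)
  have hc : ∀ (a : G) (h : a⁻¹ * u * a ∈ S), φ ⟨a⁻¹ * u * a, h⟩ = φ ⟨u, huS⟩ := by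
    intro a h
    refine (QuotientGroup.eq.mpr ?_).symm
    rw [mem_subgroupOf]
    show u⁻¹ * (a⁻¹ * u * a) ∈ K
    have hk := hconj a h
    have h1 : (⟨a⁻¹ * u * a * u, S.mul_mem h huS⟩ : S) ∈ K.subgroupOf S := hk
    have := hKS.conj_mem _ h1 ⟨u, huS⟩
    rw [inv_eq_of_mul_eq_one_right hu]
    have h2 : u * (a⁻¹ * u * a * u) * u⁻¹ ∈ K := this
    rw [inv_eq_of_mul_eq_one_right hu] at h2
    simpa [mul_assoc, hu] using h2
  exact ⟨not_mem_closure_of_map_conj φ hodd huS hu hu1 hc hD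
      fun d hd a h => (QuotientGroup.eq_one_iff (N := K.subgroupOf S) ⟨_, h⟩).mpr (hker d hd a h),
    not_mem_commutator_of_map_conj φ hodd huS hu hu1 hc⟩

section Action

variable {Ω : Type*} [MulAction G Ω] [MulAction.IsPretransitive G Ω] {p : Ω}

omit [Finite G] [MulAction.IsPretransitive G Ω] in
/-- If `C(u)` is transitive on the fixed points of `u`, the value is constant on conjugates. -/
theorem map_conj_eq_of_centralizer_transitive (φ : MulAction.stabilizer G p →* A) {u : G}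
    (hup : u • p = p)
    (htrans : ∀ q : Ω, u • q = q → ∃ c : G, Commute c u ∧ c • p = q) (a : G)
    (h : a⁻¹ * u * a ∈ MulAction.stabilizer G p) :
    φ ⟨a⁻¹ * u * a, h⟩ = φ ⟨u, MulAction.mem_stabilizer_iff.mpr hup⟩ := by
  have hq : u • a • p = a • p := by
    have := MulAction.mem_stabilizer_iff.mp h
    rw [mul_smul, mul_smul, inv_smul_eq_iff] at this
    exact this
  obtain ⟨c, hc, hcp⟩ := htrans _ hq
  have hk : c⁻¹ * a ∈ MulAction.stabilizer G p := by
    rw [MulAction.mem_stabilizer_iff, mul_smul, ← hcp, inv_smul_smul]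
  set k : MulAction.stabilizer G p := ⟨c⁻¹ * a, hk⟩
  have e : (⟨a⁻¹ * u * a, h⟩ : MulAction.stabilizer G p) =
      k⁻¹ * ⟨u, MulAction.mem_stabilizer_iff.mpr hup⟩ * k := Subtype.ext (by
    show a⁻¹ * u * a = (c⁻¹ * a)⁻¹ * u * (c⁻¹ * a)
    calc a⁻¹ * u * a = a⁻¹ * (u * c) * c⁻¹ * a := by group
      _ = a⁻¹ * (c * u) * c⁻¹ * a := by rw [hc.eq]
      _ = _ := by group)
  rw [e, map_mul, map_mul, map_inv, mul_comm (φ k)⁻¹, inv_mul_cancel_right]

/-- Transfer kill on an odd transitive set. -/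
theorem not_mem_closure_of_action (hodd : Odd (Nat.card Ω))
    (φ : MulAction.stabilizer G p →* A) {u : G} (hu : u * u = 1) (hup : u • p = p)
    (hu1 : φ ⟨u, MulAction.mem_stabilizer_iff.mpr hup⟩ ≠ 1)
    (htrans : ∀ q : Ω, u • q = q → ∃ c : G, Commute c u ∧ c • p = q) {D : Set G}
    (hD : ∀ d ∈ D, d * d = 1) (hDc : ∀ g : G, ∀ d ∈ D, g * d * g⁻¹ ∈ D)
    (hker : ∀ d (h : d • p = p), d ∈ D → φ ⟨d, MulAction.mem_stabilizer_iff.mpr h⟩ = 1) :
    u ∉ closure D := by
  refine not_mem_closure_of_map_conj φ ?_ _ hu hu1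
    (map_conj_eq_of_centralizer_transitive φ hup htrans) hD fun d hd a h => ?_
  · rwa [MulAction.index_stabilizer_of_transitive]
  · exact hker _ (MulAction.mem_stabilizer_iff.mp h) (by simpa using hDc a⁻¹ d hd)

end Action

end Cfsg.Agent.H1.Asch
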