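import Cfsg.Agent.H1.Asch.MaximalCrit
import Cfsg.Agent.H1.Asch.Transfer

/-!
# A point stabiliser controls the fusion of 2-subgroups

Under `Crit`, the centraliser of a 2-group is transitive on its fixed points, so two conjugate
2-subgroups fixing a point are conjugate in its stabiliser, elementwise in the same way.
Consequently every homomorphism of a point stabiliser into a commutative group which kills the
members at the point kills every involution of `<D>` fixing the point.
-/

set_option autoImplicit false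
set_option linter.style.haveILetI false

namespace Cfsg.Agent.H1.Asch

open Subgroup MulAction
open Cfsg.Agent.H73.Bender
open Cfsg.Agent.H14.Asch
open Cfsg.Agent.H39

variable {G : Type*} [Group G] [Finite G] {Ω : Type*} [MulAction G Ω] [Finite Ω] {D : Set G}

/-- A 2-group centralises a member at each of its fixed points. -/
theorem exists_memCent_of_two (h : Crit G Ω D) {T : Subgroup G} (hT : IsPGroup 2 T) {x : Ω}
    (hx : x ∈ fixSet (Ω := Ω) T) : ∃ d ∈ memCent D T, d • x = x :=
  exists_member_fixed (fun g _ hd => h.conj_mem hd g) hT hx (h.odd_card_at x)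

/-- The members centralising a nontrivial 2-group with two fixed points generate a strongly
embedded action on its fixed points. -/
theorem se_fixSet_of_two (h : Crit G Ω D) {T : Subgroup G} (hT : IsPGroup 2 T) (hne : T ≠ ⊥)
    (htwo : ∃ p ∈ fixSet (Ω := Ω) T, ∃ q ∈ fixSet (Ω := Ω) T, p ≠ q) :
    SE (closure (memCent D T)) (fixSet (Ω := Ω) T) := by
  obtain ⟨k, hk, hcard⟩ := hT.nontrivial_iff_card.mp ((Subgroup.nontrivial_iff_ne_bot T).mpr hne)
  have h2 : 2 ∣ Nat.card T := hcard ▸ dvd_pow_self 2 hk.ne'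
  obtain ⟨⟨e, he⟩, he2⟩ := exists_prime_orderOf_dvd_card' 2 h2
  rw [Subgroup.orderOf_mk] at he2
  obtain ⟨p, hp, q, hq, hpq⟩ := htwo
  refine se_fixSet (h.line he2 hpq (hp e he) (hq e he)) (fun d hd => h.inv hd)
    (closure_mono fun d hd => ⟨hd.1, mem_centralizer_singleton_iff.mpr (hd.2 e he).eq⟩)
    (fun x hx => hx e he) ⟨p, hp, q, hq, hpq⟩ fun x hx => exists_memCent_of_two h hT hx

/-- The centraliser of a 2-group is transitive on its fixed points. -/
theorem exists_centralizing_smul (h : Crit G Ω D) {T : Subgroup G} (hT : IsPGroup 2 T) {x y : Ω}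
    (hx : x ∈ fixSet (Ω := Ω) T) (hy : y ∈ fixSet (Ω := Ω) T) :
    ∃ c : G, (∀ t ∈ T, Commute c t) ∧ c • x = y := by
  by_cases hxy : x = y
  · exact ⟨1, fun t _ => Commute.one_left t, by rw [one_smul, hxy]⟩
  by_cases hne : T = ⊥
  · subst hne
    obtain ⟨d, hd⟩ := h.exists_mem_swappers x y
    exact ⟨d, fun t ht => by rw [Subgroup.mem_bot.mp ht]; exact Commute.one_right d, hd.2⟩
  obtain ⟨g, hg, hgx⟩ := (se_fixSet_of_two h hT hne ⟨x, hx, y, hy, hxy⟩).trans hx hy
  exact ⟨g, fun t ht => commute_of_mem_closure_memCent hg ht, hgx⟩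

/-- **Control of fusion**: a conjugation mapping a 2-subgroup of the stabiliser of a point into
this stabiliser is induced by an element of the stabiliser. -/
theorem exists_stabilizer_conj (h : Crit G Ω D) {T : Subgroup G} (hT : IsPGroup 2 T) {p : Ω}
    (hp : p ∈ fixSet (Ω := Ω) T) {a : G} (ha : ∀ t ∈ T, (a * t * a⁻¹) • p = p) :
    ∃ k ∈ stabilizer G p, ∀ t ∈ T, k * t * k⁻¹ = a * t * a⁻¹ := by
  have hq : a⁻¹ • p ∈ fixSet (Ω := Ω) T := fun t ht => by
    have h1 := ha t ht
    rw [mul_smul, mul_smul] at h1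
    exact (inv_smul_eq_iff.mpr h1.symm).symm
  obtain ⟨c, hc, hcq⟩ := exists_centralizing_smul h hT hq hp
  refine ⟨a * c⁻¹, ?_, fun t ht => ?_⟩
  · rw [mem_stabilizer_iff, mul_smul, inv_smul_eq_iff.mpr hcq.symm, smul_inv_smul]
  · calc a * c⁻¹ * t * (a * c⁻¹)⁻¹ = a * (c⁻¹ * (t * c)) * a⁻¹ := by group
      _ = a * t * a⁻¹ := by rw [← (hc t ht).eq, inv_mul_cancel_left]

/-- The centraliser of an involution is transitive on its fixed points. -/
theorem exists_commute_smul (h : Crit G Ω D) {u : G} (hu : orderOf u = 2) {x y : Ω}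
    (hx : u • x = x) (hy : u • y = y) : ∃ c : G, Commute c u ∧ c • x = y := by
  have hT : IsPGroup 2 (zpowers u) :=
    IsPGroup.of_card (n := 1) (by rw [Nat.card_zpowers, hu]; rfl)
  have hfix : ∀ {z : Ω}, u • z = z → z ∈ fixSet (Ω := Ω) (zpowers u) := fun {z} hz e he =>
    (zpowers_le.mpr (show u ∈ stabilizer G z from hz)) he
  obtain ⟨c, hc, hcx⟩ := exists_centralizing_smul h hT (hfix hx) (hfix hy)
  exact ⟨c, hc u (mem_zpowers u), hcx⟩

/-- There is an odd number of points. -/
theorem odd_card_points (h : Crit G Ω D) : Odd (Nat.card Ω) := by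
  classical
  haveI := Fintype.ofFinite Ω
  obtain ⟨d, hd⟩ := h.nonempty
  obtain ⟨a, ha, hu⟩ := h.unique hd
  let f : Function.End Ω := fun x => d • x
  have hf : f ^ 2 ^ 1 = 1 := by
    rw [pow_one, pow_two]
    funext x
    show d • d • x = x
    rw [← mul_smul, mul_self_of_orderOf_eq_two (h.inv hd), one_smul]
  have h' := Equiv.Perm.card_fixedPoints_modEq (p := 2) hf
  have h1 : Fintype.card (Function.fixedPoints f) = 1 :=
    Fintype.card_eq_one_iff.mpr ⟨⟨a, ha⟩, fun ⟨y, hy⟩ => Subtype.ext (hu y hy)⟩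
  rw [Nat.card_eq_fintype_card]
  unfold Nat.ModEq at h'
  refine Nat.odd_iff.mpr ?_
  rw [h1] at h'
  omega

/-- **Transfer kill**: a homomorphism of a point stabiliser killing the members at the point kills
the involutions of `<D>` fixing it. -/
theorem not_mem_closure_of_stabilizer_hom (h : Crit G Ω D) {p : Ω} {A : Type*} [CommGroup A]
    (φ : stabilizer G p →* A)
    (hker : ∀ d (hd : d • p = p), d ∈ D → φ ⟨d, mem_stabilizer_iff.mpr hd⟩ = 1)
    {u : G} (hu : orderOf u = 2) (hup : u • p = p)
    (hu1 : φ ⟨u, mem_stabilizer_iff.mpr hup⟩ ≠ 1) : u ∉ closure D := by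
  haveI := h.trans
  exact not_mem_closure_of_action (odd_card_points h) φ (mul_self_of_orderOf_eq_two hu) hup hu1
    (fun q hq => exists_commute_smul h hu hup hq) (fun d hd => mul_self_of_orderOf_eq_two (h.inv hd))
    (fun g d hd => h.conj_mem hd g) hker

end Cfsg.Agent.H1.Asch
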