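import Cfsg.Agent.H1.Asch.MaximalFix
import Cfsg.Agent.H14.Asch.Crit

/-!
# Maximal elementary 2-groups under the criterion

The results of `MaximalFix` with their hypotheses discharged from `Crit`: for `E` a nontrivial
elementary 2-group, maximal with two fixed points, `<C_D(E)>` is strongly embedded on `Fix E` and
an involution centralising `E` is in `E`, `C_D(E)` or `E C_D(E)`.
-/

set_option autoImplicit false
set_option linter.style.haveILetI false

namespace Cfsg.Agent.H1.Asch

open Subgroup MulAction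
open Cfsg.Agent.H73.Bender
open Cfsg.Agent.H14.Asch
open Cfsg.Agent.H39

variable {G : Type*} [Group G] [Finite G] {Ω : Type*} [MulAction G Ω] [Finite Ω] {D : Set G}
  {E : Subgroup G}

/-- A member centralised by `E` at each fixed point of `E`. -/
theorem exists_memCent_of_crit (h : Crit G Ω D) (hEe : Cfsg.IsElementaryAbelian 2 E) {x : Ω}
    (hx : x ∈ fixSet (Ω := Ω) E) : ∃ d ∈ memCent D E, d • x = x :=
  exists_member_fixed (fun g _ hd => h.conj_mem hd g)
    (fun e => ⟨1, Subtype.ext (by simpa using hEe.2 e e.2)⟩) hx (h.odd_card_at x)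

/-- `<C_D(E)>` is strongly embedded on `Fix E` when `E` fixes two points. -/
theorem se_fixSet_of_crit (h : Crit G Ω D) (hEe : Cfsg.IsElementaryAbelian 2 E) (hne : E ≠ ⊥)
    (htwo : ∃ p ∈ fixSet (Ω := Ω) E, ∃ q ∈ fixSet (Ω := Ω) E, p ≠ q) :
    SE (closure (memCent D E)) (fixSet (Ω := Ω) E) := by
  obtain ⟨⟨e, he⟩, he1⟩ := Subgroup.ne_bot_iff_exists_ne_one.mp hne
  have he2 : orderOf e = 2 := orderOf_eq_two_of_mul_self (by simpa [pow_two] using hEe.2 e he)
    fun h1 => he1 (Subtype.ext h1)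
  obtain ⟨p, hp, q, hq, hpq⟩ := htwo
  refine se_fixSet (h.line he2 hpq (hp e he) (hq e he)) (fun d hd => h.inv hd)
    (closure_mono fun d hd => ⟨hd.1, mem_centralizer_singleton_iff.mpr (hd.2 e he).eq⟩)
    (fun x hx => hx e he) ⟨p, hp, q, hq, hpq⟩ fun x hx => exists_memCent_of_crit h hEe hx

/-- **P5**: an involution centralising `E`, maximal with two fixed points, is in `E`, in `C_D(E)`
or in `E C_D(E)`. -/
theorem involution_centralizing_of_crit (h : Crit G Ω D) (hEe : Cfsg.IsElementaryAbelian 2 E)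
    (hne : E ≠ ⊥) (htwo : ∃ p ∈ fixSet (Ω := Ω) E, ∃ q ∈ fixSet (Ω := Ω) E, p ≠ q)
    (hmax : ∀ E' : Subgroup G, E < E' → Cfsg.IsElementaryAbelian 2 E' →
      (fixSet (Ω := Ω) E').Subsingleton)
    {j : G} (hj2 : orderOf j = 2) (hjE : ∀ e ∈ E, Commute j e) :
    j ∈ E ∨ j ∈ memCent D E ∨ ∃ e ∈ E, ∃ d ∈ memCent D E, j = e * d :=
  involution_centralizing (fun _ hd => h.inv hd) (fun e he => by simpa [pow_two] using hEe.2 e he)
    (fun x hx => exists_memCent_of_crit h hEe hx) (fun g _ hd => h.conj_mem hd g)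
    (se_fixSet_of_crit h hEe hne htwo)
    (fun _ hi hiE hin _ hx _ hy hix hiy => subsingleton_of_maximal hEe hmax hi hiE hin hx hy hix hiy)
    hj2 hjE

end Cfsg.Agent.H1.Asch
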