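import Cfsg.Agent.H73.Bender.Lines
import Cfsg.Prelude.Def_Transfer

/-!
# Maximal elementary 2-groups with two fixed points

`E` is elementary, maximal with at least two fixed points. Then `L = <C_D(E)>` is strongly embedded
on `Fix E` and every involution centralising `E` lies in `E`, `C_D(E)` or `E C_D(E)`.
-/

set_option autoImplicit false
set_option linter.style.haveILetI false

namespace Cfsg.Agent.H1.Asch

open Subgroup MulAction
open Cfsg.Agent.H73.Bender
open Cfsg.Agent.H39

variable {G : Type*} [Group G] {Ω : Type*} [MulAction G Ω]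

/-- The fixed points of a subgroup. -/
def fixSet (E : Subgroup G) : Set Ω := {x | ∀ e ∈ E, e • x = x}

/-- The members of `D` centralised by `E`. -/
def memCent (D : Set G) (E : Subgroup G) : Set G := {d | d ∈ D ∧ ∀ e ∈ E, Commute d e}

theorem commute_of_mem_closure_memCent {D : Set G} {E : Subgroup G} {l : G}
    (hl : l ∈ closure (memCent D E)) {e : G} (he : e ∈ E) : Commute l e := by
  have h : closure (memCent D E) ≤ centralizer ({e} : Set G) :=
    (closure_le _).mpr fun d hd => mem_centralizer_singleton_iff.mpr (hd.2 e he).eq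
  exact mem_centralizer_singleton_iff.mp (h hl)

theorem smul_mem_fixSet {E : Subgroup G} {g : G} (hg : ∀ e ∈ E, Commute g e) {x : Ω}
    (hx : x ∈ fixSet E) : g • x ∈ fixSet E := fun e he => by
  rw [← mul_smul, ← (hg e he).eq, mul_smul, hx e he]

variable [Finite G]

/-- A 2-group fixing `x` fixes one of the oddly many members at `x`. -/
theorem exists_member_fixed {D : Set G} (hDc : ∀ g : G, ∀ d ∈ D, g * d * g⁻¹ ∈ D)
    {E : Subgroup G} (hE : IsPGroup 2 E) {x : Ω} (hx : x ∈ fixSet E)
    (hodd : Odd (Nat.card {d : G // d ∈ D ∧ d • x = x})) :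
    ∃ d ∈ memCent D E, d • x = x := by
  letI : MulAction E {d : G // d ∈ D ∧ d • x = x} :=
    { smul := fun e d => ⟨(e : G) * d * (e : G)⁻¹, hDc _ _ d.2.1, by
        have h1 : (e : G)⁻¹ • x = x := inv_smul_eq_iff.mpr (hx e e.2).symm
        rw [mul_smul, mul_smul, h1, d.2.2, hx e e.2]⟩
      one_smul := fun d => Subtype.ext (by show (1 : G) * d * (1 : G)⁻¹ = d; simp)
      mul_smul := fun e f d => Subtype.ext (by
        show ((e * f : E) : G) * d * ((e * f : E) : G)⁻¹ = e * (f * d * (f : G)⁻¹) * (e : G)⁻¹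
        rw [Subgroup.coe_mul]; group) }
  have h := hE.card_modEq_card_fixedPoints (α := {d : G // d ∈ D ∧ d • x = x})
  have hne : Nat.card (fixedPoints E {d : G // d ∈ D ∧ d • x = x}) ≠ 0 := fun h0 => by
    rw [h0] at h
    exact (Nat.not_even_iff_odd.mpr hodd) (even_iff_two_dvd.mpr (Nat.modEq_zero_iff_dvd.mp h))
  obtain ⟨⟨⟨⟨d, hd, hdx⟩, hfix⟩⟩, -⟩ := Nat.card_ne_zero.mp hne
  refine ⟨d, ⟨hd, fun e he => ?_⟩, hdx⟩
  have := congrArg Subtype.val (hfix ⟨e, he⟩)
  exact (mul_inv_eq_iff_eq_mul.mp (this : e * d * e⁻¹ = d)).symm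

omit [Finite G] in
/-- Maximality of `E` in the form used by `involution_centralizing`. -/
theorem subsingleton_of_maximal {E : Subgroup G} (hEe : Cfsg.IsElementaryAbelian 2 E)
    (hmax : ∀ E' : Subgroup G, E < E' → Cfsg.IsElementaryAbelian 2 E' →
      (fixSet (Ω := Ω) E').Subsingleton)
    {i : G} (hi : orderOf i = 2) (hiE : ∀ e ∈ E, Commute i e) (hin : i ∉ E) {x : Ω}
    (hx : x ∈ fixSet (Ω := Ω) E) {y : Ω} (hy : y ∈ fixSet (Ω := Ω) E) (hix : i • x = x)
    (hiy : i • y = y) : x = y := by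
  set E' := closure (insert i (E : Set G)) with hE'
  haveI := hEe.1
  have hcomm : ∀ a ∈ insert i (E : Set G), ∀ b ∈ insert i (E : Set G), a * b = b * a := by
    rintro a (rfl | ha) b (rfl | hb)
    · rfl
    · exact (hiE b hb).eq
    · exact (hiE a ha).eq.symm
    · exact congrArg Subtype.val (mul_comm' (⟨a, ha⟩ : E) ⟨b, hb⟩)
  haveI := Subgroup.isMulCommutative_closure hcomm
  have hsq : ∀ a ∈ E', a ^ 2 = 1 := by
    intro a ha
    induction ha using Subgroup.closure_induction with
    | mem b hb =>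
      rcases hb with rfl | hb
      · rw [← hi, pow_orderOf_eq_one]
      · exact hEe.2 b hb
    | one => exact one_pow _
    | mul b c hb hc h1 h2 =>
      have hbc : Commute b c := congrArg Subtype.val (mul_comm' (⟨b, hb⟩ : E') ⟨c, hc⟩)
      rw [hbc.mul_pow, h1, h2, one_mul]
    | inv b _ h1 => rw [inv_pow, h1, inv_one]
  have hlt : E < E' := lt_of_le_of_ne (fun e he => subset_closure (Set.mem_insert_of_mem _ he))
    fun h => hin (h ▸ subset_closure (Set.mem_insert _ _))
  have hfix : ∀ z ∈ fixSet (Ω := Ω) E, i • z = z → z ∈ fixSet (Ω := Ω) E' := fun z hz hiz e he =>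
    ((closure_le (stabilizer G z)).mpr (by
      rintro g (rfl | hg)
      exacts [hiz, hz g hg]) he : e ∈ stabilizer G z)
  exact hmax E' hlt ⟨inferInstance, hsq⟩ (hfix x hx hix) (hfix y hy hiy)

/-- The point set of a strongly embedded action is odd. -/
theorem odd_card_of_se {S : Subgroup G} {C : Set Ω} (hS : SE S C) [Finite Ω] :
    Odd (Nat.card C) := by
  classical
  obtain ⟨t, ht, ht2⟩ := hS.exists_inv
  obtain ⟨a, ha, hta⟩ := hS.exists_fix ht ht2
  haveI := Fintype.ofFinite C
  let f : Function.End C := fun x => ⟨t • x.1, hS.smul_mem ht x.2⟩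
  have hf : f ^ 2 ^ 1 = 1 := by
    rw [pow_one, pow_two]
    funext x
    exact Subtype.ext (by
      show t • t • x.1 = x.1
      rw [← mul_smul, mul_self_of_orderOf_eq_two ht2, one_smul])
  have h := Equiv.Perm.card_fixedPoints_modEq (p := 2) hf
  have h1 : Fintype.card (Function.fixedPoints f) = 1 :=
    Fintype.card_eq_one_iff.mpr ⟨⟨⟨a, ha⟩, Subtype.ext hta⟩, fun ⟨⟨y, hy⟩, hfix⟩ =>
      Subtype.ext (Subtype.ext (hS.fix_unique ht ht2 hy ha (congrArg Subtype.val hfix) hta))⟩
  rw [Nat.card_eq_fintype_card]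
  have h2 : Fintype.card C % 2 = 1 := by
    have h' := h
    unfold Nat.ModEq at h'
    convert h' using 1
    rw [show Fintype.card (Function.fixedPoints f) = 1 from h1]
  exact Nat.odd_iff.mpr h2

variable {D : Set G} {E : Subgroup G}

/-- `<C_D(E)>` is strongly embedded on `Fix E`, inside a line containing it. -/
theorem se_fixSet {S : Subgroup G} {C : Set Ω} (hS : SE S C)
    (hD2 : ∀ d ∈ D, orderOf d = 2) (hLS : closure (memCent D E) ≤ S)
    (hFC : fixSet E ⊆ C) (htwo : ∃ p ∈ fixSet (Ω := Ω) E, ∃ q ∈ fixSet (Ω := Ω) E, p ≠ q)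
    (hmem : ∀ x ∈ fixSet (Ω := Ω) E, ∃ d ∈ memCent D E, d • x = x) :
    SE (closure (memCent D E)) (fixSet (Ω := Ω) E) := by
  set L := closure (memCent D E) with hL
  have hpts : points L C = fixSet (Ω := Ω) E := by
    refine Set.Subset.antisymm ?_ fun x hx => ?_
    · rintro x ⟨hxC, t, ht, ht2, htx⟩ e he
      by_contra hne
      -- `e` moves the only point of `t`, so it lies outside the line
      obtain ⟨p, hp, q, hq, hpq⟩ := htwo
      obtain ⟨d, hd, hdp⟩ := hmem p hp
      obtain ⟨d', hd', hd'q⟩ := hmem q hq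
      have hline := hS.line hLS (p := p) (q := q) ⟨hFC hp, d, subset_closure hd, hD2 d hd.1, hdp⟩
        ⟨hFC hq, d', subset_closure hd', hD2 d' hd'.1, hd'q⟩ hpq
      obtain ⟨g, hg, hgx⟩ := hline.trans (x := p) (y := x)
        ⟨hFC hp, d, subset_closure hd, hD2 d hd.1, hdp⟩ ⟨hxC, t, ht, ht2, htx⟩
      exact hne (hgx ▸ (smul_mem_fixSet (fun f hf => commute_of_mem_closure_memCent hg hf) hp) e he)
    · obtain ⟨d, hd, hdx⟩ := hmem x hx
      exact ⟨hFC hx, d, subset_closure hd, hD2 d hd.1, hdx⟩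
  obtain ⟨p, hp, q, hq, hpq⟩ := htwo
  have := hS.line hLS (p := p) (q := q) (hpts.ge hp) (hpts.ge hq) hpq
  rwa [hpts] at this

/-- **P5**: with `E` maximal, an involution of `C(E)` is in `E`, in `C_D(E)` or in `E C_D(E)`. -/
theorem involution_centralizing [Finite Ω] (hD2 : ∀ d ∈ D, orderOf d = 2)
    (hE2 : ∀ e ∈ E, e * e = 1) (hmem : ∀ x ∈ fixSet (Ω := Ω) E, ∃ d ∈ memCent D E, d • x = x)
    (hDc : ∀ g : G, ∀ d ∈ D, g * d * g⁻¹ ∈ D)
    (hSE : SE (closure (memCent D E)) (fixSet (Ω := Ω) E))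
    (hmax : ∀ i : G, orderOf i = 2 → (∀ e ∈ E, Commute i e) → i ∉ E →
      ∀ x ∈ fixSet (Ω := Ω) E, ∀ y ∈ fixSet (Ω := Ω) E, i • x = x → i • y = y → x = y)
    {j : G} (hj2 : orderOf j = 2) (hjE : ∀ e ∈ E, Commute j e) :
    j ∈ E ∨ j ∈ memCent D E ∨ ∃ e ∈ E, ∃ d ∈ memCent D E, j = e * d := by
  classical
  set L := closure (memCent D E) with hL
  have hjj : j * j = 1 := mul_self_of_orderOf_eq_two hj2
  by_cases hjin : j ∈ E
  · exact Or.inl hjin
  right
  have hLj : ∀ l ∈ L, j * l * j⁻¹ ∈ L := by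
    intro l hl
    induction hl using Subgroup.closure_induction with
    | mem d hd =>
      refine subset_closure ⟨hDc j d hd.1, fun e he => ?_⟩
      exact ((hjE e he).mul_left (hd.2 e he)).mul_left (hjE e he).inv_left
    | one => simp
    | mul a b _ _ ha hb =>
      rw [show j * (a * b) * j⁻¹ = (j * a * j⁻¹) * (j * b * j⁻¹) by group]
      exact mul_mem ha hb
    | inv a _ ha =>
      rw [show j * a⁻¹ * j⁻¹ = (j * a * j⁻¹)⁻¹ by group]
      exact inv_mem ha
  have hji : j⁻¹ = j := inv_eq_of_mul_eq_one_right hjj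
  let M : Subgroup G :=
    { carrier := {g | g ∈ L ∨ g * j ∈ L}
      one_mem' := Or.inl L.one_mem
      mul_mem' := by
        rintro a b (ha | ha) (hb | hb)
        · exact Or.inl (mul_mem ha hb)
        · exact Or.inr (by rw [mul_assoc]; exact mul_mem ha hb)
        · refine Or.inr ?_
          have h1 : j * b * j⁻¹ ∈ L := hLj b hb
          have : a * b * j = (a * j) * (j * b * j⁻¹) := by
            rw [mul_assoc (a : G) j, ← mul_assoc j (j * b), ← mul_assoc j j, hjj, one_mul, hji, mul_assoc]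
          rw [this]; exact mul_mem ha h1
        · refine Or.inl ?_
          have h1 : j * (b * j) * j⁻¹ ∈ L := hLj _ hb
          have : a * b = (a * j) * (j * (b * j) * j⁻¹) := by
            rw [hji, mul_assoc j, mul_assoc b, hjj, mul_one, mul_assoc a, ← mul_assoc j, hjj, one_mul]
          rw [this]; exact mul_mem ha h1
      inv_mem' := by
        rintro a (ha | ha)
        · exact Or.inl (inv_mem ha)
        · refine Or.inr ?_
          have h1 := hLj _ (inv_mem ha)
          rwa [mul_inv_rev, hji, ← mul_assoc, hjj, one_mul] at h1 }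
  have hLM : L ≤ M := fun l hl => Or.inl hl
  have hjM : j ∈ M := Or.inr (by rw [hjj]; exact L.one_mem)
  have hMc : ∀ g ∈ M, ∀ e ∈ E, Commute g e := by
    intro g hg e he
    rcases hg with hg | hg
    · exact commute_of_mem_closure_memCent hg he
    · have h1 := (commute_of_mem_closure_memCent hg he).mul_left (hjE e he)
      rwa [mul_assoc, hjj, mul_one] at h1
  have hodd := odd_card_of_se hSE
  by_cases hME : ∃ e ∈ E, e ∈ M ∧ e ≠ 1
  · obtain ⟨e, he, heM, he1⟩ := hME
    rcases heM with heL | hejL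
    · -- `e` would be an element of `L` fixing all of `Fix E`
      have hk : e ∈ kernel L (fixSet (Ω := Ω) E) := mem_kernel.mpr ⟨heL, fun x hx => hx e he⟩
      refine absurd ?_ he1
      have ho : Odd (orderOf (⟨e, hk⟩ : kernel L (fixSet (Ω := Ω) E))) :=
        hSE.odd_kernel.of_dvd_nat (orderOf_dvd_natCard _)
      rw [Subgroup.orderOf_mk] at ho
      have hd2 : orderOf e ∣ 2 := orderOf_dvd_of_pow_eq_one (by rw [pow_two]; exact hE2 e he)
      rcases (Nat.dvd_prime Nat.prime_two).mp hd2 with h | h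
      · exact orderOf_eq_one_iff.mp h
      · rw [h] at ho; exact absurd ho (by decide)
    · have hl2 : orderOf (e * j) = 2 := by
        refine orderOf_eq_two_of_mul_self ?_ fun h => hjin ?_
        · rw [mul_assoc, ← mul_assoc j, (hjE e he).eq, mul_assoc, hjj, mul_one]
          exact hE2 e he
        · rw [mul_eq_one_iff_inv_eq] at h
          exact h ▸ inv_mem he
      obtain ⟨x, hx, hlx⟩ := hSE.exists_fix hejL hl2
      obtain ⟨d, hd, hdx⟩ : ∃ d ∈ memCent D E, d • x = x := hmem x hx
      obtain ⟨g, hg, hgd⟩ := hSE.exists_conj (subset_closure hd) hejL (hD2 d hd.1) hl2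
      have hl : e * j ∈ memCent D E := hgd ▸ ⟨hDc g d hd.1, fun f hf =>
        ((commute_of_mem_closure_memCent hg hf).mul_left (hd.2 f hf)).mul_left
          (commute_of_mem_closure_memCent hg hf).inv_left⟩
      exact Or.inr ⟨e, he, e * j, hl, by rw [← mul_assoc, hE2 e he, one_mul]⟩
  · push Not at hME
    have hMF : ∀ {g : G}, g ∈ M → ∀ {x : Ω}, x ∈ fixSet E → g • x ∈ fixSet E :=
      fun hg _ hx => smul_mem_fixSet (hMc _ hg) hx
    have hM : SE M (fixSet (Ω := Ω) E) :=
      { smul_mem := hMF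
        trans := fun hx hy => let ⟨g, hg, h⟩ := hSE.trans hx hy; ⟨g, hLM hg, h⟩
        exists_fix := fun {i} hi hi2 => by
          haveI := Fintype.ofFinite (fixSet (Ω := Ω) E)
          let f : Function.End (fixSet (Ω := Ω) E) := fun x => ⟨i • x.1, hMF hi x.2⟩
          have hf : f ^ 2 ^ 1 = 1 := by
            rw [pow_one, pow_two]
            funext x
            exact Subtype.ext (by
              show i • i • x.1 = x.1
              rw [← mul_smul, mul_self_of_orderOf_eq_two hi2, one_smul])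
          have h := Equiv.Perm.card_fixedPoints_modEq (p := 2) hf
          by_contra hno
          push Not at hno
          have h0 : Fintype.card (Function.fixedPoints f) = 0 :=
            Fintype.card_eq_zero_iff.mpr ⟨fun ⟨⟨y, hy⟩, hfix⟩ => hno y hy (congrArg Subtype.val hfix)⟩
          rw [h0, ← Nat.card_eq_fintype_card] at h
          exact (Nat.not_even_iff_odd.mpr hodd) (even_iff_two_dvd.mpr (Nat.modEq_zero_iff_dvd.mp h))
        fix_unique := fun {i} hi hi2 {x y} hx hy hix hiy => by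
          refine hmax i hi2 (hMc i hi) (fun hiE => ?_) x hx y hy hix hiy
          have := hME i hiE hi
          rw [this, orderOf_one] at hi2
          exact absurd hi2 (by norm_num)
        exists_ne := hSE.exists_ne
        exists_inv := let ⟨t, ht, ht2⟩ := hSE.exists_inv; ⟨t, hLM ht, ht2⟩ }
    obtain ⟨x, hx, y, hy, hxy⟩ := hSE.exists_ne
    obtain ⟨d, hd, hdx⟩ := hmem x hx
    obtain ⟨g, hg, hgd⟩ := hM.exists_conj (hLM (subset_closure hd)) hjM (hD2 d hd.1) hj2
    exact Or.inl (hgd ▸ ⟨hDc g d hd.1, fun f hf =>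
      ((hMc g hg f hf).mul_left (hd.2 f hf)).mul_left (hMc g hg f hf).inv_left⟩)

end Cfsg.Agent.H1.Asch
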