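import Cfsg.Agent.H1.Asch.PreImage

/-!
# Involutions with a single fixed point

`Setting`: a normal set `I` of involutions, each fixing one point, one of them with a class of odd
size, such that the product of two commuting ones at a point fixes no other point.  It passes to
the centraliser of an involution acting on its fixed points and to the quotient by a central
involution fixing all points.
-/

set_option autoImplicit false
set_option linter.style.haveILetI false

namespace Cfsg.Agent.H1.Asch.Red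

open Subgroup MulAction
open Cfsg.Agent.H39
open Cfsg.Agent.H73.Bender (SE)
open Cfsg.Agent.H14.Asch

universe u v

/-- Involutions with a single fixed point, containing the odd class of `z`. -/
structure Setting (G : Type u) [Group G] (Ω : Type v) [MulAction G Ω] (I : Set G) (z : G) :
    Prop where
  conj_mem : ∀ {a : G}, a ∈ I → ∀ g : G, g * a * g⁻¹ ∈ I
  inv : ∀ {a : G}, a ∈ I → orderOf a = 2
  unique : ∀ {a : G}, a ∈ I → ∃! p : Ω, a • p = p
  base : z ∈ I
  odd_class : Odd (Nat.card (conjugatesOf z))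
  prod : ∀ {a b : G} {p q : Ω}, a ∈ I → b ∈ I → a ≠ b → Commute a b → a • p = p →
    (a * b) • q = q → q = p
  trans : IsPretransitive G Ω
  exists_ne : ∃ p q : Ω, p ≠ q

namespace Setting

variable {G : Type u} [Group G] {Ω : Type v} [MulAction G Ω] {I : Set G} {z : G}
variable (h : Setting G Ω I z)
include h

theorem subset {d : G} (hd : d ∈ conjugatesOf z) : d ∈ I := by
  obtain ⟨g, rfl⟩ := isConj_iff.mp hd
  exact h.conj_mem h.base g

theorem conj_conj {d : G} (hd : d ∈ conjugatesOf z) (g : G) :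
    g * d * g⁻¹ ∈ conjugatesOf z :=
  (show IsConj z d from hd).trans (isConj_iff.mpr ⟨g, rfl⟩)

theorem fix_of_commute {a g : G} (ha : a ∈ I) (hc : Commute g a) {p : Ω} (hp : a • p = p) :
    g • p = p :=
  (h.unique ha).unique (by rw [← mul_smul, ← hc.eq, mul_smul, hp]) hp

theorem exists_at (p : Ω) : ∃ d ∈ conjugatesOf z, d • p = p := by
  obtain ⟨q, hq, -⟩ := h.unique h.base
  haveI := h.trans
  obtain ⟨g, rfl⟩ := exists_smul_eq G q p
  exact ⟨g * z * g⁻¹, h.conj_conj (show IsConj z z from IsConj.refl z) g,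
    H73.Bender.conj_smul_of_smul hq⟩

variable [Finite G]

/-- The members at a point are odd in number. -/
theorem odd_card_at [Finite Ω] (p : Ω) :
    Odd (Nat.card {d : G // d ∈ conjugatesOf z ∧ d • p = p}) := by
  classical
  haveI := h.trans
  haveI := Fintype.ofFinite Ω
  choose pt hpt using fun d : conjugatesOf z => (h.unique (h.subset d.2)).exists
  let e : conjugatesOf z ≃ Σ q : Ω, {d : G // d ∈ conjugatesOf z ∧ d • q = q} :=
    { toFun := fun d => ⟨pt d, d.1, d.2, hpt d⟩
      invFun := fun r => ⟨r.2.1, r.2.2.1⟩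
      left_inv := fun d => rfl
      right_inv := fun ⟨q, d, hd, hdq⟩ => by
        obtain rfl : pt ⟨d, hd⟩ = q := (h.unique (h.subset hd)).unique (hpt ⟨d, hd⟩) hdq
        rfl }
  have hconst : ∀ q : Ω, Nat.card {d : G // d ∈ conjugatesOf z ∧ d • q = q} =
      Nat.card {d : G // d ∈ conjugatesOf z ∧ d • p = p} := by
    intro q
    obtain ⟨g, rfl⟩ := exists_smul_eq G p q
    refine (Nat.card_congr ((MulAut.conj g).toEquiv.subtypeEquiv fun d => ?_)).symm
    simp only [MulEquiv.toEquiv_eq_coe, MulEquiv.coe_toEquiv, MulAut.conj_apply, mul_smul,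
      inv_smul_smul]
    exact and_congr ⟨fun hd => h.conj_conj hd g, fun hd => by
      simpa [mul_assoc] using h.conj_conj hd g⁻¹⟩
      ⟨fun e => by rw [e], fun e => MulAction.injective g e⟩
  have ho := h.odd_class
  rw [Nat.card_congr e, Nat.card_sigma, Finset.sum_congr rfl fun q _ => hconst q,
    Finset.sum_const, smul_eq_mul] at ho
  exact (Nat.odd_mul.mp ho).2

theorem exists_commute_at [Finite Ω] {t : G} (ht : t * t = 1) {p : Ω} (hp : t • p = p) :
    ∃ d ∈ conjugatesOf z, d • p = p ∧ Commute t d := by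
  let f : {d : G // d ∈ conjugatesOf z ∧ d • p = p} → {d : G // d ∈ conjugatesOf z ∧ d • p = p} :=
    fun d => ⟨t * d.1 * t⁻¹, h.conj_conj d.2.1 t, by
      rw [mul_smul, mul_smul, inv_smul_eq_iff.mpr hp.symm, d.2.2, hp]⟩
  obtain ⟨d, hd⟩ := exists_fixed_of_odd (f := f) (fun d => Subtype.ext (by
    show t * (t * d.1 * t⁻¹) * t⁻¹ = d.1
    rw [inv_eq_of_mul_eq_one_right ht, ← mul_assoc, ← mul_assoc, ht, one_mul, mul_assoc, ht,
      mul_one])) (h.odd_card_at p)
  exact ⟨d.1, d.2.1, d.2.2,
    mul_inv_eq_iff_eq_mul.mp (congrArg Subtype.val hd : t * d.1 * t⁻¹ = d.1)⟩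

/-- Members at different points have odd product. -/
theorem odd_orderOf_mul {d e : G} (hd : d ∈ conjugatesOf z) (he : e ∈ conjugatesOf z) {p q : Ω}
    (hp : d • p = p) (hq : e • q = q) (hpq : p ≠ q) : Odd (orderOf (e * d)) := by
  rw [← Nat.not_even_iff_odd]
  intro heven
  have hd2 := h.inv (h.subset hd)
  obtain ⟨w, hw2, hwz, hwd, hwe⟩ := exists_central_involution hd2 (h.inv (h.subset he)) heven
  have hwp := h.fix_of_commute (h.subset hd) hwd hp
  have hwq := h.fix_of_commute (h.subset he) hwe hq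
  -- `w * d` is a reflection
  obtain ⟨i, hi⟩ := hwz
  have hrefl : (e * d) ^ i * d ∈ conjugatesOf z := by
    have hc := conj_mul_involutions hd2 (h.inv (h.subset he))
    rcases Int.even_or_odd i with ⟨j, rfl⟩ | ⟨j, rfl⟩
    · have h1 := zpow_conj_mul hc j 0
      rw [zpow_zero, one_mul, zero_add, two_mul] at h1
      exact h1 ▸ h.conj_conj hd _
    · have h1 := zpow_conj_mul hc j 1
      rw [zpow_one, mul_assoc e d d, mul_self_of_orderOf_eq_two hd2, mul_one, add_comm] at h1
      exact h1 ▸ h.conj_conj he _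
  have hw : (e * d) ^ i = w := hi
  rw [hw] at hrefl
  have hwd' : Commute (w * d) d := hwd.mul_left (Commute.refl d)
  have hne : w * d ≠ d := fun h1 => by
    rw [mul_eq_right] at h1
    rw [h1, orderOf_one] at hw2
    exact absurd hw2 (by norm_num)
  have hwdd : w * d * d = w := by rw [mul_assoc, mul_self_of_orderOf_eq_two hd2, mul_one]
  have hwdp : (w * d) • p = p := by rw [mul_smul, hp, hwp]
  exact hpq (h.prod (h.subset hrefl) (h.subset hd) hne hwd' hwdp (by rwa [hwdd])).symm

theorem exists_conj_at {d e : G} (hd : d ∈ conjugatesOf z) (he : e ∈ conjugatesOf z) {p q : Ω}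
    (hp : d • p = p) (hq : e • q = q) (hpq : p ≠ q) {S : Subgroup G} (hdS : d ∈ S) (heS : e ∈ S) :
    ∃ k ∈ S, k * d * k⁻¹ = e ∧ k • p = q := by
  obtain ⟨k, hk, -, -, hkc⟩ := exists_conj_of_odd (h.inv (h.subset hd)) (h.inv (h.subset he))
    (h.odd_orderOf_mul hd he hp hq hpq)
  exact ⟨k, zpowers_le.mpr (mul_mem heS hdS) hk, hkc,
    (h.unique (h.subset he)).unique (by rw [← hkc]; exact H73.Bender.conj_smul_of_smul hp) hq⟩

/-- The setting passes to a subgroup of the centraliser of `w` containing the members there,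
acting on the fixed points of `w`. -/
theorem restrict [Finite Ω] {w : G} (hw : w * w = 1) (S : Subgroup G)
    (hS : ∀ s ∈ S, Commute s w) (hD : ∀ d ∈ conjugatesOf z, Commute d w → d ∈ S)
    [MulAction S (fixedBy Ω w)] (hact : ∀ (s : S) (x : fixedBy Ω w), (↑(s • x) : Ω) = (s : G) • x.1)
    {x y : Ω} (hxy : x ≠ y) (hx : w • x = x) (hy : w • y = y) :
    ∃ z' : S, (z' : G) ∈ conjugatesOf z ∧
      (∀ d : S, (d : G) ∈ conjugatesOf z → d ∈ conjugatesOf z') ∧
      Setting S (fixedBy Ω w) (Subtype.val ⁻¹' I) z' := by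
  classical
  obtain ⟨d₀, hd₀, hd₀x, hd₀c⟩ := h.exists_commute_at hw hx
  have hd₀S := hD d₀ hd₀ hd₀c.symm
  have hpt : ∀ {a : G}, a ∈ I → a ∈ S → ∀ {p : Ω}, a • p = p → p ∈ fixedBy Ω w :=
    fun {a} ha haS {p} hp => h.fix_of_commute ha (hS a haS).symm hp
  have hclass : ∀ {d e : G}, d ∈ conjugatesOf z → d ∈ S → e ∈ conjugatesOf z → e ∈ S →
      ∃ k ∈ S, k * d * k⁻¹ = e := by
    intro d e hd hdS he heS
    obtain ⟨p, hp, -⟩ := h.unique (h.subset hd)
    obtain ⟨q, hq, -⟩ := h.unique (h.subset he)
    by_cases hpq : p = q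
    · obtain ⟨r, hr, hrp⟩ : ∃ r : Ω, w • r = r ∧ r ≠ p := by
        by_cases hxp : x = p
        exacts [⟨y, hy, fun e => hxy (hxp.trans e.symm)⟩, ⟨x, hx, hxp⟩]
      obtain ⟨f, hf, hfr, hfc⟩ := h.exists_commute_at hw hr
      have hfS := hD f hf hfc.symm
      obtain ⟨k, hk, hkc, -⟩ := h.exists_conj_at hd hf hp hfr hrp.symm hdS hfS
      obtain ⟨l, hl, hlc, -⟩ := h.exists_conj_at hf he hfr hq (hpq ▸ hrp) hfS heS
      exact ⟨l * k, mul_mem hl hk, by rw [← hlc, ← hkc]; group⟩
    · obtain ⟨k, hk, hkc, -⟩ := h.exists_conj_at hd he hp hq hpq hdS heS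
      exact ⟨k, hk, hkc⟩
  refine ⟨⟨d₀, hd₀S⟩, hd₀, fun d hd => ?_, ?_⟩
  · obtain ⟨k, hk, hkc⟩ := hclass hd₀ hd₀S hd d.2
    exact isConj_iff.mpr ⟨⟨k, hk⟩, Subtype.ext hkc⟩
  exact
    { conj_mem := fun {a} ha g => h.conj_mem ha (g : G)
      inv := fun {a} ha => (Subgroup.orderOf_coe a).symm.trans (h.inv ha)
      unique := fun {a} ha => by
        obtain ⟨p, hp, hu⟩ := h.unique (a := (a : G)) ha
        exact ⟨⟨p, hpt ha a.2 hp⟩, Subtype.ext ((hact a _).trans hp), fun q hq =>
          Subtype.ext (hu q.1 ((hact a q).symm.trans (congrArg Subtype.val hq)))⟩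
      base := h.subset hd₀
      odd_class := by
        have h1 : Odd (Nat.card {d : G // d ∈ conjugatesOf z ∧ Commute d w}) := by
          let f : conjugatesOf z → conjugatesOf z := fun d => ⟨w * d.1 * w⁻¹, h.conj_conj d.2 w⟩
          haveI := Fintype.ofFinite (conjugatesOf z)
          let g : Function.End (conjugatesOf z) := f
          have hg : g ^ 2 ^ 1 = 1 := by
            rw [pow_one, pow_two]
            funext d
            exact Subtype.ext (by
              show w * (w * d.1 * w⁻¹) * w⁻¹ = d.1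
              rw [inv_eq_of_mul_eq_one_right hw, ← mul_assoc, ← mul_assoc, hw, one_mul, mul_assoc,
                hw, mul_one])
          have h' := Equiv.Perm.card_fixedPoints_modEq (p := 2) hg
          have ho := h.odd_class
          rw [Nat.card_eq_fintype_card, Nat.odd_iff] at ho
          unfold Nat.ModEq at h'
          rw [ho, ← Nat.card_eq_fintype_card] at h'
          let e : Function.fixedPoints g ≃ {d : G // d ∈ conjugatesOf z ∧ Commute d w} :=
            { toFun := fun d => ⟨d.1.1, d.1.2,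
                (mul_inv_eq_iff_eq_mul.mp (congrArg Subtype.val d.2)).symm⟩
              invFun := fun d => ⟨⟨d.1, d.2.1⟩, Subtype.ext (by
                show w * d.1 * w⁻¹ = d.1
                rw [← d.2.2.eq, mul_inv_cancel_right])⟩
              left_inv := fun d => rfl
              right_inv := fun d => rfl }
          rw [Nat.card_congr e] at h'
          exact Nat.odd_iff.mpr h'.symm
        have e : conjugatesOf (⟨d₀, hd₀S⟩ : S) ≃ {d : G // d ∈ conjugatesOf z ∧ Commute d w} :=
          { toFun := fun d => ⟨(d.1 : G), by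
              obtain ⟨k, hk⟩ := isConj_iff.mp d.2
              rw [← hk]
              exact h.conj_conj hd₀ (k : G), hS _ d.1.2⟩
            invFun := fun d => ⟨⟨d.1, hD d.1 d.2.1 d.2.2⟩, by
              obtain ⟨k, hk, hkc⟩ := hclass hd₀ hd₀S d.2.1 (hD d.1 d.2.1 d.2.2)
              exact isConj_iff.mpr ⟨⟨k, hk⟩, Subtype.ext hkc⟩⟩
            left_inv := fun d => rfl
            right_inv := fun d => rfl }
        rwa [Nat.card_congr e]
      prod := fun {a b p q} ha hb hne hc hp hq => Subtype.ext <| h.prod ha hb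
        (fun e => hne (Subtype.ext e)) (congrArg Subtype.val hc)
        ((hact a p).symm.trans (congrArg Subtype.val hp))
        ((hact (a * b) q).symm.trans (congrArg Subtype.val hq))
      trans := ⟨fun p q => by
        by_cases hpq : p.1 = q.1
        · exact ⟨1, by rw [one_smul]; exact Subtype.ext hpq⟩
        obtain ⟨d, hd, hdp, hdc⟩ := h.exists_commute_at hw p.2
        obtain ⟨e, he, heq, hec⟩ := h.exists_commute_at hw q.2
        obtain ⟨k, hk, -, hkp⟩ := h.exists_conj_at hd he hdp heq hpq (hD d hd hdc.symm) (hD e he hec.symm)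
        exact ⟨⟨k, hk⟩, Subtype.ext ((hact _ p).trans hkp)⟩⟩
      exists_ne := ⟨⟨x, hx⟩, ⟨y, hy⟩, fun e => hxy (congrArg Subtype.val e)⟩ }

/-- The setting passes to the quotient by a central involution fixing all points. -/
theorem quotient {w : G} [(zpowers w).Normal] (hwc : ∀ g : G, Commute g w) (hw : orderOf w = 2)
    (hall : ∀ p : Ω, w • p = p) [MulAction (G ⧸ zpowers w) Ω]
    (hact : ∀ (g : G) (p : Ω), (QuotientGroup.mk g : G ⧸ zpowers w) • p = g • p) :
    Setting (G ⧸ zpowers w) Ω (QuotientGroup.mk '' I) (QuotientGroup.mk z) := by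
  set π := QuotientGroup.mk' (zpowers w) with hπ
  have hw1 : w ≠ 1 := fun e => by rw [e, orderOf_one] at hw; exact absurd hw (by norm_num)
  have hmem : ∀ {g : G}, g ∈ zpowers w → g = 1 ∨ g = w := by
    rintro g ⟨i, rfl⟩
    rcases Int.even_or_odd i with ⟨j, rfl⟩ | ⟨j, rfl⟩
    · left
      show w ^ (j + j) = 1
      rw [← two_mul, zpow_mul, show (2 : ℤ) = ((2 : ℕ) : ℤ) from rfl, zpow_natCast, pow_two,
        mul_self_of_orderOf_eq_two hw, one_zpow]
    · right
      show w ^ (2 * j + 1) = w
      rw [zpow_add, zpow_mul, show (2 : ℤ) = ((2 : ℕ) : ℤ) from rfl, zpow_natCast, pow_two,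
        mul_self_of_orderOf_eq_two hw, one_zpow, one_mul, zpow_one]
  obtain ⟨x₀, y₀, hne₀⟩ := h.exists_ne
  have hnotw : ∀ {a : G}, a ∈ I → a ≠ w := fun {a} ha e =>
    hne₀ ((h.unique ha).unique (by rw [e, hall]) (by rw [e, hall]))
  -- two elements of `I` with the same image are equal
  have hinj : ∀ {a b : G}, a ∈ I → b ∈ I → π a = π b → a = b := by
    intro a b ha hb he
    rcases hmem (QuotientGroup.eq.mp he) with h1 | h1
    · exact inv_mul_eq_one.mp h1
    · exfalso
      have hba : b = a * w := by rw [← h1, mul_inv_cancel_left]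
      have hc : Commute a b := hba ▸ (Commute.refl a).mul_right (hwc a)
      obtain ⟨p, hp, -⟩ := h.unique ha
      obtain ⟨q, hqp⟩ : ∃ q : Ω, q ≠ p := by
        by_cases e : x₀ = p
        exacts [⟨y₀, fun e' => hne₀ (e.trans e'.symm)⟩, ⟨x₀, e⟩]
      refine hqp (h.prod ha hb (fun e => hw1 ?_) hc hp ?_)
      · rw [← h1, ← e, inv_mul_cancel]
      · rw [hba, ← mul_assoc, mul_self_of_orderOf_eq_two (h.inv ha), one_mul, hall]
  exact
    { conj_mem := fun {a} ha g => by
        obtain ⟨a, ha, rfl⟩ := ha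
        obtain ⟨g, rfl⟩ := QuotientGroup.mk_surjective g
        exact ⟨g * a * g⁻¹, h.conj_mem ha g, rfl⟩
      inv := fun {a} ha => by
        obtain ⟨a, ha, rfl⟩ := ha
        refine orderOf_eq_two_of_mul_self ?_ fun h1 => ?_
        · rw [← QuotientGroup.mk_mul, mul_self_of_orderOf_eq_two (h.inv ha), QuotientGroup.mk_one]
        · rcases hmem ((QuotientGroup.eq_one_iff a).mp h1) with e | e
          · have := h.inv ha
            rw [e, orderOf_one] at this
            exact absurd this (by norm_num)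
          · exact hnotw ha e
      unique := fun {a} ha => by
        obtain ⟨a, ha, rfl⟩ := ha
        obtain ⟨p, hp, hu⟩ := h.unique ha
        exact ⟨p, (hact a p).trans hp, fun q hq => hu q ((hact a q).symm.trans hq)⟩
      base := ⟨z, h.base, rfl⟩
      odd_class := by
        let e : conjugatesOf z → conjugatesOf (π z) := fun d =>
          ⟨π d.1, π.map_isConj d.2⟩
        have hbij : Function.Bijective e := ⟨fun a b hab => Subtype.ext (hinj (h.subset a.2)
            (h.subset b.2) (congrArg Subtype.val hab)), fun d => by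
          obtain ⟨g, hg⟩ := isConj_iff.mp d.2
          obtain ⟨g, rfl⟩ := QuotientGroup.mk_surjective g
          exact ⟨⟨g * z * g⁻¹, isConj_iff.mpr ⟨g, rfl⟩⟩, Subtype.ext hg⟩⟩
        have ho := h.odd_class
        rwa [Nat.card_eq_of_bijective e hbij] at ho
      prod := fun {a b p q} ha hb hne hc hp hq => by
        obtain ⟨a, ha, rfl⟩ := ha
        obtain ⟨b, hb, rfl⟩ := hb
        rw [hact] at hp
        rw [← QuotientGroup.mk_mul, hact] at hq
        have hc' : Commute a b := by
          by_contra hnc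
          have hbab : π (b * a * b⁻¹) = π a := by
            rw [map_mul, map_mul, map_inv]
            exact mul_inv_eq_iff_eq_mul.mpr hc.symm.eq
          exact hnc (mul_inv_eq_iff_eq_mul.mp (hinj (h.conj_mem ha b) ha hbab)).symm
        exact h.prod ha hb (fun e => hne (by rw [e])) hc' hp hq
      trans := ⟨fun p q => by
        haveI := h.trans
        obtain ⟨g, hg⟩ := exists_smul_eq G p q
        exact ⟨QuotientGroup.mk g, (hact g p).trans hg⟩⟩
      exists_ne := h.exists_ne }

end Setting

end Cfsg.Agent.H1.Asch.Red
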