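import Cfsg.Agent.H73.Asch.Line
import Cfsg.Agent.Cores.PCore

/-!
# The criterion without faithfulness

`Pre` is `Crit` without faithfulness.  It passes to the group generated by the members; there the
kernel of the action has odd order and the image of the group satisfies `Crit`.  So the criterion
for faithful actions gives it for arbitrary ones.
-/

set_option autoImplicit false
set_option linter.style.haveILetI false

namespace Cfsg.Agent.H1.Asch.Red

open Subgroup MulAction
open Cfsg.Agent.H39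
open Cfsg.Agent.H73.Bender (SE)
open Cfsg.Agent.H14.Asch

universe u v

/-- `Crit` without faithfulness. -/
structure Pre (G : Type u) [Group G] (Ω : Type v) [MulAction G Ω] (D : Set G) : Prop where
  conj_mem : ∀ {d : G}, d ∈ D → ∀ g : G, g * d * g⁻¹ ∈ D
  isConj : ∀ {d e : G}, d ∈ D → e ∈ D → ∃ g : G, g * d * g⁻¹ = e
  nonempty : D.Nonempty
  inv : ∀ {d : G}, d ∈ D → orderOf d = 2
  unique : ∀ {d : G}, d ∈ D → ∃! p : Ω, d • p = p
  comm : ∀ {t : G} {p : Ω}, orderOf t = 2 → t • p = p → ∃ d ∈ D, d • p = p ∧ Commute t d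
  trans : IsPretransitive G Ω
  exists_ne : ∃ p q : Ω, p ≠ q
  line : ∀ {u : G} {x y : Ω}, orderOf u = 2 → x ≠ y → u • x = x → u • y = y →
    SE (lineGroup D u) (fixedBy Ω u)

/-- The criterion for faithful actions, as a hypothesis. -/
def Core : Prop :=
  ∀ (G : Type v) [Group G] [Finite G] (Ω : Type v) [MulAction G Ω] [Finite Ω] (D : Set G),
    Crit G Ω D → H73.Asch.NoBad Ω D

section Parity

variable {α : Type*} [Finite α]

theorem odd_card_of_unique_fixed {f : α → α} (hf : Function.Involutive f) {a : α} (ha : f a = a)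
    (hu : ∀ b, f b = b → b = a) : Odd (Nat.card α) := by
  classical
  haveI := Fintype.ofFinite α
  let g : Function.End α := f
  have hg : g ^ 2 ^ 1 = 1 := by rw [pow_one, pow_two]; funext x; exact hf x
  have h' := Equiv.Perm.card_fixedPoints_modEq (p := 2) hg
  have h1 : Fintype.card (Function.fixedPoints g) = 1 :=
    Fintype.card_eq_one_iff.mpr ⟨⟨a, ha⟩, fun ⟨y, hy⟩ => Subtype.ext (hu y hy)⟩
  unfold Nat.ModEq at h'
  rw [h1] at h'
  rw [Nat.card_eq_fintype_card]
  exact Nat.odd_iff.mpr (by omega)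

theorem exists_fixed_of_odd {f : α → α} (hf : Function.Involutive f) (hodd : Odd (Nat.card α)) :
    ∃ a, f a = a := by
  classical
  haveI := Fintype.ofFinite α
  let g : Function.End α := f
  have hg : g ^ 2 ^ 1 = 1 := by rw [pow_one, pow_two]; funext x; exact hf x
  have h' := Equiv.Perm.card_fixedPoints_modEq (p := 2) hg
  by_contra hno
  have h0 : Fintype.card (Function.fixedPoints g) = 0 :=
    Fintype.card_eq_zero_iff.mpr ⟨fun x => hno ⟨x.1, x.2⟩⟩
  rw [h0, ← Nat.card_eq_fintype_card] at h'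
  exact (Nat.not_even_iff_odd.mpr hodd) (even_iff_two_dvd.mpr (Nat.modEq_zero_iff_dvd.mp h'))

end Parity

variable {G : Type u} [Group G] {Ω : Type v} [MulAction G Ω] {D : Set G}

/-- A group element with even order modulo an odd normal subgroup has an involution among its
powers; one of order two modulo it has an involution in its class. -/
theorem exists_involution_pow [Finite G] {M : Subgroup G} (hM : Odd (Nat.card M)) {l : G}
    (hl2 : l * l ∈ M) (hl : l ∉ M) : ∃ r : ℕ, orderOf (l ^ r) = 2 ∧ l⁻¹ * l ^ r ∈ M := by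
  obtain ⟨j, hj⟩ := hM.of_dvd_nat (M.orderOf_dvd_natCard hl2)
  refine ⟨2 * j + 1, ?_, ?_⟩
  · refine orderOf_eq_two_of_mul_self ?_ fun h1 => hl ?_
    · rw [← mul_pow_eq_one_aux l, ← hj, pow_orderOf_eq_one]
    · rw [pow_succ, pow_mul, pow_two] at h1
      rw [eq_inv_of_mul_eq_one_right h1]
      exact inv_mem (pow_mem hl2 j)
  · rw [pow_succ', inv_mul_cancel_left, pow_mul, pow_two]
    exact pow_mem hl2 j
where
  mul_pow_eq_one_aux (l : G) {r : ℕ} : (l * l) ^ r = l ^ r * l ^ r :=
    (Commute.refl l).mul_pow r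

namespace Pre

variable (h : Pre G Ω D)
include h

theorem fix_of_commute {d g : G} (hd : d ∈ D) (hc : Commute g d) {p : Ω} (hp : d • p = p) :
    g • p = p :=
  (h.unique hd).unique (by rw [← mul_smul, ← hc.eq, mul_smul, hp]) hp

theorem exists_at (x : Ω) : ∃ d ∈ D, d • x = x := by
  obtain ⟨d, hd⟩ := h.nonempty
  obtain ⟨p, hp, -⟩ := h.unique hd
  haveI := h.trans
  obtain ⟨g, rfl⟩ := exists_smul_eq G p x
  exact ⟨g * d * g⁻¹, h.conj_mem hd g, H73.Bender.conj_smul_of_smul hp⟩

theorem exists_other (x : Ω) : ∃ y : Ω, y ≠ x := by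
  obtain ⟨p, q, hpq⟩ := h.exists_ne
  by_cases hp : p = x
  exacts [⟨q, fun hq => hpq (hp.trans hq.symm)⟩, ⟨p, hp⟩]

/-- An involution among the powers of the product of two members commuting with it is good. -/
theorem eq_of_mem_zpowers {d e w : G} (hd : d ∈ D) (he : e ∈ D) (hw : orderOf w = 2)
    (hwz : w ∈ zpowers (e * d)) (hwd : Commute w d) (hwe : Commute w e) {x y : Ω}
    (hx : w • x = x) (hy : w • y = y) : x = y := by
  by_contra hne
  exact hne ((h.line hw hne hx hy).fix_unique (zpowers_le.mpr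
    (mul_mem (mem_lineGroup he hwe.symm) (mem_lineGroup hd hwd.symm)) hwz) hw hx hy hx hy)

theorem odd_orderOf_mul [Finite G] {d e : G} (hd : d ∈ D) (he : e ∈ D) {p q : Ω}
    (hp : d • p = p) (hq : e • q = q) (hpq : p ≠ q) : Odd (orderOf (e * d)) := by
  rw [← Nat.not_even_iff_odd]
  intro heven
  obtain ⟨w, hw2, hwz, hwd, hwe⟩ := exists_central_involution (h.inv hd) (h.inv he) heven
  exact hpq (h.eq_of_mem_zpowers hd he hw2 hwz hwd hwe (h.fix_of_commute hd hwd hp)
    (h.fix_of_commute he hwe hq))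

theorem exists_conj_closure [Finite G] {d e : G} (hd : d ∈ D) (he : e ∈ D) {p q : Ω}
    (hp : d • p = p) (hq : e • q = q) (hpq : p ≠ q) :
    ∃ k ∈ closure D, k * d * k⁻¹ = e ∧ k • p = q := by
  obtain ⟨k, hk, -, -, hkc⟩ :=
    exists_conj_of_odd (h.inv hd) (h.inv he) (h.odd_orderOf_mul hd he hp hq hpq)
  exact ⟨k, zpowers_le.mpr (mul_mem (subset_closure he) (subset_closure hd)) hk, hkc,
    (h.unique he).unique (by rw [← hkc]; exact H73.Bender.conj_smul_of_smul hp) hq⟩

/-- The hypothesis passes to the group generated by the members. -/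
theorem toClosure [Finite G] :
    Pre (closure D) Ω (Subtype.val ⁻¹' D : Set (closure D)) where
  conj_mem {d} hd g := h.conj_mem hd (g : G)
  isConj {d e} hd he := by
    obtain ⟨p, hp, -⟩ := h.unique (d := (d : G)) hd
    obtain ⟨q, hq, -⟩ := h.unique (d := (e : G)) he
    obtain ⟨x, hx⟩ := h.exists_other p
    by_cases hpq : p = q
    · subst hpq
      obtain ⟨f, hf, hfx⟩ := h.exists_at x
      obtain ⟨k, hk, hkc, -⟩ := h.exists_conj_closure hd hf hp hfx (Ne.symm hx)
      obtain ⟨l, hl, hlc, -⟩ := h.exists_conj_closure hf he hfx hq hx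
      refine ⟨⟨l * k, mul_mem hl hk⟩, Subtype.ext ?_⟩
      show l * k * d * (l * k)⁻¹ = (e : G)
      rw [← hlc, ← hkc]; group
    · obtain ⟨k, hk, hkc, -⟩ := h.exists_conj_closure hd he hp hq hpq
      exact ⟨⟨k, hk⟩, Subtype.ext hkc⟩
  nonempty := let ⟨d, hd⟩ := h.nonempty; ⟨⟨d, subset_closure hd⟩, hd⟩
  inv {d} hd := (Subgroup.orderOf_coe d).symm.trans (h.inv hd)
  unique {d} hd := h.unique (d := (d : G)) hd
  comm {t p} ht hp := by
    obtain ⟨d, hd, hdp, hc⟩ := h.comm ((Subgroup.orderOf_coe t).trans ht) hp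
    exact ⟨⟨d, subset_closure hd⟩, hd, hdp, Subtype.ext hc⟩
  trans := ⟨fun p q => by
    by_cases hpq : p = q
    · exact ⟨1, by rw [one_smul, hpq]⟩
    obtain ⟨d, hd, hp⟩ := h.exists_at p
    obtain ⟨e, he, hq⟩ := h.exists_at q
    obtain ⟨k, hk, -, hkp⟩ := h.exists_conj_closure hd he hp hq hpq
    exact ⟨⟨k, hk⟩, hkp⟩⟩
  exists_ne := h.exists_ne
  line {u x y} hu hxy hx hy := by
    have hS := h.line ((Subgroup.orderOf_coe u).trans hu) hxy hx hy
    have hmem : ∀ l : closure D,
        l ∈ lineGroup (Subtype.val ⁻¹' D : Set (closure D)) u ↔ (l : G) ∈ lineGroup D (u : G) := by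
      intro l
      rw [lineGroup, lineGroup, ← Subgroup.mem_map_iff_mem (Subgroup.subtype_injective (closure D)),
        MonoidHom.map_closure]
      suffices hset : (closure D).subtype '' ((Subtype.val ⁻¹' D : Set (closure D)) ∩
          (centralizer ({u} : Set (closure D)) : Set (closure D))) =
            D ∩ (centralizer ({(u : G)} : Set G) : Set G) by rw [hset]; rfl
      ext g
      constructor
      · rintro ⟨k, ⟨hkD, hkc⟩, rfl⟩
        exact ⟨hkD, mem_centralizer_singleton_iff.mpr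
          (congrArg Subtype.val (mem_centralizer_singleton_iff.mp hkc))⟩
      · rintro ⟨hgD, hgc⟩
        exact ⟨⟨g, subset_closure hgD⟩, ⟨hgD, mem_centralizer_singleton_iff.mpr
          (Subtype.ext (mem_centralizer_singleton_iff.mp hgc))⟩, rfl⟩
    have hsub : ∀ g ∈ lineGroup D (u : G), g ∈ closure D := fun g hg =>
      closure_mono Set.inter_subset_left hg
    exact
      { smul_mem := fun {g} hg {p} hp => hS.smul_mem ((hmem g).mp hg) hp
        trans := fun hp hq => let ⟨g, hg, hgp⟩ := hS.trans hp hq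
          ⟨⟨g, hsub g hg⟩, (hmem _).mpr hg, hgp⟩
        exists_fix := fun {t} ht ht2 => hS.exists_fix ((hmem t).mp ht) ((Subgroup.orderOf_coe t).trans ht2)
        fix_unique := fun {t} ht ht2 {p q} hp hq h1 h2 =>
          hS.fix_unique ((hmem t).mp ht) ((Subgroup.orderOf_coe t).trans ht2) hp hq h1 h2
        exists_ne := hS.exists_ne
        exists_inv := let ⟨t, ht, ht2⟩ := hS.exists_inv
          ⟨⟨t, hsub t ht⟩, (hmem _).mpr ht, (Subgroup.orderOf_coe _).symm.trans ht2⟩ }

/-- A member commuting with `u` in the coset of `d` modulo an odd normal subgroup. -/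
theorem exists_commute_member [Finite G] {M : Subgroup G} [M.Normal] (hM : Odd (Nat.card M))
    {d u : G} (hd : d ∈ D) (hu : u * u = 1) (hdu : u * d * u⁻¹ * d⁻¹ ∈ M) :
    ∃ e ∈ D, Commute e u ∧ d * e ∈ M := by
  have hdd : d * d = 1 := mul_self_of_orderOf_eq_two (h.inv hd)
  have hui : u⁻¹ = u := inv_eq_of_mul_eq_one_right hu
  have hdi : d⁻¹ = d := inv_eq_of_mul_eq_one_right hdd
  let f : {e : G // e ∈ D ∧ d * e ∈ M} → {e : G // e ∈ D ∧ d * e ∈ M} := fun e =>
    ⟨d * e.1 * d⁻¹, h.conj_mem e.2.1 d, by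
      rw [show d * (d * e.1 * d⁻¹) = d * (d * e.1) * d⁻¹ by group]
      exact (inferInstance : M.Normal).conj_mem _ e.2.2 d⟩
  let g : {e : G // e ∈ D ∧ d * e ∈ M} → {e : G // e ∈ D ∧ d * e ∈ M} := fun e =>
    ⟨u * e.1 * u⁻¹, h.conj_mem e.2.1 u, by
      have h1 : d * u * d⁻¹ * u⁻¹ ∈ M := by
        have := inv_mem hdu
        rwa [show (u * d * u⁻¹ * d⁻¹)⁻¹ = d * u * d⁻¹ * u⁻¹ by group] at this
      rw [show d * (u * e.1 * u⁻¹) = (d * u * d⁻¹ * u⁻¹) * (u * (d * e.1) * u⁻¹) by group]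
      exact mul_mem h1 ((inferInstance : M.Normal).conj_mem _ e.2.2 u)⟩
  have hodd : Odd (Nat.card {e : G // e ∈ D ∧ d * e ∈ M}) := by
    refine odd_card_of_unique_fixed (f := f) (a := ⟨d, hd, hdd ▸ M.one_mem⟩)
      (fun e => Subtype.ext ?_) (Subtype.ext ?_) fun e he => Subtype.ext ?_
    · show d * (d * e.1 * d⁻¹) * d⁻¹ = e.1
      rw [hdi, ← mul_assoc, ← mul_assoc, hdd, one_mul, mul_assoc, hdd, mul_one]
    · show d * d * d⁻¹ = d
      group
    · have hc : Commute d e.1 := mul_inv_eq_iff_eq_mul.mp (congrArg Subtype.val he)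
      obtain ⟨j, hj⟩ := hM.of_dvd_nat (M.orderOf_dvd_natCard e.2.2)
      have h2 : (d * e.1) ^ 2 = 1 := by
        rw [hc.mul_pow, pow_two, pow_two, hdd, mul_self_of_orderOf_eq_two (h.inv e.2.1), mul_one]
      have h1 : (d * e.1) = 1 := by
        have h3 := pow_orderOf_eq_one (d * e.1)
        rwa [hj, pow_succ, pow_mul, h2, one_pow, one_mul] at h3
      exact (inv_eq_of_mul_eq_one_right h1).symm.trans hdi
  obtain ⟨e, he⟩ := exists_fixed_of_odd (f := g) (fun e => Subtype.ext (by
    show u * (u * e.1 * u⁻¹) * u⁻¹ = e.1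
    rw [hui, ← mul_assoc, ← mul_assoc, hu, one_mul, mul_assoc, hu, mul_one])) hodd
  exact ⟨e.1, e.2.1, (mul_inv_eq_iff_eq_mul.mp (congrArg Subtype.val he : u * e.1 * u⁻¹ = e.1)).symm,
    e.2.2⟩

/-- If the members generate, the kernel of the action has odd order. -/
theorem odd_card_kernel [Finite G] (htop : closure D = ⊤) :
    Odd (Nat.card (toPermHom G Ω).ker) := by
  classical
  set N := (toPermHom G Ω).ker with hNdef
  have hN : ∀ {g : G}, g ∈ N → ∀ x : Ω, g • x = x := fun {g} hg x =>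
    Equiv.congr_fun (MonoidHom.mem_ker.mp hg) x
  obtain ⟨p, q, hpq⟩ := h.exists_ne
  have hgood : ∀ {w : G}, orderOf w = 2 → w ∈ N → w ∉ lineGroup D w := fun {w} hw hwN hwl =>
    hpq ((h.line hw hpq (hN hwN p) (hN hwN q)).fix_unique hwl hw (hN hwN p) (hN hwN q)
      (hN hwN p) (hN hwN q))
  haveI : (Cfsg.oddCore N).Characteristic := Cores.pPrimeCore_characteristic
  set O := (Cfsg.oddCore N).map N.subtype with hO
  haveI : O.Normal := Cores.map_subtype_normal
  have hOodd : Odd (Nat.card O) := by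
    rw [hO, Subgroup.card_map_of_injective (Subgroup.subtype_injective _)]
    exact Cores.odd_card_oddCore
  -- a member is isolated modulo the kernel
  have hcomm : ∀ d ∈ D, ∀ n ∈ N, d * n * d⁻¹ * n⁻¹ ∈ O := by
    intro d hd n hn
    set M := N ⊔ zpowers d with hM
    have hdM : d ∈ M := mem_sup_right (mem_zpowers d)
    have hnM : n ∈ M := mem_sup_left hn
    let dM : M := ⟨d, hdM⟩
    have hd2 : orderOf dM = 2 := by rw [Subgroup.orderOf_mk]; exact h.inv hd
    obtain ⟨P, hP⟩ := (IsPGroup.of_card (n := 1) (p := 2)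
      (by rw [Nat.card_zpowers, hd2]; rfl) : IsPGroup 2 (zpowers dM)).exists_le_sylow
    have hdP : dM ∈ P := hP (mem_zpowers _)
    have hiso : ∀ g : M, g * dM * g⁻¹ ∈ P → g * dM * g⁻¹ = dM := by
      intro g hg
      obtain ⟨a, ha, b, hb, hab⟩ := (Subgroup.mem_sup_of_normal_left).mp g.2
      obtain ⟨k, rfl⟩ := hb
      set e := (g : G) * d * (g : G)⁻¹ with he
      have heD : e ∈ D := h.conj_mem hd _
      have hea : e = a * d * a⁻¹ := by rw [he, ← hab]; group
      have heN : e * d ∈ N := by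
        rw [hea, show a * d * a⁻¹ * d = a * (d * a⁻¹ * d⁻¹) * (d * d) by group,
          mul_self_of_orderOf_eq_two (h.inv hd), mul_one]
        exact mul_mem ha ((MonoidHom.normal_ker _).conj_mem _ (inv_mem ha) d)
      have hodd : Odd (orderOf (e * d)) := by
        rw [← Nat.not_even_iff_odd]
        intro heven
        obtain ⟨w, hw2, hwz, hwd, hwe⟩ := exists_central_involution (h.inv hd) (h.inv heD) heven
        exact hgood hw2 (zpowers_le.mpr heN hwz) (zpowers_le.mpr
          (mul_mem (mem_lineGroup heD hwe.symm) (mem_lineGroup hd hwd.symm)) hwz)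
      obtain ⟨i, hi⟩ := (IsPGroup.iff_orderOf.mp P.isPGroup') ⟨_, mul_mem hg hdP⟩
      rw [Subgroup.orderOf_mk, ← Subgroup.orderOf_coe] at hi
      rw [show ((g * dM * g⁻¹ * dM : M) : G) = e * d from rfl] at hi
      rw [hi] at hodd
      rcases i with _ | i
      · rw [pow_zero, orderOf_eq_one_iff] at hi
        exact Subtype.ext ((eq_inv_of_mul_eq_one_left hi).trans
          (inv_eq_of_orderOf_eq_two (h.inv hd)))
      · exact absurd hodd (by rw [Nat.not_odd_iff_even, Nat.even_pow]; exact ⟨even_two, by omega⟩)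
    have hz := Cores.glaubermanZStar P hd2 hdP hiso ⟨n, hnM⟩
    haveI : (Cfsg.oddCore M).Characteristic := Cores.pPrimeCore_characteristic
    set O' := (Cfsg.oddCore M).map M.subtype
    have hO'n : (O'.subgroupOf N).Normal := ⟨fun a ha k => by
      rw [mem_subgroupOf] at ha ⊢
      obtain ⟨m, hm, hma⟩ := ha
      exact ⟨⟨(k : G), mem_sup_left k.2⟩ * m * ⟨(k : G), mem_sup_left k.2⟩⁻¹,
        Subgroup.Normal.conj_mem inferInstance m hm _, by simp [← hma]⟩⟩
    have hO'odd : Odd (Nat.card (O'.subgroupOf N)) := by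
      refine Odd.of_dvd_nat ?_ (Subgroup.card_dvd_of_injective
        (f := (⟨⟨fun a => ⟨(a : N), a.2⟩, rfl⟩, fun _ _ => rfl⟩ : O'.subgroupOf N →* O'))
        fun a b hab => Subtype.ext (Subtype.ext (congrArg (fun c : O' => (c : G)) hab)))
      rw [show Nat.card O' = Nat.card (Cfsg.oddCore M) from
        Subgroup.card_map_of_injective (Subgroup.subtype_injective _)]
      exact Cores.odd_card_oddCore
    have hN' : d * n * d⁻¹ * n⁻¹ ∈ N :=
      mul_mem ((MonoidHom.normal_ker _).conj_mem _ hn d) (inv_mem hn)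
    exact ⟨⟨_, hN'⟩, Cores.le_oddCore hO'odd (mem_subgroupOf.mpr ⟨_, hz, rfl⟩), rfl⟩
  by_contra heven
  rw [Nat.not_odd_iff_even] at heven
  obtain ⟨⟨t, htN⟩, ht2⟩ := exists_prime_orderOf_dvd_card' 2 heven.two_dvd
  rw [Subgroup.orderOf_mk] at ht2
  have htt := mul_self_of_orderOf_eq_two ht2
  have htop' : lineGroup D t ⊔ O = ⊤ := by
    rw [eq_top_iff, ← htop, closure_le]
    intro d hd
    obtain ⟨e, he, hc, hde⟩ := h.exists_commute_member hOodd hd htt (d := d) (by
      have := inv_mem (hcomm d hd t htN)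
      rwa [show (d * t * d⁻¹ * t⁻¹)⁻¹ = t * d * t⁻¹ * d⁻¹ by group] at this)
    have : d = d * e * e := by rw [mul_assoc, mul_self_of_orderOf_eq_two (h.inv he), mul_one]
    rw [this]
    exact mul_mem (mem_sup_right hde) (mem_sup_left (mem_lineGroup he hc))
  obtain ⟨l, hl, o, ho, hlo⟩ := Subgroup.mem_sup_of_normal_right.mp
    (htop' ▸ mem_top t : t ∈ lineGroup D t ⊔ O)
  have hlN : l ∈ N := by
    rw [eq_mul_inv_of_mul_eq hlo]
    exact mul_mem htN (inv_mem (map_subtype_le _ ho))
  have htO : t ∉ O := fun hto => by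
    have := hOodd.of_dvd_nat (O.orderOf_dvd_natCard hto)
    rw [ht2] at this
    exact absurd this (by decide)
  have hlO : l ∉ O := fun hlO => htO (hlo ▸ mul_mem hlO ho)
  have hll : l * l ∈ O := by
    have h4 : l * l = (t * o⁻¹ * t⁻¹) * (t * t) * o⁻¹ := by rw [← hlo]; group
    rw [h4, htt, mul_one]
    exact mul_mem ((inferInstance : O.Normal).conj_mem _ (inv_mem ho) t) (inv_mem ho)
  obtain ⟨r, hr, -⟩ := exists_involution_pow hOodd hll hlO
  obtain ⟨x, y, hxy⟩ := h.exists_ne
  have hS := h.line ht2 hxy (hN htN x) (hN htN y)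
  exact hxy (hS.fix_unique (pow_mem hl r) hr (hN htN x) (hN htN y)
    (hN (pow_mem hlN r) x) (hN (pow_mem hlN r) y))

end Pre

end Cfsg.Agent.H1.Asch.Red
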