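import Cfsg.Agent.H1.Asch.SinglePoint
import Cfsg.Agent.H1.Asch.RedLocal
import Cfsg.Agent.S1265
import Cfsg.Agent.S0205
import Cfsg.Agent.Components.Fitting
import Cfsg.Agent.PGroups.Basic
import Cfsg.Prelude.Def_Local
import Cfsg.Prelude.Def_TwoFusion

/-!
# Consumers of the criterion

Rows 1175, 1174 and 3121 from the criterion for faithful actions and `Cover`, with the common
constructions for rows 1911 and 3289.
-/

set_option autoImplicit false
set_option linter.style.haveILetI false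

namespace Cfsg.Agent.H1.Asch.Red

open Subgroup MulAction
open Cfsg.Agent.H39
open Cfsg (IsStronglyEmbedded)

universe u

variable {G : Type u} [Group G] {H : Subgroup G} {I : Set G} {z : G}

theorem conj_fix_one {g a : G} (ha : g⁻¹ * a * g ∈ H) :
    a • (QuotientGroup.mk g : G ⧸ H) = QuotientGroup.mk g :=
  (smul_coset_eq_iff a g).mpr ha

/-- A `Setting` on the cosets of `H` from involutions at the base point. -/
theorem setting_cosets [Finite G] (hconj : ∀ {a : G}, a ∈ I → ∀ g : G, g * a * g⁻¹ ∈ I)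
    (hinv : ∀ {a : G}, a ∈ I → orderOf a = 2) (hex : ∀ a ∈ I, ∃ g : G, g⁻¹ * a * g ∈ H)
    (hfix : ∀ a ∈ I, a ∈ H → ∀ g : G, g * a * g⁻¹ ∈ H → g ∈ H) (hz : z ∈ I) (P : Sylow 2 G)
    (hP : ∀ s ∈ P, Commute s z) (hne : H ≠ ⊤)
    (hprod : ∀ a ∈ I, ∀ b ∈ I, a ∈ H → b ∈ H → a ≠ b → Commute a b →
      centralizer ({a * b} : Set G) ≤ H) :
    Setting G (G ⧸ H) I z := by
  have huniq : ∀ {a : G}, a ∈ I → ∀ {p q : G ⧸ H}, a • p = p → a • q = q → p = q := by
    intro a ha p q hp hq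
    obtain ⟨g, rfl⟩ := QuotientGroup.mk_surjective p
    obtain ⟨k, rfl⟩ := QuotientGroup.mk_surjective q
    rw [smul_coset_eq_iff] at hp hq
    refine QuotientGroup.eq.mpr ?_
    have h1 := hfix (g⁻¹ * a * g) (by simpa using hconj ha g⁻¹) hp (k⁻¹ * g) (by
      rwa [show k⁻¹ * g * (g⁻¹ * a * g) * (k⁻¹ * g)⁻¹ = k⁻¹ * a * k by group])
    simpa using inv_mem h1
  have hexu : ∀ {a : G}, a ∈ I → ∃! p : G ⧸ H, a • p = p := fun {a} ha => by
    obtain ⟨g, hg⟩ := hex a ha
    exact ⟨_, conj_fix_one hg, fun q hq => huniq ha hq (conj_fix_one hg)⟩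
  have hoddz : Odd (Nat.card (conjugatesOf z)) := by
    haveI : Fact (Nat.Prime 2) := ⟨Nat.prime_two⟩
    have hle : (P : Subgroup G) ≤ centralizer ({z} : Set G) := fun s hs =>
      mem_centralizer_singleton_iff.mpr (hP s hs).eq
    have hcard : Nat.card (conjugatesOf z) = (centralizer ({z} : Set G)).index := by
      let f : G ⧸ centralizer ({z} : Set G) → conjugatesOf z := fun q =>
        ⟨Quotient.out q * z * (Quotient.out q)⁻¹, isConj_iff.mpr ⟨_, rfl⟩⟩
      refine (Nat.card_eq_of_bijective f ⟨fun p q hpq => ?_, fun d => ?_⟩).symm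
      · have h1 : Quotient.out p * z * (Quotient.out p)⁻¹ = Quotient.out q * z * (Quotient.out q)⁻¹ :=
          congrArg Subtype.val hpq
        rw [← QuotientGroup.out_eq' p, ← QuotientGroup.out_eq' q]
        refine QuotientGroup.eq.mpr (mem_centralizer_singleton_iff.mpr ?_)
        calc (Quotient.out p)⁻¹ * Quotient.out q * z
            = (Quotient.out p)⁻¹ * (Quotient.out q * z * (Quotient.out q)⁻¹) * Quotient.out q := by group
          _ = z * ((Quotient.out p)⁻¹ * Quotient.out q) := by rw [← h1]; group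
      · obtain ⟨g, hg⟩ := isConj_iff.mp d.2
        refine ⟨QuotientGroup.mk g, Subtype.ext ?_⟩
        obtain ⟨c, hc⟩ := QuotientGroup.mk_out_eq_mul (centralizer ({z} : Set G)) g
        show Quotient.out (QuotientGroup.mk g : G ⧸ centralizer ({z} : Set G)) * z * _⁻¹ = d.1
        rw [hc, ← hg]
        have hcz : (c : G) * z = z * c := mem_centralizer_singleton_iff.mp c.2
        calc g * c * z * (g * c)⁻¹ = g * (c * z) * (c : G)⁻¹ * g⁻¹ := by group
          _ = g * z * g⁻¹ := by rw [hcz]; group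
    rw [hcard]
    exact (Nat.odd_iff.mpr (Nat.two_dvd_ne_zero.mp P.not_dvd_index)).of_dvd_nat
      (Subgroup.index_dvd_of_le hle)
  refine
    { conj_mem := hconj
      inv := hinv
      unique := hexu
      base := hz
      odd_class := hoddz
      prod := fun {a b p q} ha hb hab hc hp hq => ?_
      trans := inferInstance
      exists_ne := ?_ }
  · obtain ⟨g, rfl⟩ := QuotientGroup.mk_surjective p
    obtain ⟨k, rfl⟩ := QuotientGroup.mk_surjective q
    -- a member-like element of the centraliser of `a * b` at the second point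
    have hbp : b • (QuotientGroup.mk g : G ⧸ H) = QuotientGroup.mk g :=
      huniq ha (by rw [← mul_smul, hc.eq, mul_smul, hp]) hp
    have hsq : (a * b) * (a * b) = 1 := by
      rw [hc.symm.mul_mul_mul_comm, mul_self_of_orderOf_eq_two (hinv ha),
        mul_self_of_orderOf_eq_two (hinv hb), one_mul]
    have hS : ∃ c : G, Commute c (a * b) ∧ c ∈ I ∧ c • (QuotientGroup.mk k : G ⧸ H) = QuotientGroup.mk k := by
      rw [smul_coset_eq_iff] at hq
      -- an odd number of conjugates of `z` at the point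
      obtain ⟨f, hf⟩ := hex z hz
      haveI : Fact (Nat.Prime 2) := ⟨Nat.prime_two⟩
      have hPH : (P : Subgroup G) ≤ H.map (MulAut.conj f).toMonoidHom := fun s hs => by
        have hsz : s • (QuotientGroup.mk f : G ⧸ H) = QuotientGroup.mk f :=
          huniq hz (by rw [← mul_smul, ← (hP s hs).eq, mul_smul, conj_fix_one hf]) (conj_fix_one hf)
        exact ⟨f⁻¹ * s * f, (smul_coset_eq_iff s f).mp hsz, by simp [mul_assoc]⟩
      set w : G := (f * k⁻¹) * (a * b) * (f * k⁻¹)⁻¹ with hw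
      have hwm : w ∈ H.map (MulAut.conj f).toMonoidHom :=
        ⟨k⁻¹ * (a * b) * k, hq, by simp [hw, mul_assoc]⟩
      have hw2 : IsPGroup 2 (zpowers (⟨w, hwm⟩ : ↥(H.map (MulAut.conj f).toMonoidHom))) := by
        rintro ⟨x, i, rfl⟩
        refine ⟨1, Subtype.ext ?_⟩
        show (((⟨w, hwm⟩ : ↥(H.map (MulAut.conj f).toMonoidHom)) ^ i) ^ 2 ^ 1) = 1
        rw [pow_one, ← zpow_natCast, ← zpow_mul, mul_comm, zpow_mul, zpow_natCast, pow_two,
          show (⟨w, hwm⟩ : ↥(H.map (MulAut.conj f).toMonoidHom)) * ⟨w, hwm⟩ = 1 from Subtype.ext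
            (by show w * w = 1; rw [hw, ← conj_mul, hsq, mul_one, mul_inv_cancel]), one_zpow]
      obtain ⟨S, hSw⟩ := hw2.exists_le_sylow
      obtain ⟨m, hm⟩ := exists_smul_eq ↥(H.map (MulAut.conj f).toMonoidHom) S (P.subtype hPH)
      have hmem : m * ⟨w, hwm⟩ * m⁻¹ ∈ ((m • S : Sylow 2 ↥(H.map (MulAut.conj f).toMonoidHom)) :
          Subgroup ↥(H.map (MulAut.conj f).toMonoidHom)) := by
        rw [Sylow.coe_subgroup_smul]
        exact ⟨⟨w, hwm⟩, hSw (mem_zpowers _), rfl⟩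
      rw [hm, Sylow.coe_subtype, mem_subgroupOf] at hmem
      set e : G := ((m : G) * (f * k⁻¹))⁻¹ with he
      refine ⟨e * z * e⁻¹, ?_, hconj hz e, ?_⟩
      · have h0 := (hP _ hmem).map (MulAut.conj e).toMonoidHom
        simp only [MulEquiv.coe_toMonoidHom, MulAut.conj_apply, Subgroup.coe_mul,
          Subgroup.coe_inv] at h0
        rw [show e * ((m : G) * w * (m : G)⁻¹) * e⁻¹ = a * b by rw [he, hw]; group] at h0
        exact h0.symm
      · obtain ⟨m', hm', hmm⟩ := m.2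
        simp only [MulEquiv.coe_toMonoidHom, MulAut.conj_apply] at hmm
        rw [smul_coset_eq_iff, he, ← hmm,
          show k⁻¹ * ((f * m' * f⁻¹ * (f * k⁻¹))⁻¹ * z * (f * m' * f⁻¹ * (f * k⁻¹))⁻¹⁻¹) * k =
            m'⁻¹ * (f⁻¹ * z * f) * m' by group]
        exact mul_mem (mul_mem (inv_mem hm') hf) hm'
    obtain ⟨c, hcc, hcI, hck⟩ := hS
    have hcH : g⁻¹ * c * g ∈ H := by
      refine hprod (g⁻¹ * a * g) (by simpa using hconj ha g⁻¹) (g⁻¹ * b * g)
        (by simpa using hconj hb g⁻¹) ((smul_coset_eq_iff _ _).mp hp)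
        ((smul_coset_eq_iff _ _).mp hbp) (fun e => hab (mul_left_cancel (mul_right_cancel e)))
        (by have := hc.map (MulAut.conj g⁻¹).toMonoidHom; simpa [mul_assoc] using this) ?_
      have := hcc.map (MulAut.conj g⁻¹).toMonoidHom
      refine mem_centralizer_singleton_iff.mpr ?_
      simpa [mul_assoc] using this.eq
    exact huniq hcI hck ((smul_coset_eq_iff _ _).mpr hcH)
  · obtain ⟨g, -, hg⟩ := SetLike.exists_of_lt (lt_top_iff_ne_top.mpr hne)
    exact ⟨QuotientGroup.mk g, QuotientGroup.mk 1, fun e => hg ((mk_eq_one_iff g).mp e)⟩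
where
  conj_mul {g a : G} : g * (a * a) * g⁻¹ = g * a * g⁻¹ * (g * a * g⁻¹) := by group

theorem mul_self_of_mem_closure {A : Set G} (h2 : ∀ a ∈ A, a * a = 1)
    (hcomm : ∀ a ∈ A, ∀ b ∈ A, Commute a b) {g : G} (hg : g ∈ closure A) : g * g = 1 := by
  induction hg using Subgroup.closure_induction with
  | mem a ha => exact h2 a ha
  | one => exact mul_one 1
  | mul a b ha hb h1 h2' =>
    haveI := Subgroup.isMulCommutative_closure fun a ha b hb => (hcomm a ha b hb).eq
    have hab : Commute a b := congrArg Subtype.val (mul_comm' (⟨a, ha⟩ : closure A) ⟨b, hb⟩)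
    rw [hab.symm.mul_mul_mul_comm, h1, h2', one_mul]
  | inv a _ h1 => rw [← mul_inv_rev, h1, inv_one]

/-- The clique condition on cosets from the centralisers at the base point. -/
theorem clique_cosets [Finite G] (h : Setting G (G ⧸ H) I z)
    (hCl : ∀ A : Set G, A ⊆ I → (∀ a ∈ A, ∀ b ∈ A, Commute a b) → A ⊆ (H : Set G) →
      ∀ g ∈ closure A, g ≠ 1 → centralizer ({g} : Set G) ≤ H) :
    Clique G (G ⧸ H) I := by
  intro A hA hcomm p hp g hg hg1 q hq
  obtain ⟨k, rfl⟩ := QuotientGroup.mk_surjective p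
  have hgg : g * g = 1 :=
    mul_self_of_mem_closure (fun a ha => mul_self_of_orderOf_eq_two (h.inv (hA ha))) hcomm hg
  obtain ⟨d, hd, hdq, hdg⟩ := h.exists_commute_at hgg hq
  have hC := hCl ((MulAut.conj k⁻¹).toMonoidHom '' A)
    (by rintro _ ⟨a, ha, rfl⟩; simpa using h.conj_mem (hA ha) k⁻¹)
    (by rintro _ ⟨a, ha, rfl⟩ _ ⟨b, hb, rfl⟩; exact (hcomm a ha b hb).map _)
    (by
      rintro _ ⟨a, ha, rfl⟩
      simpa using (smul_coset_eq_iff a k).mp (hp a ha))
    ((MulAut.conj k⁻¹).toMonoidHom g) (by rw [← MonoidHom.map_closure]; exact ⟨g, hg, rfl⟩)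
    (fun e => hg1 ((map_eq_one_iff _ (MulAut.conj k⁻¹).injective).mp e))
  have hdH : k⁻¹ * d * k ∈ H := hC (mem_centralizer_singleton_iff.mpr (by
    simpa using (hdg.symm.map (MulAut.conj k⁻¹).toMonoidHom).eq))
  exact (h.unique (h.subset hd)).unique hdq ((smul_coset_eq_iff _ _).mpr hdH)

/-- `H ⊓ K` is strongly embedded in a subgroup `K` without involutions fixing two cosets. -/
theorem stronglyEmbedded_of_noBad [Finite G] {K : Subgroup G} {z : G} (hzK : z ∈ K) (hzH : z ∈ H)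
    (hz : orderOf z = 2) (hKH : ¬ K ≤ H)
    (hnb : ∀ t ∈ K, orderOf t = 2 → ∀ x y : G ⧸ H, t • x = x → t • y = y → x = y) :
    IsStronglyEmbedded (H.subgroupOf K) := by
  refine ⟨fun htop => hKH (Subgroup.subgroupOf_eq_top.mp htop), ?_, fun g hg => ?_⟩
  · rw [even_iff_two_dvd, ← hz, ← Subgroup.orderOf_mk z hzK]
    exact Subgroup.orderOf_dvd_natCard _ hzH
  · rw [← Nat.not_even_iff_odd]
    intro heven
    obtain ⟨⟨w, hw⟩, hw2⟩ := exists_prime_orderOf_dvd_card' 2 heven.two_dvd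
    rw [Subgroup.orderOf_mk, ← Subgroup.orderOf_coe] at hw2
    obtain ⟨hwH, v, hv, hvw⟩ := hw
    have h1 := (fixed_one_iff (w : G)).mpr hwH
    have h2 : (w : G) • (QuotientGroup.mk (g : G) : G ⧸ H) = QuotientGroup.mk (g : G) := by
      rw [smul_coset_eq_iff, ← hvw]
      show (g : G)⁻¹ * ((g : G) * (v : G) * (g : G)⁻¹) * g ∈ H
      simpa [mul_assoc] using mem_subgroupOf.mp hv
    exact hg ((mk_eq_one_iff (g : G)).mp (hnb w w.2 hw2 _ _ h1 h2).symm)

/-- Row 1175. -/
theorem row1175 (hcore : Core.{u}) (hcover : Cover.{u}) [Finite G] [IsSimpleGroup G] (M : Subgroup G)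
    (hM : M ≠ ⊤) (z : G) (hz : orderOf z = 2) (hzM : z ∈ M)
    (h1 : ∃ S : Sylow 2 G, z ∈ S ∧ ∀ s ∈ S, Commute s z) (h2 : ∀ g : G, g * z * g⁻¹ ∈ M → g ∈ M)
    (h3 : ∀ g : G, Commute z (g * z * g⁻¹) → g * z * g⁻¹ ≠ z →
      centralizer ({z * (g * z * g⁻¹)} : Set G) ≤ M) :
    ∃ H : Subgroup G, IsStronglyEmbedded H := by
  obtain ⟨S, -, hS⟩ := h1
  have hset : Setting G (G ⧸ M) (conjugatesOf z) z := by
    refine setting_cosets (fun {a} ha g => (show IsConj z a from ha).trans (isConj_iff.mpr ⟨g, rfl⟩))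
      (fun {a} ha => ?_) ?_ ?_ mem_conjugatesOf_self S hS hM ?_
    · obtain ⟨g, rfl⟩ := isConj_iff.mp ha
      rw [H39.orderOf_conj, hz]
    · intro a ha
      obtain ⟨g, rfl⟩ := isConj_iff.mp ha
      exact ⟨g, by simpa [mul_assoc] using hzM⟩
    · intro a ha haM g hg
      obtain ⟨k, rfl⟩ := isConj_iff.mp ha
      have hk := h2 k haM
      have hgk := h2 (g * k) (by rwa [show g * k * z * (g * k)⁻¹ = g * (k * z * k⁻¹) * g⁻¹ by group])
      simpa using mul_mem hgk (inv_mem hk)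
    · intro a ha b hb haM _ hab hc
      obtain ⟨k, rfl⟩ := isConj_iff.mp ha
      obtain ⟨l, rfl⟩ := isConj_iff.mp hb
      have hk := h2 k haM
      have hc' := hc.map (MulAut.conj k⁻¹).toMonoidHom
      simp only [MulEquiv.coe_toMonoidHom, MulAut.conj_apply] at hc'
      rw [show k⁻¹ * (k * z * k⁻¹) * k⁻¹⁻¹ = z by group,
        show k⁻¹ * (l * z * l⁻¹) * k⁻¹⁻¹ = (k⁻¹ * l) * z * (k⁻¹ * l)⁻¹ by group] at hc'
      have hC := h3 _ hc' (fun e => hab (by
        calc k * z * k⁻¹ = k * ((k⁻¹ * l) * z * (k⁻¹ * l)⁻¹) * k⁻¹ := by rw [e]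
          _ = l * z * l⁻¹ := by group))
      intro c hcm
      have h0 := (show Commute c (k * z * k⁻¹ * (l * z * l⁻¹)) from
        mem_centralizer_singleton_iff.mp hcm).map (MulAut.conj k⁻¹).toMonoidHom
      simp only [MulEquiv.coe_toMonoidHom, MulAut.conj_apply] at h0
      rw [show k⁻¹ * (k * z * k⁻¹ * (l * z * l⁻¹)) * k⁻¹⁻¹ =
        z * ((k⁻¹ * l) * z * (k⁻¹ * l)⁻¹) by group] at h0
      have := mul_mem (mul_mem hk (hC (mem_centralizer_singleton_iff.mpr h0.eq))) (inv_mem hk)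
      rwa [show k * (k⁻¹ * c * k⁻¹⁻¹) * k⁻¹ = c by group] at this
  have htop : closure (conjugatesOf z) = ⊤ := by
    have hn : (closure (conjugatesOf z)).Normal := by
      rw [show closure (conjugatesOf z) = normalClosure ({z} : Set G) by
        rw [normalClosure, Group.conjugatesOfSet, Set.biUnion_singleton]]
      infer_instance
    refine hn.eq_bot_or_eq_top.resolve_left fun hb => ?_
    have h0 : z ∈ (⊥ : Subgroup G) := hb ▸ subset_closure mem_conjugatesOf_self
    rw [Subgroup.mem_bot.mp h0, orderOf_one] at hz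
    exact absurd hz (by norm_num)
  have hcl : Clique G (G ⧸ M) (conjugatesOf z) := by
    refine hset.clique_of_faithful fun g hg => ?_
    have hcore : M.normalCore = ⊥ :=
      (Subgroup.normalCore_normal M).eq_bot_or_eq_top.resolve_right fun e =>
        hM (top_unique (e ▸ M.normalCore_le))
    refine Subgroup.mem_bot.mp (hcore ▸ (fun b => ?_ : g ∈ M.normalCore))
    have := (smul_coset_eq_iff g b⁻¹).mp (hg (QuotientGroup.mk b⁻¹))
    simpa using this
  refine ⟨M, hM, ?_, fun g hg => ?_⟩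
  · rw [even_iff_two_dvd, ← hz]
    exact Subgroup.orderOf_dvd_natCard _ hzM
  · rw [← Nat.not_even_iff_odd]
    intro heven
    obtain ⟨⟨w, hw⟩, hw2⟩ := exists_prime_orderOf_dvd_card' 2 heven.two_dvd
    rw [Subgroup.orderOf_mk] at hw2
    obtain ⟨hwM, v, hv, hvw⟩ := hw
    have h2' : w • (QuotientGroup.mk g : G ⧸ M) = QuotientGroup.mk g := by
      rw [smul_coset_eq_iff, ← hvw]
      simpa [mul_assoc] using hv
    exact hg ((mk_eq_one_iff g).mp (hset.noBad hcore hcover hcl (htop ▸ mem_top w) hw2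
      ((fixed_one_iff w).mpr hwM) h2').symm)

/-- Strongly closed subgroups: the data at the involutions of the conjugates of `T`. -/
theorem setting_stronglyClosed [Finite G] (S : Sylow 2 G) (T : Subgroup G) (hT1 : T ≠ ⊥)
    (hT : Cfsg.IsStronglyClosed T (S : Subgroup G)) (hne : H ≠ ⊤)
    (hC : ∀ t ∈ T, orderOf t = 2 → centralizer ({t} : Set G) ≤ H)
    (hN : ∀ n : G, n ∈ normalizer ((S : Subgroup G) : Set G) → n ∈ H) :
    ∃ z ∈ T, z ∈ H ∧ orderOf z = 2 ∧
      Setting G (G ⧸ H) {a | orderOf a = 2 ∧ ∃ g : G, g⁻¹ * a * g ∈ T} z ∧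
      Clique G (G ⧸ H) {a | orderOf a = 2 ∧ ∃ g : G, g⁻¹ * a * g ∈ T} := by
  haveI : Fact (Nat.Prime 2) := ⟨Nat.prime_two⟩
  have hSH : (S : Subgroup G) ≤ H := fun s hs => hN s (le_normalizer hs)
  -- an involution of `T` central in `S`
  obtain ⟨z, hzT, hz2, hzS⟩ : ∃ z ∈ T, orderOf z = 2 ∧ ∀ s ∈ S, Commute s z := by
    haveI : (T.subgroupOf (S : Subgroup G)).Normal := ⟨fun t ht s => by
      rw [mem_subgroupOf] at ht ⊢
      exact hT.2 _ ht (s : G) ((S : Subgroup G).mul_mem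
        ((S : Subgroup G).mul_mem s.2 (hT.1 ht)) (inv_mem s.2))⟩
    have hne' : T.subgroupOf (S : Subgroup G) ≠ ⊥ := fun hb => hT1 (by
      have := Subgroup.subgroupOf_eq_bot.mp hb
      rwa [disjoint_iff, inf_eq_left.mpr hT.1] at this)
    have hp : IsPGroup 2 ↥(T.subgroupOf (S : Subgroup G) ⊓ center (S : Subgroup G)) :=
      S.isPGroup'.to_subgroup _
    haveI : Nontrivial ↥(T.subgroupOf (S : Subgroup G) ⊓ center (S : Subgroup G)) :=
      (Subgroup.nontrivial_iff_ne_bot _).mpr (PGroups.inf_center_ne_bot S.isPGroup' _ hne')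
    obtain ⟨n, hn, hcard⟩ := hp.nontrivial_iff_card.mp inferInstance
    obtain ⟨x, hx⟩ := exists_prime_orderOf_dvd_card' 2 (hcard ▸ dvd_pow_self 2 hn.ne')
    refine ⟨((x : (S : Subgroup G)) : G), x.2.1, ?_, fun s hs => ?_⟩
    · rwa [Subgroup.orderOf_coe, Subgroup.orderOf_coe]
    · exact congrArg Subtype.val (Subgroup.mem_center_iff.mp x.2.2 ⟨s, hs⟩)
  -- elements of `H` conjugate into `T` are conjugate in `H` into `T`
  have hinto : ∀ A : Subgroup G, A ≤ H → IsPGroup 2 A →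
      ∃ m ∈ H, ∀ a ∈ A, m * a * m⁻¹ ∈ (S : Subgroup G) := by
    intro A hAH hA
    obtain ⟨R, hR⟩ := (hA.comap_subtype (K := H)).exists_le_sylow
    obtain ⟨m, hm⟩ := exists_smul_eq H R (S.subtype hSH)
    refine ⟨m, m.2, fun a ha => ?_⟩
    have hmem : m * ⟨a, hAH ha⟩ * m⁻¹ ∈ ((m • R : Sylow 2 H) : Subgroup H) := by
      rw [Sylow.coe_subgroup_smul]
      exact ⟨⟨a, hAH ha⟩, hR ha, rfl⟩
    rw [hm, Sylow.coe_subtype, mem_subgroupOf] at hmem
    exact hmem
  have hp2 : ∀ {a : G}, orderOf a = 2 → IsPGroup 2 (zpowers a) := fun {a} ha =>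
    IsPGroup.of_card (n := 1) (by rw [Nat.card_zpowers, ha]; rfl)
  have htoT : ∀ a : G, orderOf a = 2 → (∃ g : G, g⁻¹ * a * g ∈ T) → a ∈ H →
      ∀ m ∈ H, m * a * m⁻¹ ∈ (S : Subgroup G) → m * a * m⁻¹ ∈ T := by
    rintro a - ⟨g, hg⟩ - m - hmS
    have := hT.2 _ hg (m * g) (by rwa [show m * g * (g⁻¹ * a * g) * (m * g)⁻¹ = m * a * m⁻¹ by group])
    rwa [show m * g * (g⁻¹ * a * g) * (m * g)⁻¹ = m * a * m⁻¹ by group] at this
  have hCH : ∀ a : G, orderOf a = 2 → (∃ g : G, g⁻¹ * a * g ∈ T) → a ∈ H →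
      centralizer ({a} : Set G) ≤ H := by
    intro a ha hag haH c hc
    obtain ⟨m, hm, hmS⟩ := hinto _ (zpowers_le.mpr haH) (hp2 ha)
    have h1 := hC _ (htoT a ha hag haH m hm (hmS a (mem_zpowers a)))
      (by rw [H39.orderOf_conj, ha]) (show m * c * m⁻¹ ∈ centralizer ({m * a * m⁻¹} : Set G) from
        mem_centralizer_singleton_iff.mpr (by
          have := (show Commute c a from mem_centralizer_singleton_iff.mp hc).map
            (MulAut.conj m).toMonoidHom
          simpa using this.eq))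
    simpa [mul_assoc] using mul_mem (mul_mem (inv_mem hm) h1) hm
  suffices hset : Setting G (G ⧸ H) {a | orderOf a = 2 ∧ ∃ g : G, g⁻¹ * a * g ∈ T} z by
    refine ⟨z, hzT, hSH (hT.1 hzT), hz2, hset, clique_cosets hset fun A hA hcomm hAH g hg hg1 => ?_⟩
    have hsq : ∀ y ∈ closure A, y * y = 1 := fun y hy =>
      mul_self_of_mem_closure (fun a ha => mul_self_of_orderOf_eq_two (hset.inv (hA ha))) hcomm hy
    obtain ⟨m, hm, hmS⟩ := hinto _ ((closure_le _).mpr hAH)
      (fun x => ⟨1, Subtype.ext (by rw [pow_one, Subgroup.coe_pow, pow_two]; exact hsq x x.2)⟩)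
    have hmT : closure A ≤ T.comap (MulAut.conj m).toMonoidHom :=
      (closure_le _).mpr fun a ha => htoT a (hA ha).1 (hA ha).2 (hAH ha) m hm
        (hmS a (subset_closure ha))
    exact hCH g (orderOf_eq_two_of_mul_self (hsq g hg) hg1)
      ⟨m⁻¹, by simpa using hmT hg⟩ ((closure_le _).mpr hAH hg)
  refine setting_cosets (fun {a} ha g => ?_) (fun {a} ha => ha.1)
    (fun a ha => ?_) ?_ ⟨hz2, 1, by simpa using hzT⟩ S hzS hne ?_
  · obtain ⟨k, hk⟩ := ha.2
    exact ⟨by rw [H39.orderOf_conj, ha.1], g * k,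
      by rwa [show (g * k)⁻¹ * (g * a * g⁻¹) * (g * k) = k⁻¹ * a * k by group]⟩
  · obtain ⟨k, hk⟩ := ha.2
    exact ⟨k, hSH (hT.1 hk)⟩
  · -- a conjugation inside `H` comes from `H`
    rintro a ⟨ha2, hag⟩ haH g hg
    obtain ⟨m, hm, hmS⟩ := hinto _ (zpowers_le.mpr haH) (hp2 ha2)
    set t := m * a * m⁻¹
    have ht := htoT a ha2 hag haH m hm (hmS a (mem_zpowers a))
    have ht2 : orderOf t = 2 := by rw [H39.orderOf_conj, ha2]
    have hzt : centralizer ({t} : Set G) ≤ H := hC t ht ht2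
    -- move a Sylow subgroup of the centraliser of `t`
    have hgm : (g * m⁻¹) * t * (g * m⁻¹)⁻¹ ∈ H := by
      rwa [show (g * m⁻¹) * t * (g * m⁻¹)⁻¹ = g * a * g⁻¹ by simp [t, mul_assoc]]
    suffices g * m⁻¹ ∈ H by simpa using mul_mem this hm
    set k := g * m⁻¹
    set t' := k * t * k⁻¹
    have ht' : centralizer ({t'} : Set G) ≤ H := hCH t' (by rw [H39.orderOf_conj, ht2])
      ⟨k, by rwa [show k⁻¹ * t' * k = t by simp only [t']; group]⟩ hgm
    obtain ⟨P, hP⟩ := (hp2 (H39.orderOf_conj k t ▸ ht2)).exists_le_sylow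
    -- `z` and its conjugate by `k`
    have hzH : k * z * k⁻¹ ∈ H := ht' (mem_centralizer_singleton_iff.mpr (by
      have := ((hzS t (hT.1 ht)).symm.map (MulAut.conj k).toMonoidHom)
      simpa [t'] using this.eq))
    have hk : k * z * k⁻¹ ∈ H → k ∈ H := fun hkz => by
      have hsub : (S : Subgroup G).map (MulAut.conj k).toMonoidHom ≤ H := by
        rintro x ⟨s, hs, rfl⟩
        refine hCH (k * z * k⁻¹) (by rw [H39.orderOf_conj, hz2])
          ⟨k, by simpa [mul_assoc] using hzT⟩ hkz (mem_centralizer_singleton_iff.mpr ?_)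
        have := (hzS s hs).map (MulAut.conj k).toMonoidHom
        simpa using this.eq
      have hle : ((k • S : Sylow 2 G) : Subgroup G) ≤ H := by
        rw [Sylow.coe_subgroup_smul]; exact hsub
      obtain ⟨n, hn⟩ := exists_smul_eq H ((k • S).subtype hle) (S.subtype hSH)
      have hn' : ((n : G) * k) • S = S := by
        rw [mul_smul]
        refine Sylow.ext ?_
        have h0 := congrArg (fun R : Sylow 2 H => (R : Subgroup H).map H.subtype) hn
        simp only [Sylow.coe_subgroup_smul, Sylow.coe_subtype] at h0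
        rw [Subgroup.subgroupOf_map_subtype, inf_eq_left.mpr hSH] at h0
        rw [Sylow.coe_subgroup_smul, ← h0]
        ext x
        constructor
        · rintro ⟨y, hy, rfl⟩
          exact ⟨⟨(n : G) * y * (n : G)⁻¹, mul_mem (mul_mem n.2 (hle hy)) (inv_mem n.2)⟩,
            ⟨⟨y, hle hy⟩, hy, Subtype.ext rfl⟩, rfl⟩
        · rintro ⟨_, ⟨y, hy, rfl⟩, rfl⟩
          exact ⟨(y : G), hy, rfl⟩
      have := hN ((n : G) * k) (Sylow.smul_eq_iff_mem_normalizer.mp hn')
      simpa using mul_mem (inv_mem n.2) this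
    exact hk hzH
  · rintro a ⟨ha2, hag⟩ b ⟨hb2, hbg⟩ haH hbH hab hc
    have hp : IsPGroup 2 (closure ({a, b} : Set G)) := by
      have hcomm : ∀ x ∈ ({a, b} : Set G), ∀ y ∈ ({a, b} : Set G), x * y = y * x := by
        rintro x (rfl | rfl) y (rfl | rfl)
        exacts [rfl, hc.eq, hc.eq.symm, rfl]
      haveI := Subgroup.isMulCommutative_closure hcomm
      refine fun x => ⟨1, Subtype.ext ?_⟩
      show (x : G) ^ 2 ^ 1 = 1
      rw [pow_one]
      obtain ⟨x, hx⟩ := x
      induction hx using Subgroup.closure_induction with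
      | mem y hy => rcases hy with rfl | rfl <;> [rw [← ha2, pow_orderOf_eq_one]; rw [← hb2, pow_orderOf_eq_one]]
      | one => exact one_pow _
      | mul y w hy hw h1 h2 =>
        have hyw : Commute y w :=
          congrArg Subtype.val (mul_comm' (⟨y, hy⟩ : closure ({a, b} : Set G)) ⟨w, hw⟩)
        rw [hyw.mul_pow, h1, h2, one_mul]
      | inv y _ h1 => rw [inv_pow, h1, inv_one]
    obtain ⟨m, hm, hmS⟩ := hinto _ ((closure_le _).mpr (by rintro x (rfl | rfl) <;> assumption)) hp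
    have hab2 : orderOf (a * b) = 2 := by
      refine orderOf_eq_two_of_mul_self ?_ fun e => hab ?_
      · rw [hc.symm.mul_mul_mul_comm, mul_self_of_orderOf_eq_two ha2, mul_self_of_orderOf_eq_two hb2,
          one_mul]
      · rw [eq_inv_of_mul_eq_one_left e, inv_eq_of_orderOf_eq_two hb2]
    refine hCH (a * b) hab2 ⟨m⁻¹, ?_⟩ (mul_mem haH hbH)
    have := T.mul_mem (htoT a ha2 hag haH m hm (hmS a (subset_closure (Set.mem_insert _ _))))
      (htoT b hb2 hbg hbH m hm (hmS b (subset_closure (Set.mem_insert_of_mem _ rfl))))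
    simpa [mul_assoc] using this

/-- A subgroup without involutions fixing two cosets is strongly embedded. -/
theorem stronglyEmbedded_top [Finite G] {z : G} (hzH : z ∈ H) (hz : orderOf z = 2) (hne : H ≠ ⊤)
    (hnb : ∀ t : G, orderOf t = 2 → ∀ x y : G ⧸ H, t • x = x → t • y = y → x = y) :
    IsStronglyEmbedded H := by
  refine ⟨hne, ?_, fun g hg => ?_⟩
  · rw [even_iff_two_dvd, ← hz]
    exact Subgroup.orderOf_dvd_natCard _ hzH
  · rw [← Nat.not_even_iff_odd]
    intro heven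
    obtain ⟨⟨w, hw⟩, hw2⟩ := exists_prime_orderOf_dvd_card' 2 heven.two_dvd
    rw [Subgroup.orderOf_mk] at hw2
    obtain ⟨hwH, v, hv, hvw⟩ := hw
    have h2 : w • (QuotientGroup.mk g : G ⧸ H) = QuotientGroup.mk g := by
      rw [smul_coset_eq_iff, ← hvw]
      simpa [mul_assoc] using hv
    exact hg ((mk_eq_one_iff g).mp (hnb w hw2 _ _ ((fixed_one_iff w).mpr hwH) h2).symm)

/-- Row 1174. -/
theorem row1174 (hcore : Core.{u}) (hcover : Cover.{u}) [Finite G] [IsSimpleGroup G] (S : Sylow 2 G)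
    (T : Subgroup G) (hT1 : T ≠ ⊥) (hT : Cfsg.IsStronglyClosed T (S : Subgroup G))
    (hprop : (⨆ t : {t : G // t ∈ T ∧ orderOf t = 2}, centralizer ({(t : G)} : Set G)) ≠ ⊤) :
    ∃ H : Subgroup G, IsStronglyEmbedded H := by
  haveI : Fact (Nat.Prime 2) := ⟨Nat.prime_two⟩
  set M := ⨆ t : {t : G // t ∈ T ∧ orderOf t = 2}, centralizer ({(t : G)} : Set G) with hMdef
  have hC : ∀ t ∈ T, orderOf t = 2 → centralizer ({t} : Set G) ≤ M := fun t ht ht2 =>
    le_iSup (fun t : {t : G // t ∈ T ∧ orderOf t = 2} => centralizer ({(t : G)} : Set G)) ⟨t, ht, ht2⟩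
  have hne : normalizer (M : Set G) ≠ ⊤ := fun htop => by
    haveI : Nontrivial T := (Subgroup.nontrivial_iff_ne_bot T).mpr hT1
    obtain ⟨k, hk, hcard⟩ := (S.isPGroup'.to_le hT.1).nontrivial_iff_card.mp inferInstance
    obtain ⟨⟨t, htT⟩, ht⟩ := exists_prime_orderOf_dvd_card' 2 (hcard ▸ dvd_pow_self 2 hk.ne')
    rw [Subgroup.orderOf_mk] at ht
    have hb := ((Subgroup.normalizer_eq_top_iff.mp htop).eq_bot_or_eq_top).resolve_right hprop
    have h0 : t ∈ (⊥ : Subgroup G) := hb ▸ hC t htT ht (mem_centralizer_singleton_iff.mpr rfl)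
    rw [Subgroup.mem_bot.mp h0, orderOf_one] at ht
    exact absurd ht (by norm_num)
  have hN : ∀ n : G, n ∈ normalizer ((S : Subgroup G) : Set G) → n ∈ normalizer (M : Set G) := by
    have hnorm : ∀ n : G, n ∈ normalizer ((S : Subgroup G) : Set G) →
        M.map (MulAut.conj n).toMonoidHom ≤ M := by
      intro n hn
      rw [hMdef, Subgroup.map_iSup, iSup_le_iff]
      rintro ⟨t, ht, ht2⟩ x ⟨c, hc, rfl⟩
      refine hC (n * t * n⁻¹) (hT.2 t ht n ((Subgroup.mem_normalizer_iff.mp hn t).mp (hT.1 ht)))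
        (by rw [H39.orderOf_conj, ht2]) (mem_centralizer_singleton_iff.mpr ?_)
      have := (show Commute c t from mem_centralizer_singleton_iff.mp hc).map
        (MulAut.conj n).toMonoidHom
      simpa using this.eq
    intro n hn
    refine Subgroup.mem_normalizer_iff.mpr fun x => ⟨fun hx => hnorm n hn ⟨x, hx, rfl⟩, fun hx => ?_⟩
    have := hnorm n⁻¹ (inv_mem hn) ⟨_, hx, rfl⟩
    simpa [mul_assoc] using this
  obtain ⟨z, -, hzM, hz2, hset, hcl⟩ := setting_stronglyClosed S T hT1 hT hne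
    (fun t ht ht2 => (hC t ht ht2).trans le_normalizer) hN
  have htop : closure {a : G | orderOf a = 2 ∧ ∃ g : G, g⁻¹ * a * g ∈ T} = ⊤ := by
    have hn : (closure {a : G | orderOf a = 2 ∧ ∃ g : G, g⁻¹ * a * g ∈ T}).Normal :=
      ⟨fun x hx g => by
        induction hx using Subgroup.closure_induction with
        | mem y hy => exact subset_closure (hset.conj_mem hy g)
        | one => simp
        | mul y w _ _ h1 h2 =>
          rw [show g * (y * w) * g⁻¹ = (g * y * g⁻¹) * (g * w * g⁻¹) by group]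
          exact mul_mem h1 h2
        | inv y _ h1 =>
          rw [show g * y⁻¹ * g⁻¹ = (g * y * g⁻¹)⁻¹ by group]
          exact inv_mem h1⟩
    refine hn.eq_bot_or_eq_top.resolve_left fun hb => ?_
    have h0 : z ∈ (⊥ : Subgroup G) := hb ▸ subset_closure hset.base
    rw [Subgroup.mem_bot.mp h0, orderOf_one] at hz2
    exact absurd hz2 (by norm_num)
  exact ⟨_, stronglyEmbedded_top hzM hz2 hne fun t ht x y hx hy =>
    hset.noBad hcore hcover hcl (htop ▸ mem_top t) ht hx hy⟩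

/-- Tightly embedded subgroups: the data at the involutions of the conjugates of `Q`. -/
theorem setting_tightlyEmbedded [Finite G] {Q : Subgroup G} (hQ : Cfsg.IsTightlyEmbedded Q)
    (hodd : ∀ g : G, g ∉ normalizer (Q : Set G) →
      Odd (Nat.card ↥(Q.map (MulAut.conj g).toMonoidHom ⊓ normalizer (Q : Set G))))
    (hne : normalizer (Q : Set G) ≠ ⊤) :
    ∃ z ∈ Q, orderOf z = 2 ∧
      Setting G (G ⧸ normalizer (Q : Set G)) {a | orderOf a = 2 ∧ ∃ g : G, g⁻¹ * a * g ∈ Q} z ∧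
      Clique G (G ⧸ normalizer (Q : Set G)) {a | orderOf a = 2 ∧ ∃ g : G, g⁻¹ * a * g ∈ Q} := by
  haveI : Fact (Nat.Prime 2) := ⟨Nat.prime_two⟩
  set N := normalizer (Q : Set G) with hN
  have hQN : Q ≤ N := le_normalizer
  have hconjQ : ∀ n ∈ N, ∀ a ∈ Q, n * a * n⁻¹ ∈ Q := fun n hn a ha =>
    (Subgroup.mem_normalizer_iff.mp hn a).mp ha
  have hfix0 : ∀ a ∈ Q, orderOf a = 2 → ∀ g : G, g * a * g⁻¹ ∈ N → g ∈ N := by
    intro a ha ha2 g hg
    by_contra hgN
    have h2 := (hodd g hgN).of_dvd_nat (Subgroup.orderOf_dvd_natCard _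
      (show g * a * g⁻¹ ∈ Q.map (MulAut.conj g).toMonoidHom ⊓ N from
        ⟨⟨a, ha, by simp⟩, hg⟩))
    rw [H39.orderOf_conj, ha2] at h2
    exact absurd h2 (by decide)
  have hinQ : ∀ {a : G}, orderOf a = 2 → (∃ g : G, g⁻¹ * a * g ∈ Q) → a ∈ N → a ∈ Q := by
    rintro a ha2 ⟨g, hg⟩ haN
    have hgN := hfix0 _ hg (by rw [show g⁻¹ * a * g = g⁻¹ * a * g⁻¹⁻¹ by rw [inv_inv],
      H39.orderOf_conj, ha2]) g (by rwa [show g * (g⁻¹ * a * g) * g⁻¹ = a by group])
    simpa [mul_assoc] using hconjQ g hgN _ hg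
  -- a Sylow subgroup of the normaliser and a central involution of `Q` in it
  obtain ⟨R⟩ : Nonempty (Sylow 2 N) := inferInstance
  obtain ⟨z, hzQ, hz2, hzmem, hzR⟩ : ∃ z : G, z ∈ Q ∧ orderOf z = 2 ∧
      z ∈ (R : Subgroup N).map N.subtype ∧ ∀ r : N, r ∈ R → Commute (r : G) z := by
    haveI : ((Q.subgroupOf N).subgroupOf (R : Subgroup N)).Normal := ⟨fun x hx r => by
      rw [mem_subgroupOf, mem_subgroupOf] at hx ⊢
      exact hconjQ _ (r : N).2 _ hx⟩
    obtain ⟨⟨a, haQ⟩, ha⟩ := exists_prime_orderOf_dvd_card' 2 hQ.1.two_dvd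
    rw [Subgroup.orderOf_mk] at ha
    have hne' : (Q.subgroupOf N).subgroupOf (R : Subgroup N) ≠ ⊥ := by
      intro hb
      obtain ⟨R', hR'⟩ := (IsPGroup.of_card (n := 1) (p := 2) (by
        rw [Nat.card_zpowers, Subgroup.orderOf_mk, ha]; rfl) :
          IsPGroup 2 (zpowers (⟨a, hQN haQ⟩ : N))).exists_le_sylow
      obtain ⟨n, hn⟩ := exists_smul_eq N R' R
      have hmem : n * ⟨a, hQN haQ⟩ * n⁻¹ ∈ (R : Subgroup N) := by
        rw [← hn, Sylow.coe_subgroup_smul]
        exact ⟨_, hR' (mem_zpowers _), rfl⟩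
      have h0 : (⟨_, hmem⟩ : (R : Subgroup N)) ∈ (Q.subgroupOf N).subgroupOf (R : Subgroup N) := by
        rw [mem_subgroupOf, mem_subgroupOf]
        exact hconjQ _ n.2 _ haQ
      rw [hb, Subgroup.mem_bot] at h0
      have h1 : (n : G) * a * (n : G)⁻¹ = 1 :=
        congrArg (fun c : (R : Subgroup N) => ((c : N) : G)) h0
      have h2 := congrArg orderOf h1
      rw [H39.orderOf_conj, orderOf_one, ha] at h2
      exact absurd h2 (by norm_num)
    have hp : IsPGroup 2 ↥((Q.subgroupOf N).subgroupOf (R : Subgroup N) ⊓ center (R : Subgroup N)) :=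
      R.isPGroup'.to_subgroup _
    haveI : Nontrivial ↥((Q.subgroupOf N).subgroupOf (R : Subgroup N) ⊓ center (R : Subgroup N)) :=
      (Subgroup.nontrivial_iff_ne_bot _).mpr (PGroups.inf_center_ne_bot R.isPGroup' _ hne')
    obtain ⟨k, hk, hcard⟩ := hp.nontrivial_iff_card.mp inferInstance
    obtain ⟨x, hx⟩ := exists_prime_orderOf_dvd_card' 2 (hcard ▸ dvd_pow_self 2 hk.ne')
    refine ⟨(((x : (R : Subgroup N)) : N) : G), x.2.1, ?_, ⟨_, (x : (R : Subgroup N)).2, rfl⟩,
      fun r hr => ?_⟩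
    · rwa [Subgroup.orderOf_coe, Subgroup.orderOf_coe, Subgroup.orderOf_coe]
    · exact congrArg (fun c : (R : Subgroup N) => ((c : N) : G))
        (Subgroup.mem_center_iff.mp x.2.2 ⟨r, hr⟩)
  obtain ⟨S, hS⟩ := (R.isPGroup'.map N.subtype).exists_le_sylow
  have hSR : (S : Subgroup G) = (R : Subgroup N).map N.subtype := by
    by_contra hne'
    haveI : Group.IsNilpotent (S : Subgroup G) := S.isPGroup'.isNilpotent
    have hlt : ((R : Subgroup N).map N.subtype).subgroupOf (S : Subgroup G) < ⊤ :=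
      lt_top_iff_ne_top.mpr fun htop => hne' (le_antisymm (Subgroup.subgroupOf_eq_top.mp htop) hS)
    obtain ⟨n, hn, hnR⟩ := SetLike.exists_of_lt (Group.normalizerCondition_of_isNilpotent _ hlt)
    -- the normaliser lies in `N`
    have hn0 := Subgroup.mem_normalizer_iff.mp hn
    have hzn : (n : G) * z * (n : G)⁻¹ ∈ (R : Subgroup N).map N.subtype :=
      (hn0 ⟨z, hS hzmem⟩).mp hzmem
    have hnN : (n : G) ∈ N := hfix0 z hzQ hz2 n (map_subtype_le _ hzn)
    refine hnR ?_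
    have hbig : IsPGroup 2 ↥((R : Subgroup N) ⊔ zpowers (⟨n, hnN⟩ : N)) := by
      refine (S.isPGroup'.comap_subtype (K := N)).to_le (sup_le ?_ (zpowers_le.mpr n.2))
      exact fun r hr => hS ⟨r, hr, rfl⟩
    exact ⟨⟨n, hnN⟩, R.is_maximal' hbig le_sup_left ▸ mem_sup_right (mem_zpowers _), rfl⟩
  have hP : ∀ s ∈ S, Commute s z := fun s hs => by
    obtain ⟨r, hr, rfl⟩ := (hSR ▸ hs : s ∈ (R : Subgroup N).map N.subtype)
    exact hzR r hr
  suffices hset : Setting G (G ⧸ N) {a | orderOf a = 2 ∧ ∃ g : G, g⁻¹ * a * g ∈ Q} z by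
    refine ⟨z, hzQ, hz2, hset, clique_cosets hset fun A hA hcomm hAN g hg hg1 c hc => ?_⟩
    have hg2 : orderOf g = 2 := orderOf_eq_two_of_mul_self
      (mul_self_of_mem_closure (fun a ha => mul_self_of_orderOf_eq_two (hset.inv (hA ha))) hcomm hg)
      hg1
    have hgQ : g ∈ Q := (closure_le Q).mpr (fun a ha => hinQ (hA ha).1 (hA ha).2 (hAN ha)) hg
    refine hfix0 g hgQ hg2 c ?_
    rw [mem_centralizer_singleton_iff.mp hc, mul_inv_cancel_right]
    exact hQN hgQ
  refine setting_cosets (fun {a} ha g => ?_) (fun {a} ha => ha.1) (fun a ha => ?_) ?_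
    ⟨hz2, 1, by simpa using hzQ⟩ S hP hne ?_
  · obtain ⟨k, hk⟩ := ha.2
    exact ⟨by rw [H39.orderOf_conj, ha.1], g * k,
      by rwa [show (g * k)⁻¹ * (g * a * g⁻¹) * (g * k) = k⁻¹ * a * k by group]⟩
  · obtain ⟨k, hk⟩ := ha.2
    exact ⟨k, hQN hk⟩
  · rintro a ⟨ha2, hag⟩ haN g hg
    exact hfix0 a (hinQ ha2 hag haN) ha2 g hg
  · rintro a ⟨ha2, hag⟩ b ⟨hb2, hbg⟩ haN hbN hab hc
    have hab2 : orderOf (a * b) = 2 := by
      refine orderOf_eq_two_of_mul_self ?_ fun e => hab ?_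
      · rw [hc.symm.mul_mul_mul_comm, mul_self_of_orderOf_eq_two ha2, mul_self_of_orderOf_eq_two hb2,
          one_mul]
      · rw [eq_inv_of_mul_eq_one_left e, inv_eq_of_orderOf_eq_two hb2]
    have habQ := Q.mul_mem (hinQ ha2 hag haN) (hinQ hb2 hbg hbN)
    intro c hcc
    refine hfix0 (a * b) habQ hab2 c ?_
    rw [mem_centralizer_singleton_iff.mp hcc, mul_inv_cancel_right]
    exact hQN habQ

/-- Row 3121. -/
theorem row3121 (hcore : Core.{u}) (hcover : Cover.{u}) [Finite G]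
    (hF : IsSimpleGroup ↥(Cfsg.generalizedFittingSubgroup G))
    (hF' : ¬ IsMulCommutative ↥(Cfsg.generalizedFittingSubgroup G)) (Q : Subgroup G)
    (hQ : Cfsg.IsTightlyEmbedded Q)
    (hodd : ∀ g : G, g ∉ normalizer (Q : Set G) →
      Odd (Nat.card ↥(Q.map (MulAut.conj g).toMonoidHom ⊓ normalizer (Q : Set G)))) :
    Q.Normal ∨ ∃ M : Subgroup ↥(Cfsg.generalizedFittingSubgroup G), IsStronglyEmbedded M := by
  haveI : Fact (Nat.Prime 2) := ⟨Nat.prime_two⟩
  by_cases htop : normalizer (Q : Set G) = ⊤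
  · exact Or.inl (Subgroup.normalizer_eq_top_iff.mp htop)
  refine Or.inr ?_
  set F := Cfsg.generalizedFittingSubgroup G with hFdef
  set N := normalizer (Q : Set G)
  obtain ⟨z, hzQ, hz2, hset, hcl⟩ := setting_tightlyEmbedded hQ hodd htop
  set K := closure {a : G | orderOf a = 2 ∧ ∃ g : G, g⁻¹ * a * g ∈ Q}
  have hKn : K.Normal := ⟨fun x hx g => by
    induction hx using Subgroup.closure_induction with
    | mem y hy => exact subset_closure (hset.conj_mem hy g)
    | one => simp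
    | mul y w _ _ h1 h2 =>
      rw [show g * (y * w) * g⁻¹ = (g * y * g⁻¹) * (g * w * g⁻¹) by group]
      exact mul_mem h1 h2
    | inv y _ h1 =>
      rw [show g * y⁻¹ * g⁻¹ = (g * y * g⁻¹)⁻¹ by group]
      exact inv_mem h1⟩
  haveI hFn : F.Normal := (Subgroup.sup_normal (Cfsg.layer G) (Cfsg.fittingSubgroup G))
  haveI := hF
  haveI : (K.subgroupOf F).Normal := hKn.subgroupOf F
  have hcF : centralizer (F : Set G) = ⊥ := by
    refine le_bot_iff.mp fun c hc => ?_
    have hcF' : c ∈ F := Cfsg.Agent.S1265.result hc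
    have h0 : (⟨c, hcF'⟩ : F) ∈ center F := Subgroup.mem_center_iff.mpr fun g =>
      Subtype.ext (mem_centralizer_iff.mp hc g g.2)
    rcases (inferInstance : (center F).Normal).eq_bot_or_eq_top with h | h
    · rw [h, Subgroup.mem_bot] at h0
      exact congrArg Subtype.val h0
    · refine absurd ⟨⟨fun a b => ?_⟩⟩ hF'
      exact (Subgroup.mem_center_iff.mp (h ▸ mem_top b) a)
  have hFK : F ≤ K := by
    rcases (inferInstance : (K.subgroupOf F).Normal).eq_bot_or_eq_top with h | h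
    · exfalso
      have hd := Subgroup.subgroupOf_eq_bot.mp h
      have hcK : K ≤ centralizer (F : Set G) := fun k hk => mem_centralizer_iff.mpr fun f hf =>
        (Subgroup.commute_of_normal_of_disjoint K F hKn hFn hd k f hk hf).symm.eq
      rw [hcF] at hcK
      have h0 : z ∈ (⊥ : Subgroup G) := hcK (subset_closure hset.base)
      rw [Subgroup.mem_bot.mp h0, orderOf_one] at hz2
      exact absurd hz2 (by norm_num)
    · exact Subgroup.subgroupOf_eq_top.mp h
  have hQN : Q ≤ N := le_normalizer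
  have hFeven : Even (Nat.card F) := by
    by_contra hev
    rw [Nat.not_even_iff_odd] at hev
    have hsol : IsSolvable F := Cfsg.Agent.S0205.result hev
    exact hF' ⟨⟨fun a b => IsSimpleGroup.comm_iff_isSolvable.mpr hsol a b⟩⟩
  have hnF : ¬ F ≤ N := by
    intro hFN
    have hQn : (Q.subgroupOf F).Normal := ⟨fun a ha f => by
      rw [mem_subgroupOf] at ha ⊢
      exact (Subgroup.mem_normalizer_iff.mp (hFN f.2) _).mp ha⟩
    rcases hQn.eq_bot_or_eq_top with h | h
    · have hd := Subgroup.subgroupOf_eq_bot.mp h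
      have hcQ : Q ≤ centralizer (F : Set G) := fun q hq => mem_centralizer_iff.mpr fun f hf => by
        have hqQ : q * f * q⁻¹ * f⁻¹ ∈ Q := by
          rw [show q * f * q⁻¹ * f⁻¹ = q * (f * q⁻¹ * f⁻¹) by group]
          exact Q.mul_mem hq ((Subgroup.mem_normalizer_iff.mp (hFN hf) _).mp (Q.inv_mem hq))
        have h1 : q * f * q⁻¹ * f⁻¹ ∈ Q ⊓ F :=
          ⟨hqQ, F.mul_mem (hFn.conj_mem f hf q) (F.inv_mem hf)⟩
        rw [hd.eq_bot, Subgroup.mem_bot, mul_inv_eq_one, mul_inv_eq_iff_eq_mul] at h1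
        exact h1.symm
      rw [hcF] at hcQ
      rw [Subgroup.mem_bot.mp (hcQ hzQ), orderOf_one] at hz2
      exact absurd hz2 (by norm_num)
    · obtain ⟨g, -, hg⟩ := SetLike.exists_of_lt (lt_top_iff_ne_top.mpr htop)
      have hFQ : F ≤ Q := Subgroup.subgroupOf_eq_top.mp h
      have hodd' := hQ.2 g hg
      obtain ⟨f, hf⟩ := exists_prime_orderOf_dvd_card' 2 (hFeven.two_dvd)
      have hmem : (f : G) ∈ Q ⊓ Q.map (MulAut.conj g).toMonoidHom :=
        ⟨hFQ f.2, ⟨g⁻¹ * f * g, hFQ (by simpa using hFn.conj_mem _ f.2 g⁻¹), by simp [mul_assoc]⟩⟩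
      have h2 := hodd'.of_dvd_nat (Subgroup.orderOf_dvd_natCard _ hmem)
      rw [Subgroup.orderOf_coe, hf] at h2
      exact absurd h2 (by decide)
  -- an involution of `F` fixing the base point
  obtain ⟨f, hfF, hfN, hf2⟩ : ∃ f ∈ F, f ∈ N ∧ orderOf f = 2 := by
    have h2 : Even (Nat.card F) := hFeven
    obtain ⟨⟨f, hf⟩, hf2⟩ := exists_prime_orderOf_dvd_card' 2 h2.two_dvd
    rw [Subgroup.orderOf_mk] at hf2
    obtain ⟨p, hp⟩ := exists_fixed_of_odd (f := fun p : G ⧸ N => f • p) (fun p => by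
      show f • f • p = p
      rw [← mul_smul, mul_self_of_orderOf_eq_two hf2, one_smul]) hset.odd_points
    obtain ⟨g, rfl⟩ := QuotientGroup.mk_surjective p
    exact ⟨g⁻¹ * f * g, by simpa using hFn.conj_mem f hf g⁻¹, (smul_coset_eq_iff f g).mp hp,
      by rw [show g⁻¹ * f * g = g⁻¹ * f * g⁻¹⁻¹ by rw [inv_inv], H39.orderOf_conj, hf2]⟩
  exact ⟨_, stronglyEmbedded_of_noBad hfF hfN hf2 hnF fun t ht ht2 x y hx hy =>
    hset.noBad hcore hcover hcl (hFK ht) ht2 hx hy⟩

end Cfsg.Agent.H1.Asch.Red
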