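import Cfsg.Agent.H1.Asch.RedRows
import Cfsg.Agent.H1.Asch.ClosedSub
import Cfsg.Agent.H1.Asch.Cover

/-!
# Row 1911

A tightly embedded subgroup with odd meets: its normal closure has no involution fixing two cosets
of the normaliser, from the criterion for faithful actions.
-/

set_option autoImplicit false
set_option linter.style.haveILetI false

namespace Cfsg.Agent.H1.Asch.Red

open Subgroup MulAction
open Cfsg.Agent.H39

universe u

/-- A Sylow 2-subgroup centralising an element with a class of odd size. -/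
theorem exists_sylow_commute {G : Type u} [Group G] [Finite G] {z : G}
    (hodd : Odd (Nat.card (conjugatesOf z))) (hz : orderOf z = 2) :
    ∃ P : Sylow 2 G, z ∈ (P : Subgroup G) ∧ ∀ s ∈ (P : Subgroup G), Commute s z := by
  haveI : Fact (Nat.Prime 2) := ⟨Nat.prime_two⟩
  obtain ⟨S⟩ : Nonempty (Sylow 2 G) := inferInstance
  letI : MulAction (S : Subgroup G) (conjugatesOf z) :=
    { smul := fun s d => ⟨(s : G) * d.1 * (s : G)⁻¹,
        (show IsConj z d.1 from d.2).trans (isConj_iff.mpr ⟨(s : G), rfl⟩)⟩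
      one_smul := fun d => Subtype.ext (by
        show ((1 : (S : Subgroup G)) : G) * d.1 * ((1 : (S : Subgroup G)) : G)⁻¹ = d.1
        simp)
      mul_smul := fun s t d => Subtype.ext (by
        show ((s * t : (S : Subgroup G)) : G) * d.1 * ((s * t : (S : Subgroup G)) : G)⁻¹ =
          (s : G) * ((t : G) * d.1 * (t : G)⁻¹) * (s : G)⁻¹
        simp [mul_assoc]) }
  obtain ⟨⟨d, hd⟩, hdfix⟩ := S.isPGroup'.nonempty_fixed_point_of_prime_not_dvd_card (conjugatesOf z)
    hodd.not_two_dvd_nat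
  obtain ⟨g, rfl⟩ := isConj_iff.mp hd
  have hP : ∀ s ∈ ((g⁻¹ • S : Sylow 2 G) : Subgroup G), Commute s z := fun s hs => by
    rw [Sylow.coe_subgroup_smul] at hs
    obtain ⟨t, ht, rfl⟩ := hs
    have h1 := ((show Commute t (g * z * g⁻¹) from mul_inv_eq_iff_eq_mul.mp
      (congrArg Subtype.val (hdfix ⟨t, ht⟩))).map (MulAut.conj g⁻¹).toMonoidHom)
    simp only [MulEquiv.coe_toMonoidHom, MulAut.conj_apply] at h1
    rwa [show g⁻¹ * (g * z * g⁻¹) * g⁻¹⁻¹ = z by group] at h1
  set P := g⁻¹ • S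
  refine ⟨P, ?_, hP⟩
  have hp : IsPGroup 2 ↥((P : Subgroup G) ⊔ zpowers z) := by
    refine P.isPGroup'.to_sup_of_normal_left' (IsPGroup.of_card (n := 1) (by
      rw [Nat.card_zpowers, hz]; rfl)) (zpowers_le.mpr (mem_normalizer_iff.mpr fun s => ?_))
    constructor
    · intro hs; rwa [← (hP s hs).eq, mul_inv_cancel_right]
    · intro hs
      have h1 := hP _ hs
      have h2 : z * (z * s * z⁻¹) * z⁻¹ = z * s * z⁻¹ := by rw [← h1.eq, mul_inv_cancel_right]
      rwa [show z * s * z⁻¹ = s from mul_left_cancel (mul_right_cancel h2)] at hs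
  exact P.is_maximal' hp le_sup_left ▸ mem_sup_right (mem_zpowers z)

/-- Without a four-group in `K`, the conjugates of a central involution generate modulo the odd
core only itself. -/
theorem le_oddCore_sup_of_no_four {G : Type u} [Group G] [Finite G] {I : Set G} {z : G}
    (hodd : Odd (Nat.card (conjugatesOf z))) (hz : orderOf z = 2)
    (hI : ∀ a ∈ I, IsConj z a) (hzI : ∀ g : G, g * z * g⁻¹ ∈ I)
    (hno : ∀ a ∈ I, ∀ b ∈ I, Commute a b → a = b) :
    closure I ≤ Cfsg.oddCore G ⊔ zpowers z := by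
  haveI : (Cfsg.oddCore G).Characteristic := Cores.pPrimeCore_characteristic
  obtain ⟨P, hzP, hP⟩ := exists_sylow_commute hodd hz
  have hZ := Cores.glaubermanZStar P hz hzP fun g hg =>
    hno _ (hzI g) z (by simpa using hzI 1) (hP _ hg)
  rw [closure_le]
  intro a ha
  obtain ⟨g, rfl⟩ := isConj_iff.mp (hI a ha)
  have h1 := hZ g
  rw [inv_eq_of_orderOf_eq_two hz] at h1
  rw [show g * z * g⁻¹ = z * (z * g * z * g⁻¹) by
    simp only [← mul_assoc, mul_self_of_orderOf_eq_two hz, one_mul]]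
  exact mul_mem (mem_sup_right (mem_zpowers z)) (mem_sup_left h1)

/-- An element congruent to an involution modulo a normal subgroup has a power of two order
congruent to it. -/
theorem exists_two_part {G : Type u} [Group G] [Finite G] {O : Subgroup G} {Q : Subgroup G}
    {q : G} (hq : q ∈ Q) (hqq : q * q ∈ O) :
    ∃ x ∈ Q, (∃ k : ℕ, orderOf x = 2 ^ k) ∧ q⁻¹ * x ∈ O := by
  obtain ⟨k, o, ho, hko⟩ := Nat.exists_eq_two_pow_mul_odd (orderOf_pos q).ne'
  refine ⟨q ^ o, Q.pow_mem hq o, ⟨k, ?_⟩, ?_⟩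
  · rw [orderOf_pow_of_dvd (by rintro rfl; exact absurd ho (by decide)) (hko ▸ dvd_mul_left o _),
      hko, Nat.mul_div_cancel _ ho.pos]
  · obtain ⟨l, rfl⟩ := ho
    rw [pow_succ', inv_mul_cancel_left, pow_mul, pow_two]
    exact O.pow_mem hqq l

/-- Row 1911. -/
theorem row1911 (hcore : Core.{u}) {G : Type u} [Group G] [Finite G] (Q : Subgroup G)
    (hQ : Cfsg.IsTightlyEmbedded Q)
    (hodd : ∀ g : G, g ∉ normalizer (Q : Set G) →
      Odd (Nat.card ↥(Q.map (MulAut.conj g).toMonoidHom ⊓ normalizer (Q : Set G)))) :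
    Q.Normal ∨ Cfsg.IsStronglyEmbedded
      ((normalizer (Q : Set G)).subgroupOf (normalClosure (Q : Set G))) := by
  classical
  haveI : Fact (Nat.Prime 2) := ⟨Nat.prime_two⟩
  by_cases htop : normalizer (Q : Set G) = ⊤
  · exact Or.inl (Subgroup.normalizer_eq_top_iff.mp htop)
  refine Or.inr ?_
  obtain ⟨z, hzQ, hz2, hset, hcl⟩ := setting_tightlyEmbedded hQ hodd htop
  set N := normalizer (Q : Set G) with hN
  set I := {a : G | orderOf a = 2 ∧ ∃ g : G, g⁻¹ * a * g ∈ Q}
  set K₀ := closure I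
  have hQN : Q ≤ N := le_normalizer
  have hK₀ : K₀.Normal := ⟨fun x hx g => by
    induction hx using Subgroup.closure_induction with
    | mem y hy => exact subset_closure (hset.conj_mem hy g)
    | one => simp
    | mul y w _ _ h1 h2 =>
      rw [show g * (y * w) * g⁻¹ = (g * y * g⁻¹) * (g * w * g⁻¹) by group]
      exact mul_mem h1 h2
    | inv y _ h1 =>
      rw [show g * y⁻¹ * g⁻¹ = (g * y * g⁻¹)⁻¹ by group]
      exact inv_mem h1⟩
  haveI := hK₀
  have hnb : ∀ t ∈ K₀, orderOf t = 2 → ∀ x y : G ⧸ N, t • x = x → t • y = y → x = y :=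
    fun t ht ht2 x y hx hy => hset.noBad hcore cover hcl ht ht2 hx hy
  have htr : ∀ x y : G ⧸ N, ∃ k ∈ K₀, k • x = y := fun x y => by
    by_cases hxy : x = y
    · exact ⟨1, one_mem _, by rw [one_smul, hxy]⟩
    obtain ⟨d, hd, hdx⟩ := hset.exists_at x
    obtain ⟨e, he, hey⟩ := hset.exists_at y
    obtain ⟨k, hk, -, hkx⟩ := hset.exists_conj_at hd he hdx hey hxy
      (subset_closure (hset.subset hd)) (subset_closure (hset.subset he))
    exact ⟨k, hk, hkx⟩
  have hconj : ∀ {t : G}, t ∈ K₀ → orderOf t = 2 → IsConj z t := fun {t} ht ht2 => by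
    obtain ⟨k, -, hk⟩ := exists_conj_of_nobad hnb htr hset.exists_ne hset.odd_points
      (subset_closure hset.base) hz2 ht ht2
    exact isConj_iff.mpr ⟨k, hk⟩
  have hzI : ∀ g : G, g * z * g⁻¹ ∈ I := fun g => hset.conj_mem hset.base g
  have hmove : ∀ x ∈ Q, (∃ k : ℕ, orderOf x = 2 ^ k) → x ≠ 1 → ∀ g : G, g * x * g⁻¹ ∈ N → g ∈ N := by
    rintro x hx ⟨k, hk⟩ hx1 g hg
    by_contra hgN
    have h2 := (hodd g hgN).of_dvd_nat (Subgroup.orderOf_dvd_natCard _
      (show g * x * g⁻¹ ∈ Q.map (MulAut.conj g).toMonoidHom ⊓ N from ⟨⟨x, hx, by simp⟩, hg⟩))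
    rw [H39.orderOf_conj, hk] at h2
    rcases k with _ | k
    · exact hx1 (orderOf_eq_one_iff.mp hk)
    · exact absurd h2 (by rw [Nat.not_odd_iff_even, pow_succ]; exact even_two.mul_left _)
  -- the normal closure lies in `K₀ ⊔ Q`
  have hsupn : (K₀ ⊔ Q).Normal := by
    refine ⟨fun x hx g => ?_⟩
    obtain ⟨k₀, hk₀, q, hq, rfl⟩ := mem_sup_of_normal_left.mp hx
    obtain ⟨k, hk, hkg⟩ := htr (QuotientGroup.mk 1) (QuotientGroup.mk g)
    have hn : k⁻¹ * g ∈ N := QuotientGroup.eq.mp (by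
      rw [← hkg, MulAction.Quotient.smul_coe, smul_eq_mul, mul_one])
    have hq' : k⁻¹ * g * q * (k⁻¹ * g)⁻¹ ∈ Q := (mem_normalizer_iff.mp hn q).mp hq
    rw [show g * (k₀ * q) * g⁻¹ = (g * k₀ * g⁻¹) * k *
      ((k⁻¹ * g * q * (k⁻¹ * g)⁻¹) * k⁻¹ * (k⁻¹ * g * q * (k⁻¹ * g)⁻¹)⁻¹) *
      (k⁻¹ * g * q * (k⁻¹ * g)⁻¹) by group]
    exact mul_mem (mem_sup_left (mul_mem (mul_mem (hK₀.conj_mem _ hk₀ g) hk)
      (hK₀.conj_mem _ (inv_mem hk) _))) (mem_sup_right hq')
  haveI := hsupn
  have hKle : normalClosure (Q : Set G) ≤ K₀ ⊔ Q :=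
    normalClosure_le_normal fun x hx => mem_sup_right hx
  -- the involutions of the normal closure lie in `K₀`
  have hinvK : ∀ t ∈ normalClosure (Q : Set G), orderOf t = 2 → t ∈ K₀ := by
    intro t ht ht2
    obtain ⟨k, hk, q, hq, hkq⟩ := mem_sup_of_normal_left.mp (hKle ht)
    by_cases hfour : ∃ i ∈ K₀, ∃ j ∈ K₀, orderOf i = 2 ∧ orderOf j = 2 ∧ i ≠ j ∧ Commute i j
    · have hqq : q * q ∈ K₀ := by
        rw [show q = k⁻¹ * t by rw [← hkq, inv_mul_cancel_left],
          show k⁻¹ * t * (k⁻¹ * t) = k⁻¹ * (t * k⁻¹ * t⁻¹) * (t * t) by group,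
          mul_self_of_orderOf_eq_two ht2, mul_one]
        exact mul_mem (inv_mem hk) (hK₀.conj_mem _ (inv_mem hk) t)
      obtain ⟨x, hx, ⟨m, hm⟩, hqx⟩ := exists_two_part hq hqq
      -- a Sylow subgroup at the base point
      obtain ⟨P⟩ : Nonempty (Sylow 2 G) := inferInstance
      obtain ⟨b, hb⟩ := P.isPGroup'.nonempty_fixed_point_of_prime_not_dvd_card (G ⧸ N)
        hset.odd_points.not_two_dvd_nat
      obtain ⟨g, hg⟩ := MulAction.exists_smul_eq G b (QuotientGroup.mk 1)
      set T : Sylow 2 G := g • P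
      have hfix : ∀ y ∈ (T : Subgroup G), y • (QuotientGroup.mk 1 : G ⧸ N) = QuotientGroup.mk 1 :=
        fun y hy => by
          rw [Sylow.coe_subgroup_smul] at hy
          obtain ⟨s, hs, rfl⟩ := hy
          show (g * s * g⁻¹) • _ = _
          rw [← hg]
          exact H73.Bender.conj_smul_of_smul (hb ⟨s, hs⟩)
      have hTN : (T : Subgroup G) ≤ N := fun y hy => (fixed_one_iff y).mp (hfix y hy)
      have C : ClosedCtx G (G ⧸ N) K₀ T (Q ⊓ T) (QuotientGroup.mk 1) :=
        { normal := hK₀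
          closed := ⟨inf_le_right, fun s hs y hy => by
            by_cases hs1 : s = 1
            · rw [hs1, mul_one, mul_inv_cancel]; exact one_mem _
            obtain ⟨n, hn⟩ := IsPGroup.iff_orderOf.mp T.isPGroup' ⟨s, hs.2⟩
            rw [Subgroup.orderOf_mk] at hn
            exact ⟨(mem_normalizer_iff.mp (hmove s hs.1 ⟨n, hn⟩ hs1 y (hTN hy)) s).mp hs.1, hy⟩⟩
          nobad := hnb
          trans := htr
          fixT := hfix
          exists_ne := hset.exists_ne
          invMem := fun s hs hs2 => subset_closure ⟨hs2, 1, by simpa using hs.1⟩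
          inv_S := fun s hsT hsK hs2 => by
            obtain ⟨c, hc⟩ := isConj_iff.mp (hconj hsK hs2)
            have hcN : c ∈ N := hmove z hzQ ⟨1, by rw [hz2, pow_one]⟩
              (fun e => by rw [e, orderOf_one] at hz2; exact absurd hz2 (by norm_num)) c
              (hc ▸ hTN hsT)
            exact ⟨hc ▸ (mem_normalizer_iff.mp hcN z).mp hzQ, hsT⟩
          four := hfour }
      have hSK : Q ⊓ T ≤ K₀ := C.le_normal hset.odd_points
      -- move `x` into `T`
      have hxp : IsPGroup 2 (zpowers x) :=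
        IsPGroup.of_card (n := m) (by rw [Nat.card_zpowers, hm])
      obtain ⟨R, hR⟩ := (hxp.comap_subtype (K := N)).exists_le_sylow
      obtain ⟨n, hn⟩ := exists_smul_eq N R (T.subtype hTN)
      have hmem : n * ⟨x, hQN hx⟩ * n⁻¹ ∈ ((n • R : Sylow 2 N) : Subgroup N) := by
        rw [Sylow.coe_subgroup_smul]
        exact ⟨⟨x, hQN hx⟩, hR (mem_zpowers x), rfl⟩
      rw [hn, Sylow.coe_subtype, mem_subgroupOf] at hmem
      have hxK : x ∈ K₀ := by
        have h1 := hK₀.conj_mem _ (hSK ⟨(mem_normalizer_iff.mp n.2 x).mp hx, hmem⟩) (n : G)⁻¹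
        simpa [mul_assoc] using h1
      rw [← hkq]
      refine mul_mem hk ?_
      rw [show q = x * (q⁻¹ * x)⁻¹ by group]
      exact mul_mem hxK (inv_mem hqx)
    · -- the members are isolated
      push Not at hfour
      haveI : (Cfsg.oddCore G).Characteristic := Cores.pPrimeCore_characteristic
      set O := Cfsg.oddCore G
      have hle : K₀ ≤ O ⊔ zpowers z :=
        le_oddCore_sup_of_no_four hset.odd_class hz2
          (fun a ha => hconj (subset_closure ha) ha.1) hzI fun a ha b hb hc => by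
            by_contra hne
            exact hfour a (subset_closure ha) b (subset_closure hb) ha.1 hb.1 hne hc
      have hle' : K₀ ⊔ Q ≤ O ⊔ Q :=
        sup_le (hle.trans (sup_le le_sup_left ((zpowers_le.mpr hzQ).trans le_sup_right)))
          le_sup_right
      obtain ⟨o, ho, q', hq', hoq⟩ := mem_sup_of_normal_left.mp (hle' (hKle ht))
      have hqq : q' * q' ∈ O := by
        rw [show q' = o⁻¹ * t by rw [← hoq, inv_mul_cancel_left],
          show o⁻¹ * t * (o⁻¹ * t) = o⁻¹ * (t * o⁻¹ * t⁻¹) * (t * t) by group,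
          mul_self_of_orderOf_eq_two ht2, mul_one]
        exact mul_mem (inv_mem ho) (Subgroup.Normal.conj_mem inferInstance _ (inv_mem ho) t)
      obtain ⟨x, hx, ⟨m, hm⟩, hqx⟩ := exists_two_part hq' hqq
      have hOodd : Odd (Nat.card O) := Cores.odd_card_oddCore
      have hxx : x * x ∈ O := by
        rw [show x * x = q' * (q'⁻¹ * x) * q'⁻¹ * (q' * q') * (q'⁻¹ * x) by group]
        exact mul_mem (mul_mem (Subgroup.Normal.conj_mem inferInstance _ hqx q') hqq) hqx
      have hxx1 : x * x = 1 := by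
        have hd : orderOf (x * x) ∣ 2 ^ m := by
          rw [← pow_two, ← hm]; exact orderOf_pow_dvd 2
        obtain ⟨l, -, hl⟩ := (Nat.dvd_prime_pow Nat.prime_two).mp hd
        have h1 := hOodd.of_dvd_nat (Subgroup.orderOf_dvd_natCard _ hxx)
        rw [hl] at h1
        rcases l with _ | l
        · exact orderOf_eq_one_iff.mp hl
        · exact absurd h1 (by rw [Nat.not_odd_iff_even, pow_succ]; exact even_two.mul_left _)
      have htx : t * x ∈ O := by
        have h1 : x⁻¹ = x := inv_eq_of_mul_eq_one_right hxx1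
        have e : t * x = o * (q' * (q'⁻¹ * x) * q'⁻¹)⁻¹ := by
          rw [← hoq]
          conv_lhs => rw [← h1]
          group
        rw [e]
        exact mul_mem ho (inv_mem (Subgroup.Normal.conj_mem inferInstance _ hqx q'))
      by_cases hx1 : x = 1
      · rw [hx1, mul_one] at htx
        have h1 := hOodd.of_dvd_nat (Subgroup.orderOf_dvd_natCard _ htx)
        rw [ht2] at h1
        exact absurd h1 (by decide)
      have hx2 := orderOf_eq_two_of_mul_self hxx1 hx1
      obtain ⟨c, -, -, -, hc⟩ := exists_conj_of_odd hx2 ht2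
        (hOodd.of_dvd_nat (Subgroup.orderOf_dvd_natCard _ htx))
      exact hc ▸ hK₀.conj_mem _ (subset_closure ⟨hx2, 1, by simpa using hx⟩) c
  refine stronglyEmbedded_of_noBad (H := N) (z := z) (subset_normalClosure hzQ) (hQN hzQ) hz2
    (fun hle => ?_) fun t ht ht2 x y hx hy => hnb t (hinvK t ht ht2) ht2 x y hx hy
  obtain ⟨g, -, hg⟩ := SetLike.exists_of_lt (lt_top_iff_ne_top.mpr htop)
  have hz' : g * z * g⁻¹ ∈ N := hle (normalClosure_normal.conj_mem z (subset_normalClosure hzQ) g)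
  exact hg (hmove z hzQ ⟨1, by rw [hz2, pow_one]⟩
    (fun e => by rw [e, orderOf_one] at hz2; exact absurd hz2 (by norm_num)) g hz')

end Cfsg.Agent.H1.Asch.Red
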