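import Cfsg.Agent.H1.Asch.Clique

/-!
# The criterion for involutions with a single fixed point

By induction on the order: in a `Setting` no involution of the group generated by the distinguished
involutions fixes two points, granted the criterion for faithful actions and `Cover`, which excludes
a central involution fixing all points when the group modulo it has no further such involution.
-/

set_option autoImplicit false
set_option linter.style.haveILetI false

namespace Cfsg.Agent.H1.Asch.Red

open Subgroup MulAction
open Cfsg.Agent.H39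
open Cfsg.Agent.H73.Bender (SE)
open Cfsg.Agent.H14.Asch

universe u

/-- No central involution fixes all points and is the only involution fixing two. -/
def Cover : Prop :=
  ∀ (G : Type u) [Group G] [Finite G] (Ω : Type u) [MulAction G Ω] [Finite Ω] (z w : G),
    Setting G Ω (conjugatesOf z) z → Clique G Ω (conjugatesOf z) →
      closure (conjugatesOf z) = ⊤ → orderOf w = 2 →
      (∀ g : G, Commute g w) → (∀ p : Ω, w • p = p) →
        (∀ t : G, t ∉ zpowers w → t * t ∈ zpowers w →
          ∀ p q : Ω, t • p = p → t • q = q → p = q) → False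

/-- The conclusion for all groups of order below `n`. -/
def NoBadBelow (n : ℕ) : Prop :=
  ∀ (G : Type u) [Group G] [Finite G] (Ω : Type u) [MulAction G Ω] [Finite Ω] (I : Set G) (z : G),
    Nat.card G < n → Setting G Ω I z → Clique G Ω I → ∀ t ∈ closure I, orderOf t = 2 →
      ∀ x y : Ω, t • x = x → t • y = y → x = y

theorem card_lt_of_ne_top {G : Type u} [Group G] [Finite G] {S : Subgroup G} (hS : S ≠ ⊤) :
    Nat.card S < Nat.card G :=
  lt_of_le_of_ne S.card_le_card_group fun h => hS (Subgroup.eq_top_of_card_eq S h)

namespace Setting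

variable {G : Type u} [Group G] [Finite G] {Ω : Type u} [MulAction G Ω] [Finite Ω] {I : Set G}
  {z : G}

theorem odd_points (h : Setting G Ω I z) : Odd (Nat.card Ω) := by
  obtain ⟨p, hp, hu⟩ := h.unique h.base
  exact odd_card_of_unique_fixed (f := fun q : Ω => z • q) (fun q => by
    show z • z • q = q
    rw [← mul_smul, mul_self_of_orderOf_eq_two (h.inv h.base), one_smul]) hp hu

/-- The distinguished involutions in a proper subgroup of the centraliser of `w` generate no
involution with two fixed points among those of `w`. -/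
theorem eq_of_mem_sub (h : Setting G Ω I z) (hcl : Clique G Ω I) (hIH : NoBadBelow.{u} (Nat.card G)) {w : G}
    (hw : w * w = 1) {S : Subgroup G} (hne : S ≠ ⊤) (hS : ∀ s ∈ S, Commute s w)
    (hD : ∀ d ∈ conjugatesOf z, Commute d w → d ∈ S) {t : G}
    (htI : t ∈ closure (I ∩ (S : Set G))) (ht : orderOf t = 2) {x y : Ω} (hx : w • x = x)
    (hy : w • y = y) (htx : t • x = x) (hty : t • y = y) : x = y := by
  by_contra hxy
  letI : MulAction S (fixedBy Ω w) :=
    { smul := fun s p => ⟨(s : G) • p.1, by
        show w • (s : G) • p.1 = (s : G) • p.1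
        rw [← mul_smul, ← (hS s s.2).eq, mul_smul, show w • p.1 = p.1 from p.2]⟩
      one_smul := fun p => Subtype.ext (one_smul G p.1)
      mul_smul := fun s s' p => Subtype.ext (mul_smul (s : G) (s' : G) p.1) }
  obtain ⟨z', -, -, hset⟩ := h.restrict hw S hS hD (fun _ _ => rfl) hxy hx hy
  have htmem : t ∈ (closure (Subtype.val ⁻¹' I : Set S)).map S.subtype := by
    rw [MonoidHom.map_closure]
    exact closure_mono (fun a ha => show a ∈ S.subtype '' (Subtype.val ⁻¹' I : Set S) from
      ⟨⟨a, ha.2⟩, ha.1, rfl⟩) htI
  obtain ⟨t', ht', rfl⟩ := htmem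
  refine hxy (congrArg Subtype.val (hIH S (fixedBy Ω w) _ z' (card_lt_of_ne_top hne) hset
    (hcl.restrict S fun _ _ => rfl) t' ht'
    ((Subgroup.orderOf_coe t').symm.trans ht) ⟨x, hx⟩ ⟨y, hy⟩ (Subtype.ext htx) (Subtype.ext hty)))

/-- A central involution fixing a point fixes all. -/
theorem fix_all (h : Setting G Ω I z) {w : G} (hc : ∀ g : G, Commute g w) {x : Ω} (hx : w • x = x)
    (p : Ω) : w • p = p := by
  haveI := h.trans
  obtain ⟨g, rfl⟩ := exists_smul_eq G x p
  rw [← mul_smul, ← (hc g).eq, mul_smul, hx]

omit [Finite G] [Finite Ω] in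
theorem centralizer_ne_top {w : G} (hnc : ¬ ∀ g : G, Commute g w) :
    centralizer ({w} : Set G) ≠ ⊤ := fun htop =>
  hnc fun g => mem_centralizer_singleton_iff.mp (htop ▸ mem_top g)

/-- Without central involutions fixing two points, the members satisfy `Pre`. -/
theorem pre (h : Setting G Ω I z) (hcl : Clique G Ω I) (hIH : NoBadBelow.{u} (Nat.card G))
    (hnc : ∀ (w : G), orderOf w = 2 → ∀ x y : Ω, x ≠ y → w • x = x → w • y = y →
      ¬ ∀ g : G, Commute g w) :
    Pre G Ω (conjugatesOf z) where
  conj_mem hd g := h.conj_conj hd g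
  isConj {d e} hd he := isConj_iff.mp ((show IsConj z d from hd).symm.trans he)
  nonempty := ⟨z, mem_conjugatesOf_self⟩
  inv hd := h.inv (h.subset hd)
  unique hd := h.unique (h.subset hd)
  comm {t p} ht hp := h.exists_commute_at (mul_self_of_orderOf_eq_two ht) hp
  trans := h.trans
  exists_ne := h.exists_ne
  line {w x y} hw hxy hx hy := by
    have hww := mul_self_of_orderOf_eq_two hw
    have hLw : ∀ l ∈ lineGroup (conjugatesOf z) w, Commute l w := fun l hl =>
      commute_of_mem_lineGroup hl
    have hfix : ∀ {l : G}, l ∈ lineGroup (conjugatesOf z) w → ∀ {p : Ω}, w • p = p →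
        w • l • p = l • p := fun {l} hl {p} hp => by
      rw [← mul_smul, ← (hLw l hl).eq, mul_smul, hp]
    refine
      { smul_mem := fun {l} hl {p} hp => hfix hl hp
        trans := fun {p q} hp hq => ?_
        exists_fix := fun {t} ht ht2 => ?_
        fix_unique := fun {t} ht ht2 {p q} hp hq h1 h2 => ?_
        exists_ne := ⟨x, hx, y, hy, hxy⟩
        exists_inv := ?_ }
    · by_cases hpq : p = q
      · exact ⟨1, one_mem _, by rw [one_smul, hpq]⟩
      obtain ⟨d, hd, hdp, hdc⟩ := h.exists_commute_at hww (show w • p = p from hp)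
      obtain ⟨e, he, heq, hec⟩ := h.exists_commute_at hww (show w • q = q from hq)
      obtain ⟨k, hk, -, hkp⟩ := h.exists_conj_at hd he hdp heq hpq
        (mem_lineGroup hd hdc.symm) (mem_lineGroup he hec.symm)
      exact ⟨k, hk, hkp⟩
    · have hodd : Odd (Nat.card (fixedBy Ω w)) := by
        classical
        haveI := Fintype.ofFinite Ω
        let f : Function.End Ω := fun p => w • p
        have hf : f ^ 2 ^ 1 = 1 := by
          rw [pow_one, pow_two]
          funext p
          show w • w • p = p
          rw [← mul_smul, hww, one_smul]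
        have h' := Equiv.Perm.card_fixedPoints_modEq (p := 2) hf
        have ho := h.odd_points
        rw [Nat.card_eq_fintype_card, Nat.odd_iff] at ho
        unfold Nat.ModEq at h'
        rw [ho, ← Nat.card_eq_fintype_card] at h'
        exact Nat.odd_iff.mpr h'.symm
      obtain ⟨⟨p, hp⟩, hpf⟩ := exists_fixed_of_odd
        (f := fun p : fixedBy Ω w => (⟨t • p.1, hfix ht p.2⟩ : fixedBy Ω w)) (fun p => Subtype.ext (by
          show t • t • p.1 = p.1
          rw [← mul_smul, mul_self_of_orderOf_eq_two ht2, one_smul])) hodd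
      exact ⟨p, hp, congrArg Subtype.val hpf⟩
    · refine h.eq_of_mem_sub hcl hIH hww (centralizer_ne_top (hnc w hw x y hxy hx hy))
        (fun s hs => mem_centralizer_singleton_iff.mp hs)
        (fun d _ hd => mem_centralizer_singleton_iff.mpr hd.eq) ?_ ht2 hp hq h1 h2
      exact closure_mono (Set.inter_subset_inter_left _ fun d hd => h.subset hd) ht
    · obtain ⟨d, hd, -, hdc⟩ := h.exists_commute_at hww hx
      exact ⟨d, mem_lineGroup hd hdc.symm, h.inv (h.subset hd)⟩

end Setting

theorem noBadBelow (hcore : Core.{u}) (hcover : Cover.{u}) : ∀ n : ℕ, NoBadBelow.{u} n := by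
  intro n
  induction n with
  | zero => intro G _ _ Ω _ _ I z hn; exact absurd hn (Nat.not_lt_zero _)
  | succ n ih =>
    intro G _ _ Ω _ _ I z hn h hcl t htI ht x y htx hty
    have hIH : NoBadBelow.{u} (Nat.card G) := fun G' _ _ Ω' _ _ I' z' hlt =>
      ih G' Ω' I' z' (by omega)
    by_cases htop : closure I = ⊤
    swap
    · exact h.eq_of_mem_sub hcl hIH (w := 1) (mul_one 1) htop (fun s _ => Commute.one_right s)
        (fun d hd _ => subset_closure (h.subset hd))
        (closure_mono (Set.subset_inter (le_refl I) subset_closure) htI) ht (one_smul G x)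
        (one_smul G y) htx hty
    by_contra hxy
    by_cases hcen : ∃ w : G, orderOf w = 2 ∧ ∃ p q : Ω, p ≠ q ∧ w • p = p ∧ w • q = q ∧
        ∀ g : G, Commute g w
    · obtain ⟨w, hw, p, -, -, hwp, -, hc⟩ := hcen
      have hall := h.fix_all hc hwp
      haveI : (zpowers w).Normal := ⟨fun a ha g => by
        obtain ⟨i, rfl⟩ := ha
        rw [((hc g).zpow_right i).eq, mul_inv_cancel_right]
        exact ⟨i, rfl⟩⟩
      let ρ : G ⧸ zpowers w →* Equiv.Perm Ω := QuotientGroup.lift (zpowers w) (toPermHom G Ω)
        (zpowers_le.mpr (MonoidHom.mem_ker.mpr (Equiv.ext hall)))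
      letI : MulAction (G ⧸ zpowers w) Ω := MulAction.compHom Ω ρ
      have hq := h.quotient (w := w) hc hw hall (fun g p => rfl)
      have hqc := h.clique_quotient (w := w) hcl hc hw hall (fun g p => rfl)
      have hlt : Nat.card (G ⧸ zpowers w) < Nat.card G := by
        rw [Subgroup.card_eq_card_quotient_mul_card_subgroup (zpowers w), Nat.card_zpowers, hw]
        have := Nat.card_pos (α := G ⧸ zpowers w)
        omega
      have himg : closure (QuotientGroup.mk '' I : Set (G ⧸ zpowers w)) = ⊤ := by
        rw [show (QuotientGroup.mk : G → G ⧸ zpowers w) = QuotientGroup.mk' (zpowers w) from rfl,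
          ← MonoidHom.map_closure, htop]
        exact Subgroup.map_top_of_surjective _ (QuotientGroup.mk'_surjective _)
      have hmem : ∀ {g : G}, g ∈ zpowers w → g = 1 ∨ g = w := fun hg => mem_zpowers_two hw hg
      have honly : ∀ s : G, s ∉ zpowers w → s * s ∈ zpowers w →
          ∀ p q : Ω, s • p = p → s • q = q → p = q := by
        intro s hsw hss p q hsp hsq
        refine hIH _ Ω _ _ hlt hq hqc (s : G ⧸ zpowers w) (himg ▸ mem_top _) ?_ p q hsp hsq
        refine orderOf_eq_two_of_mul_self ?_ fun h1 => hsw ((QuotientGroup.eq_one_iff s).mp h1)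
        rw [← QuotientGroup.mk_mul]
        exact (QuotientGroup.eq_one_iff _).mpr hss
      -- every distinguished involution is a member
      have hID : ∀ a ∈ I, a ∈ conjugatesOf z := by
        intro a ha
        obtain ⟨p, hp, -⟩ := h.unique ha
        obtain ⟨q, hqp⟩ : ∃ q : Ω, q ≠ p := by
          by_cases e : x = p
          exacts [⟨y, fun e' => hxy (e.trans e'.symm)⟩, ⟨x, e⟩]
        obtain ⟨d, hd, hdq⟩ := h.exists_at q
        have ha' : (a : G ⧸ zpowers w) ∈ QuotientGroup.mk '' I := ⟨a, ha, rfl⟩
        have hd' : (d : G ⧸ zpowers w) ∈ QuotientGroup.mk '' I := ⟨d, h.subset hd, rfl⟩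
        have hodd : Odd (orderOf ((d : G ⧸ zpowers w) * (a : G ⧸ zpowers w))) := by
          rw [← Nat.not_even_iff_odd]
          intro heven
          obtain ⟨j, hj, -, hja, hjd⟩ :=
            exists_central_involution (hq.inv ha') (hq.inv hd') heven
          exact hqp (hIH _ Ω _ _ hlt hq hqc j (himg ▸ mem_top _) hj p q (hq.fix_of_commute ha' hja hp)
            (hq.fix_of_commute hd' hjd hdq)).symm
        obtain ⟨k, -, -, -, hk⟩ := exists_conj_of_odd (hq.inv ha') (hq.inv hd') hodd
        obtain ⟨k, rfl⟩ := QuotientGroup.mk_surjective k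
        have hb : k * a * k⁻¹ ∈ I := h.conj_mem ha k
        rcases hmem (QuotientGroup.eq.mp (show ((k * a * k⁻¹ : G) : G ⧸ zpowers w) = (d : G ⧸ zpowers w)
          from hk)) with e | e
        · have := h.conj_conj (inv_mul_eq_one.mp e ▸ hd : k * a * k⁻¹ ∈ conjugatesOf z) k⁻¹
          simpa [mul_assoc] using this
        · exfalso
          have hba : d = k * a * k⁻¹ * w := by rw [← e, mul_inv_cancel_left]
          have hcd : Commute (k * a * k⁻¹) d := hba ▸ (Commute.refl _).mul_right (hc _)
          have hbq : (k * a * k⁻¹) • q = q := h.fix_of_commute (h.subset hd) hcd hdq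
          have hne : k * a * k⁻¹ ≠ d := fun e' => by
            rw [e', inv_mul_cancel] at e
            rw [← e, orderOf_one] at hw
            exact absurd hw (by norm_num)
          exact hqp (h.prod hb (h.subset hd) hne hcd hbq (q := p) (by
            rw [hba, ← mul_assoc, mul_self_of_orderOf_eq_two (h.inv hb), one_mul, hall])).symm
      refine hcover G Ω z w
        { conj_mem := fun hd g => h.conj_conj hd g
          inv := fun hd => h.inv (h.subset hd)
          unique := fun hd => h.unique (h.subset hd)
          base := mem_conjugatesOf_self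
          odd_class := h.odd_class
          prod := fun ha hb => h.prod (h.subset ha) (h.subset hb)
          trans := h.trans
          exists_ne := h.exists_ne } (hcl.mono fun d hd => h.subset hd) ?_ hw hc hall honly
      rw [eq_top_iff, ← htop]
      exact closure_mono hID
    push Not at hcen
    have hnc : ∀ (w : G), orderOf w = 2 → ∀ p q : Ω, p ≠ q → w • p = p → w • q = q →
        ¬ ∀ g : G, Commute g w := fun w hw p q hpq hp hq hall => by
      obtain ⟨g, hg⟩ := hcen w hw p q hpq hp hq
      exact hg (hall g)
    have hP := h.pre hcl hIH hnc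
    have hID : ∀ a ∈ I, a ∈ conjugatesOf z := by
      intro a ha
      obtain ⟨p, hp, -⟩ := h.unique ha
      obtain ⟨q, hqp⟩ : ∃ q : Ω, q ≠ p := by
        by_cases e : x = p
        exacts [⟨y, fun e' => hxy (e.trans e'.symm)⟩, ⟨x, e⟩]
      obtain ⟨d, hd, hdq⟩ := h.exists_at q
      have hodd : Odd (orderOf (d * a)) := by
        rw [← Nat.not_even_iff_odd]
        intro heven
        obtain ⟨j, hj, hjz, hja, hjd⟩ :=
          exists_central_involution (h.inv ha) (h.inv (h.subset hd)) heven
        have hjp := h.fix_of_commute ha hja hp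
        have hjq := h.fix_of_commute (h.subset hd) hjd hdq
        refine hqp (h.eq_of_mem_sub hcl hIH (mul_self_of_orderOf_eq_two hj)
          (Setting.centralizer_ne_top (hnc j hj p q hqp.symm hjp hjq))
          (fun s hs => mem_centralizer_singleton_iff.mp hs)
          (fun e _ he => mem_centralizer_singleton_iff.mpr he.eq) ?_ hj hjp hjq hjp hjq).symm
        exact zpowers_le.mpr (mul_mem
          (subset_closure (show d ∈ I ∩ (centralizer ({j} : Set G) : Set G) from
            ⟨h.subset hd, mem_centralizer_singleton_iff.mpr hjd.symm.eq⟩))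
          (subset_closure (show a ∈ I ∩ (centralizer ({j} : Set G) : Set G) from
            ⟨ha, mem_centralizer_singleton_iff.mpr hja.symm.eq⟩))) hjz
      obtain ⟨k, -, -, -, hk⟩ := exists_conj_of_odd (h.inv ha) (h.inv (h.subset hd)) hodd
      have := h.conj_conj (hk ▸ hd : k * a * k⁻¹ ∈ conjugatesOf z) k⁻¹
      simpa [mul_assoc] using this
    exact hxy (hP.noBad hcore (closure_mono hID htI) ht htx hty)

/-- **The criterion**: in a `Setting` no involution of the group generated by the distinguished
involutions fixes two points. -/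
theorem Setting.noBad (hcore : Core.{u}) (hcover : Cover.{u}) {G : Type u} [Group G] [Finite G]
    {Ω : Type u} [MulAction G Ω] [Finite Ω] {I : Set G} {z : G} (h : Setting G Ω I z)
    (hcl : Clique G Ω I) {t : G}
    (htI : t ∈ closure I) (ht : orderOf t = 2) {x y : Ω} (hx : t • x = x) (hy : t • y = y) :
    x = y :=
  noBadBelow hcore hcover _ G Ω I z (Nat.lt_succ_self _) h hcl t htI ht x y hx hy

end Cfsg.Agent.H1.Asch.Red
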